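import Cfsg.Agent.Mrg.Omega.EH3.RowS.Front
import Cfsg.Agent.TitsThree.WBridge
import Cfsg.Agent.LargeExtra.Dickson
import Cfsg.Agent.Nodes.WittInst
import Cfsg.Agent.Nodes.Unique
import Cfsg.Agent.Tits.Exchange
import Cfsg.Agent.Mrg.ParSys.FreeTrans
import Cfsg.Agent.Mrg.ParSys.RootEpsBD
import Cfsg.Agent.Mrg.ParSys.Fam.Rgd
import Cfsg.Agent.Nodes.TypeD
import Cfsg.Agent.Mrg.Omega.EH3.Main
import Cfsg.Agent.Mrg.Omega.EH3Close.Glue
import Cfsg.Agent.Mrg.ParSys.FreeLie
import Cfsg.Agent.Omega.EH3.Cons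
import Cfsg.Agent.Mrg.Omega.Tools.SE
import Cfsg.Agent.Omega.EH3.Of
import Cfsg.Agent.StrongEmb.Strong
import Cfsg.Agent.Mrg.Omega.VP

-- merged: Cfsg.Agent.Omega.EH3.RowS.WF
section

/-!
# RowS, BACK (helper73), part 3: Witt frames of quadratic spaces over `ZMod 2`

`HF`, `PF` : the hermitian form and the admissible pairs of `(U, γ, Q)`.
`exists_wframe` : a Witt frame `W` with `W.e 0 = a` for a given singular vector `a ≠ 0`; the anisotropic part is `0` or
has order 4 (`Aniso`).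
-/

set_option autoImplicit false

namespace Cfsg.Agent.Omega.EH3.RowS.WF

open Cfsg.Agent.TitsThree.Siegel Cfsg.Agent.TitsThree.SiegelGen Cfsg.Agent.Omega.EH3.RowS

variable {U : Type*} [AddCommGroup U] [Module (ZMod 2) U] {γ : LinearMap.BilinForm (ZMod 2) U} {Q : U → ZMod 2}

/-- the hermitian form of a symplectic form -/
def HF (S : Sy γ) : HForm (ZMod 2) U where
  σ := RingEquiv.refl _
  σσ _ := rfl
  ε := 1
  ε_mul := by simp
  h v w := γ v w
  add_left v v' w := by rw [map_add]; rfl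
  smul_left c v w := by rw [map_smul]; rfl
  swap v w := by
    show γ w v = 1 * γ v w
    rw [one_mul, S.comm]

theorem HF_h (S : Sy γ) (v w : U) : (HF S).h v w = γ v w := rfl

theorem neg_z (c : ZMod 2) : -c = c := by revert c; decide

theorem neg_u (v : U) : -v = v := by
  rw [neg_eq_iff_add_eq_zero]
  exact add_self v

theorem sub_u (v w : U) : v - w = v + w := by rw [sub_eq_add_neg, neg_u]

/-- the admissible pairs `(w, Q w)` -/
def PF (S : Sy γ) (hQ : IsQ γ Q) : PQ (HF S) where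
  ok w c := c = Q w
  ex w := ⟨_, rfl⟩
  zero := hQ.zero.symm
  rel {w c} hc := by
    show 1 * c + c = -γ w w
    rw [S.alt, one_mul, neg_zero]
    exact z2_add c
  add {w c w' c'} h h' := by
    show c + c' - 1⁻¹ * γ w' w = Q (w + w')
    rw [hQ.add, h, h', inv_one, one_mul, S.comm w' w, sub_eq_add_neg, neg_z]
  smul {w c} a h := by
    show a * a * c = Q (a • w)
    rw [hQ.smul, h]
    rcases z2 a with rfl | rfl <;> simp
  lam {w c} m h := by
    show c + m - 1⁻¹ * m = Q w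
    rw [inv_one, one_mul, add_sub_cancel_right]
    exact h

theorem PF_ok (S : Sy γ) (hQ : IsQ γ Q) (w : U) (c : ZMod 2) : (PF S hQ).ok w c ↔ c = Q w := Iff.rfl

theorem sie_eq (S : Sy γ) {u w : U} {c : ZMod 2} (hu : (HF S).h u u = 0) (hw : (HF S).h u w = 0) (v : U) :
    (HF S).sie u w c hu hw v = rr γ u w c v := by
  rw [HForm.sie_apply]
  show v + γ v u • w - (1⁻¹ * γ v w) • u + (c * γ v u) • u = v + γ u v • w + γ w v • u + (c * γ u v) • u
  rw [inv_one, one_mul, sub_u, S.comm v u, S.comm v w]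

/-! ### Partial frames -/

/-- a partial frame -/
structure PFr (γ : LinearMap.BilinForm (ZMod 2) U) (Q : U → ZMod 2) (k : ℕ) (e f : Fin k → U) : Prop where
  ee : ∀ i j, γ (e i) (e j) = 0
  ff : ∀ i j, γ (f i) (f j) = 0
  ef : ∀ i j, γ (e i) (f j) = if i = j then 1 else 0
  qe : ∀ i, Q (e i) = 0
  qf : ∀ i, Q (f i) = 0

/-- the projection to the orthogonal complement -/
def pr (γ : LinearMap.BilinForm (ZMod 2) U) {k : ℕ} (e f : Fin k → U) (v : U) : U :=
  v + ∑ i, γ v (f i) • e i + ∑ i, γ v (e i) • f i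

section

variable {k : ℕ} {e f : Fin k → U}

theorem sum_apply (c : Fin k → ZMod 2) (x : Fin k → U) (y : U) :
    γ (∑ i, c i • x i) y = ∑ i, c i * γ (x i) y := by
  rw [map_sum, LinearMap.sum_apply]
  exact Finset.sum_congr rfl fun i _ => by rw [map_smul, LinearMap.smul_apply, smul_eq_mul]

variable (S : Sy γ) (hF : PFr γ Q k e f)

include S hF

theorem fe (i j : Fin k) : γ (f i) (e j) = if i = j then 1 else 0 := by
  rw [S.comm, hF.ef]
  simp [eq_comm]

theorem pr_e (v : U) (j : Fin k) : γ (pr γ e f v) (e j) = 0 := by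
  unfold pr
  rw [map_add, map_add, LinearMap.add_apply, LinearMap.add_apply, sum_apply, sum_apply]
  simp only [hF.ee, fe S hF, mul_zero, Finset.sum_const_zero, add_zero, mul_ite, mul_one, Finset.sum_ite_eq',
    Finset.mem_univ, if_true]
  exact z2_add _

theorem pr_f (v : U) (j : Fin k) : γ (pr γ e f v) (f j) = 0 := by
  unfold pr
  rw [map_add, map_add, LinearMap.add_apply, LinearMap.add_apply, sum_apply, sum_apply]
  simp only [hF.ff, hF.ef, mul_zero, Finset.sum_const_zero, add_zero, mul_ite, mul_one, Finset.sum_ite_eq',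
    Finset.mem_univ, if_true]
  exact z2_add _

theorem pr_perp {u : U} (he : ∀ i, γ u (e i) = 0) (hf : ∀ i, γ u (f i) = 0) (v : U) :
    γ (pr γ e f v) u = γ v u := by
  unfold pr
  rw [map_add, map_add, LinearMap.add_apply, LinearMap.add_apply, sum_apply, sum_apply]
  have h1 : ∀ i, γ (e i) u = 0 := fun i => by rw [S.comm]; exact he i
  have h2 : ∀ i, γ (f i) u = 0 := fun i => by rw [S.comm]; exact hf i
  simp only [h1, h2, mul_zero, Finset.sum_const_zero, add_zero]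

theorem inj_e : Function.Injective e := by
  intro i j hij
  by_contra hne
  have h1 := hF.ef i i
  rw [if_pos rfl, hij, hF.ef, if_neg (Ne.symm hne)] at h1
  exact absurd h1 (by decide)

theorem le_card [Finite U] : k ≤ Nat.card U := by
  have h1 := Nat.card_le_card_of_injective e (inj_e S hF)
  rwa [Nat.card_eq_fintype_card, Fintype.card_fin] at h1

end

/-- one more hyperbolic pair -/
theorem exists_pair [Finite U] (S : Sy γ) (hQ : IsQ γ Q) {k : ℕ} {e f : Fin k → U} (hF : PFr γ Q k e f) {u : U}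
    (hu : u ≠ 0) (hq : Q u = 0) (he : ∀ i, γ u (e i) = 0) (hf : ∀ i, γ u (f i) = 0) :
    ∃ v, PFr γ Q (k + 1) (Fin.snoc e u : Fin (k + 1) → U) (Fin.snoc f v : Fin (k + 1) → U) := by
  obtain ⟨v0, hv0⟩ := S.exists_one hu
  have h1 : γ (pr γ e f v0) u = 1 := by rw [pr_perp S hF he hf, hv0]
  set v1 := pr γ e f v0 with hv1
  have h2 : ∀ i, γ v1 (e i) = 0 := pr_e S hF v0
  have h3 : ∀ i, γ v1 (f i) = 0 := pr_f S hF v0
  refine ⟨v1 + Q v1 • u, ?_⟩
  have hve : ∀ i, γ (v1 + Q v1 • u) (e i) = 0 := fun i => by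
    rw [map_add, map_smul, LinearMap.add_apply, LinearMap.smul_apply, h2, he, smul_zero, add_zero]
  have hvf : ∀ i, γ (v1 + Q v1 • u) (f i) = 0 := fun i => by
    rw [map_add, map_smul, LinearMap.add_apply, LinearMap.smul_apply, h3, hf, smul_zero, add_zero]
  have hvu : γ (v1 + Q v1 • u) u = 1 := by
    rw [map_add, map_smul, LinearMap.add_apply, LinearMap.smul_apply, h1, S.alt, smul_zero, add_zero]
  have hqv : Q (v1 + Q v1 • u) = 0 := by
    rw [hQ.add, hQ.smul, hq, mul_zero, add_zero, map_smul, h1, smul_eq_mul, mul_one]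
    exact z2_add _
  constructor
  · intro i j
    refine Fin.lastCases ?_ (fun i => ?_) i <;> refine Fin.lastCases ?_ (fun j => ?_) j
    · rw [Fin.snoc_last]; exact S.alt u
    · rw [Fin.snoc_last, Fin.snoc_castSucc]; exact he j
    · rw [Fin.snoc_last, Fin.snoc_castSucc, S.comm]; exact he i
    · rw [Fin.snoc_castSucc, Fin.snoc_castSucc]; exact hF.ee i j
  · intro i j
    refine Fin.lastCases ?_ (fun i => ?_) i <;> refine Fin.lastCases ?_ (fun j => ?_) j
    · rw [Fin.snoc_last]; exact S.alt _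
    · rw [Fin.snoc_last, Fin.snoc_castSucc]; exact hvf j
    · rw [Fin.snoc_last, Fin.snoc_castSucc, S.comm]; exact hvf i
    · rw [Fin.snoc_castSucc, Fin.snoc_castSucc]; exact hF.ff i j
  · intro i j
    refine Fin.lastCases ?_ (fun i => ?_) i <;> refine Fin.lastCases ?_ (fun j => ?_) j
    · rw [Fin.snoc_last, Fin.snoc_last, if_pos rfl, S.comm]; exact hvu
    · rw [Fin.snoc_last, Fin.snoc_castSucc, if_neg (Fin.castSucc_lt_last j).ne']; exact hf j
    · rw [Fin.snoc_last, Fin.snoc_castSucc, if_neg (Fin.castSucc_lt_last i).ne, S.comm]; exact hve i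
    · rw [Fin.snoc_castSucc, Fin.snoc_castSucc, hF.ef]
      simp only [Fin.castSucc_inj]
  · intro i
    refine Fin.lastCases ?_ (fun i => ?_) i
    · rw [Fin.snoc_last]; exact hq
    · rw [Fin.snoc_castSucc]; exact hF.qe i
  · intro i
    refine Fin.lastCases ?_ (fun i => ?_) i
    · rw [Fin.snoc_last]; exact hqv
    · rw [Fin.snoc_castSucc]; exact hF.qf i

/-- extension to a maximal frame -/
theorem exists_max [Finite U] (S : Sy γ) (hQ : IsQ γ Q) : ∀ (d k : ℕ) (e f : Fin (k + 1) → U),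
    PFr γ Q (k + 1) e f → Nat.card U ≤ k + d →
    ∃ (k' : ℕ) (e' f' : Fin (k' + 1) → U), PFr γ Q (k' + 1) e' f' ∧ e' 0 = e 0 ∧
      ∀ u, (∀ i, γ u (e' i) = 0) → (∀ i, γ u (f' i) = 0) → Q u = 0 → u = 0 := by
  intro d
  induction d with
  | zero =>
    intro k e f hF hk
    have := le_card S hF
    omega
  | succ d ih =>
    intro k e f hF hk
    by_cases hu : ∃ u, (∀ i, γ u (e i) = 0) ∧ (∀ i, γ u (f i) = 0) ∧ Q u = 0 ∧ u ≠ 0
    · obtain ⟨u, h1, h2, h3, h4⟩ := hu
      obtain ⟨v, hv⟩ := exists_pair S hQ hF h4 h3 h1 h2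
      obtain ⟨k', e', f', h5, h6, h7⟩ := ih (k + 1) _ _ hv (by omega)
      refine ⟨k', e', f', h5, ?_, h7⟩
      rw [h6]
      exact Fin.snoc_castSucc (α := fun _ => U) u e (0 : Fin (k + 1))
    · push Not at hu
      exact ⟨k, e, f, hF, rfl, fun u h1 h2 h3 => hu u h1 h2 h3⟩

theorem exists_first [Finite U] (S : Sy γ) (hQ : IsQ γ Q) {a : U} (ha : a ≠ 0) (hq : Q a = 0) :
    ∃ (e f : Fin 1 → U), PFr γ Q 1 e f ∧ e 0 = a := by
  have h0 : PFr γ Q 0 (Fin.elim0 : Fin 0 → U) (Fin.elim0 : Fin 0 → U) :=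
    ⟨fun i => i.elim0, fun i => i.elim0, fun i => i.elim0, fun i => i.elim0, fun i => i.elim0⟩
  obtain ⟨v, hv⟩ := exists_pair S hQ h0 ha hq (fun i => i.elim0) (fun i => i.elim0)
  exact ⟨_, _, hv, Fin.snoc_last (α := fun _ => U) (n := 0) a _⟩

/-! ### The Witt frame -/

/-- the orthogonal complement of a partial frame -/
def V0 (γ : LinearMap.BilinForm (ZMod 2) U) {k : ℕ} (e f : Fin k → U) : Submodule (ZMod 2) U where
  carrier := {u | (∀ i, γ u (e i) = 0) ∧ ∀ i, γ u (f i) = 0}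
  add_mem' {x y} hx hy := ⟨fun i => by rw [map_add, LinearMap.add_apply, hx.1, hy.1, add_zero],
    fun i => by rw [map_add, LinearMap.add_apply, hx.2, hy.2, add_zero]⟩
  zero_mem' := ⟨fun i => by rw [map_zero]; rfl, fun i => by rw [map_zero]; rfl⟩
  smul_mem' c x hx := ⟨fun i => by rw [map_smul, LinearMap.smul_apply, hx.1, smul_zero],
    fun i => by rw [map_smul, LinearMap.smul_apply, hx.2, smul_zero]⟩

theorem mem_V0 {k : ℕ} {e f : Fin k → U} {u : U} :
    u ∈ V0 γ e f ↔ (∀ i, γ u (e i) = 0) ∧ ∀ i, γ u (f i) = 0 := Iff.rfl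

theorem eq_sum {k : ℕ} {e f : Fin k → U} (v : U) :
    v = ∑ i, γ v (f i) • e i + ∑ i, γ v (e i) • f i + pr γ e f v := by
  unfold pr
  have h1 := add_self (∑ i, γ v (f i) • e i)
  have h2 := add_self (∑ i, γ v (e i) • f i)
  calc v = v + (∑ i, γ v (f i) • e i + ∑ i, γ v (f i) • e i) +
        (∑ i, γ v (e i) • f i + ∑ i, γ v (e i) • f i) := by rw [h1, h2, add_zero, add_zero]
    _ = _ := by abel

/-- the Witt frame of a maximal partial frame -/
def wf (S : Sy γ) (hQ : IsQ γ Q) {k : ℕ} {e f : Fin k → U} (hF : PFr γ Q k e f)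
    (han : ∀ u, (∀ i, γ u (e i) = 0) → (∀ i, γ u (f i) = 0) → Q u = 0 → u = 0) : WFrame (PF S hQ) k where
  e := e
  f := f
  V0 := V0 γ e f
  ee := hF.ee
  ff := hF.ff
  ef := hF.ef
  fe := fe S hF
  e_sing i := (hF.qe i).symm
  f_sing i := (hF.qf i).symm
  V0e w hw i := hw.1 i
  V0f w hw i := hw.2 i
  aniso w hw h := han w hw.1 hw.2 h.symm
  span v := ⟨_, _, pr γ e f v, ⟨pr_e S hF v, pr_f S hF v⟩, eq_sum v⟩

/-- the anisotropic part -/
structure Aniso (γ : LinearMap.BilinForm (ZMod 2) U) (Q : U → ZMod 2) (V : Submodule (ZMod 2) U) (x y : U) : Prop where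
  x_mem : x ∈ V
  y_mem : y ∈ V
  qx : Q x = 1
  qy : Q y = 1
  xy : γ x y = 1
  all : ∀ w ∈ V, w = 0 ∨ w = x ∨ w = y ∨ w = x + y

theorem card_aniso {V : Submodule (ZMod 2) U} {x y : U} (hQ : IsQ γ Q) (h : Aniso γ Q V x y) : Nat.card V = 4 := by
  have hx0 : x ≠ 0 := by rintro rfl; exact absurd (h.qx.symm.trans hQ.zero) (by decide)
  have hy0 : y ≠ 0 := by rintro rfl; exact absurd (h.qy.symm.trans hQ.zero) (by decide)
  have hxy : x + y ≠ 0 := by
    intro h1
    have h2 := hQ.add x y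
    rw [h1, h.qx, h.qy, h.xy, hQ.zero] at h2
    exact absurd h2 (by decide)
  have hne : x ≠ y := fun h1 => hxy (add_eq_zero.2 h1)
  have e1 : (V : Set U) = {0, x, y, x + y} := by
    ext w
    simp only [Set.mem_insert_iff, Set.mem_singleton_iff]
    constructor
    · exact h.all w
    · rintro (rfl | rfl | rfl | rfl)
      · exact V.zero_mem
      · exact h.x_mem
      · exact h.y_mem
      · exact V.add_mem h.x_mem h.y_mem
  have e2 : Nat.card V = (V : Set U).ncard := rfl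
  rw [e2, e1]
  have h3 : (0 : U) ∉ ({x, y, x + y} : Set U) := by
    simp only [Set.mem_insert_iff, Set.mem_singleton_iff, not_or]
    exact ⟨hx0.symm, hy0.symm, hxy.symm⟩
  have h4 : x ∉ ({y, x + y} : Set U) := by
    simp only [Set.mem_insert_iff, Set.mem_singleton_iff, not_or]
    exact ⟨hne, fun h5 => hy0 (left_eq_add.1 h5)⟩
  have h5 : y ∉ ({x + y} : Set U) := by
    rw [Set.mem_singleton_iff]
    exact fun h5 => hx0 (right_eq_add.1 h5)
  rw [Set.ncard_insert_of_notMem h3, Set.ncard_insert_of_notMem h4, Set.ncard_insert_of_notMem h5,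
    Set.ncard_singleton]

/-- `V0` is trivial or a plane -/
theorem V0_cases [Finite U] (S : Sy γ) (hQ : IsQ γ Q) {k : ℕ} {e f : Fin k → U} (hF : PFr γ Q k e f)
    (han : ∀ u, (∀ i, γ u (e i) = 0) → (∀ i, γ u (f i) = 0) → Q u = 0 → u = 0) :
    V0 γ e f = ⊥ ∨ ∃ x y, Aniso γ Q (V0 γ e f) x y := by
  by_cases hV : V0 γ e f = ⊥
  · exact Or.inl hV
  right
  obtain ⟨x, hx, hx0⟩ := (Submodule.ne_bot_iff _).1 hV
  have hq1 : ∀ u ∈ V0 γ e f, u ≠ 0 → Q u = 1 := fun u hu h0 => z2_ne fun h => h0 (han u hu.1 hu.2 h)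
  obtain ⟨y0, hy0⟩ := S.exists_one hx0
  have hyx : γ (pr γ e f y0) x = 1 := by rw [pr_perp S hF hx.1 hx.2, hy0]
  have hy : pr γ e f y0 ∈ V0 γ e f := ⟨pr_e S hF y0, pr_f S hF y0⟩
  set y := pr γ e f y0 with hyd
  have hyne : y ≠ 0 := by
    intro h
    rw [h, map_zero] at hyx
    exact absurd hyx (by simp)
  have hxy : γ x y = 1 := by rw [S.comm]; exact hyx
  refine ⟨x, y, hx, hy, hq1 x hx hx0, hq1 y hy hyne, hxy, fun w hw => ?_⟩
  have key : w + γ w y • x + γ w x • y = 0 := by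
    by_contra hne
    have hw' : w + γ w y • x + γ w x • y ∈ V0 γ e f :=
      Submodule.add_mem _ (Submodule.add_mem _ hw (Submodule.smul_mem _ _ hx)) (Submodule.smul_mem _ _ hy)
    set w' := w + γ w y • x + γ w x • y with hwd
    have h1 : γ w' x = 0 := by
      rw [hwd, map_add, map_add, map_smul, map_smul, LinearMap.add_apply, LinearMap.add_apply,
        LinearMap.smul_apply, LinearMap.smul_apply, S.alt, hyx, smul_zero, add_zero, smul_eq_mul, mul_one]
      exact z2_add _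
    have h2 : γ w' y = 0 := by
      rw [hwd, map_add, map_add, map_smul, map_smul, LinearMap.add_apply, LinearMap.add_apply,
        LinearMap.smul_apply, LinearMap.smul_apply, S.alt, hxy, smul_zero, add_zero, smul_eq_mul, mul_one]
      exact z2_add _
    have h3 : Q (w' + x) = 0 := by
      rw [hQ.add, hq1 w' hw' hne, hq1 x hx hx0, h1]
      decide
    have h4 : w' + x = 0 := by
      have := Submodule.add_mem _ hw' hx
      exact han _ this.1 this.2 h3
    have h5 : w' = x := add_eq_zero.1 h4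
    rw [h5, hxy] at h2
    exact absurd h2 (by decide)
  have e1 : w = γ w y • x + γ w x • y := by
    rw [add_assoc] at key
    exact add_eq_zero.1 key
  rcases z2 (γ w y) with h1 | h1 <;> rcases z2 (γ w x) with h2 | h2 <;> rw [h1, h2] at e1
  · left; rw [e1]; simp
  · right; right; left; rw [e1]; simp
  · right; left; rw [e1]; simp
  · right; right; right; rw [e1]; simp

/-- the order of `U` -/
theorem card_eq (S : Sy γ) {k : ℕ} {e f : Fin k → U} (hF : PFr γ Q k e f) :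
    Nat.card U = 2 ^ (2 * k) * Nat.card (V0 γ e f) := by
  let g : U → (Fin k → ZMod 2) × (Fin k → ZMod 2) × V0 γ e f := fun v =>
    (fun i => γ v (f i), fun i => γ v (e i), ⟨pr γ e f v, pr_e S hF v, pr_f S hF v⟩)
  have hg : Function.Bijective g := by
    constructor
    · intro v v' h
      have h1 : ∀ i, γ v (f i) = γ v' (f i) := fun i => congrFun (congrArg Prod.fst h) i
      have h2 : ∀ i, γ v (e i) = γ v' (e i) := fun i => congrFun (congrArg (fun x => x.2.1) h) i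
      have h3 : pr γ e f v = pr γ e f v' := congrArg (fun x => (x.2.2 : U)) h
      rw [eq_sum (γ := γ) (e := e) (f := f) v, eq_sum (γ := γ) (e := e) (f := f) v', h3]
      simp only [h1, h2]
    · rintro ⟨a, b, w, hw1, hw2⟩
      have he : ∀ i, γ (∑ i, a i • e i + ∑ i, b i • f i + w) (e i) = b i := by
        intro i
        rw [map_add, map_add, LinearMap.add_apply, LinearMap.add_apply, sum_apply, sum_apply, hw1]
        simp only [hF.ee, fe S hF, mul_zero, Finset.sum_const_zero, add_zero, zero_add, mul_ite, mul_one,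
          Finset.sum_ite_eq', Finset.mem_univ, if_true]
      have hf : ∀ i, γ (∑ i, a i • e i + ∑ i, b i • f i + w) (f i) = a i := by
        intro i
        rw [map_add, map_add, LinearMap.add_apply, LinearMap.add_apply, sum_apply, sum_apply, hw2]
        simp only [hF.ff, hF.ef, mul_zero, Finset.sum_const_zero, add_zero, zero_add, mul_ite, mul_one,
          Finset.sum_ite_eq', Finset.mem_univ, if_true]
      refine ⟨∑ i, a i • e i + ∑ i, b i • f i + w, ?_⟩
      refine Prod.ext (funext hf) (Prod.ext (funext he) (Subtype.ext ?_))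
      show pr γ e f (∑ i, a i • e i + ∑ i, b i • f i + w) = w
      have h1 := eq_sum (γ := γ) (e := e) (f := f) (∑ i, a i • e i + ∑ i, b i • f i + w)
      simp only [he, hf] at h1
      exact (add_left_cancel h1).symm
  rw [Nat.card_congr (Equiv.ofBijective g hg), Nat.card_prod, Nat.card_prod, Nat.card_fun, Nat.card_zmod,
    Nat.card_eq_fintype_card (α := Fin k), Fintype.card_fin]
  ring

/-- **the Witt frame** -/
theorem exists_wframe [Finite U] (S : Sy γ) (hQ : IsQ γ Q) {a : U} (ha : a ≠ 0) (hq : Q a = 0) :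
    ∃ (k : ℕ) (W : WFrame (PF S hQ) (k + 1)), W.e 0 = a ∧ Nat.card U = 2 ^ (2 * (k + 1)) * Nat.card W.V0 ∧
      (W.V0 = ⊥ ∨ ∃ x y, Aniso γ Q W.V0 x y) := by
  obtain ⟨e, f, hF, he⟩ := exists_first S hQ ha hq
  obtain ⟨k, e', f', hF', he', han⟩ := exists_max S hQ (Nat.card U) 0 e f hF (by omega)
  exact ⟨k, wf S hQ hF' han, he'.trans he, card_eq S hF', V0_cases S hQ hF' han⟩

end Cfsg.Agent.Omega.EH3.RowS.WF

end

-- merged: Cfsg.Agent.Mrg.Omega.EH3.RowS.OGrp
section

section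


/-!
# RowS, BACK (helper73), part 4: the group generated by the Siegel maps

`OG γ Q G0` : `G0` is the group of isometries of `(U, γ, Q)` generated by the Siegel maps `rr γ u w (Q w)`.
`OG.even_fix` : the Dickson parity; `OG.ambT`, `OG.amb` : the ambient structures for the root group data of Witt frames.
-/

set_option autoImplicit false

namespace Cfsg.Agent.Omega.EH3.RowS

open Module Cfsg.Agent.LargeExtra.Dickson Cfsg.Agent.TitsThree.Siegel Cfsg.Agent.TitsThree.SiegelGen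
  Cfsg.Agent.TitsThree.WittFrame Cfsg.Agent.TitsThree.WBridge Cfsg.Agent.Nodes.WittAll Cfsg.Agent.Nodes.WittRoot
  Cfsg.Agent.Nodes.WittU WF

variable {U : Type*} [AddCommGroup U] [Module (ZMod 2) U] {γ : LinearMap.BilinForm (ZMod 2) U} {Q : U → ZMod 2}

/-- the group generated by the Siegel maps -/
structure OG (γ : LinearMap.BilinForm (ZMod 2) U) (Q : U → ZMod 2) (G0 : Subgroup (U ≃ₗ[ZMod 2] U)) : Prop where
  iso : ∀ g ∈ G0, ∀ u v, γ (g u) (g v) = γ u v
  isq : ∀ g ∈ G0, ∀ v, Q (g v) = Q v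
  mem : ∀ u w, u ≠ 0 → Q u = 0 → γ u w = 0 → ∃ g ∈ G0, ∀ v, g v = rr γ u w (Q w) v
  gen : G0 ≤ Subgroup.closure {g | ∃ u w, Q u = 0 ∧ γ u w = 0 ∧ ∀ v, g v = rr γ u w (Q w) v}

theorem finrank_dual_ker [Finite U] (S : Sy γ) {u : U} (hu : u ≠ 0) :
    finrank (ZMod 2) (LinearMap.ker (γ u)) + 1 = finrank (ZMod 2) U := by
  have : FiniteDimensional (ZMod 2) U := Module.Finite.of_finite
  have hne : γ u ≠ 0 := by
    intro h0
    apply hu
    apply S.nondeg
    intro w
    rw [h0]; rfl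
  have h1 := LinearMap.finrank_range_add_finrank_ker (γ u)
  have h2 : LinearMap.range (γ u) = ⊤ := LinearMap.range_eq_top.2 (LinearMap.surjective hne)
  rw [h2, finrank_top, finrank_self] at h1
  omega

theorem even_one : Even (finrank (ZMod 2) (fix (1 : U ≃ₗ[ZMod 2] U)) + finrank (ZMod 2) U) := by
  have e : fix (1 : U ≃ₗ[ZMod 2] U) = ⊤ := by
    rw [eq_top_iff]
    intro v _
    rw [mem_fix]; rfl
  rw [e, finrank_top]
  exact ⟨_, rfl⟩

/-- Siegel maps have even Dickson invariant. -/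
theorem even_siegel [Finite U] (S : Sy γ) (hQ : IsQ γ Q) {u w : U} (hu : Q u = 0) (_huw : γ u w = 0)
    {g : U ≃ₗ[ZMod 2] U} (hg : ∀ v, g v = rr γ u w (Q w) v) :
    Even (finrank (ZMod 2) (fix g) + finrank (ZMod 2) U) := by
  have : FiniteDimensional (ZMod 2) U := Module.Finite.of_finite
  have triv : (∀ v, rr γ u w (Q w) v = v) → Even (finrank (ZMod 2) (fix g) + finrank (ZMod 2) U) := by
    intro h
    have : g = 1 := by
      ext v
      rw [hg, h]; rfl
    rw [this]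
    exact even_one
  by_cases hu0 : u = 0
  · apply triv
    intro v
    rw [hu0]
    simp [rr]
  by_cases hw0 : w = 0
  · apply triv
    intro v
    rw [hw0]
    simp [rr, hQ.zero]
  by_cases hwu : w = u
  · apply triv
    intro v
    rw [hwu, hu]
    unfold rr
    rw [zero_mul, zero_smul, add_zero, add_assoc, add_self, add_zero]
  have e : fix g = LinearMap.ker ((γ u).prod (γ w)) := by
    ext v
    rw [mem_fix, hg, LinearMap.mem_ker, LinearMap.prod_apply]
    show rr γ u w (Q w) v = v ↔ (γ u v, γ w v) = (0, 0)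
    rw [Prod.mk_inj]
    unfold rr
    constructor
    · intro h
      have h1 : γ u v • w + (γ w v + Q w * γ u v) • u = 0 := by
        have h2 : v + (γ u v • w + (γ w v + Q w * γ u v) • u) = v := by
          rw [add_smul]
          calc _ = v + γ u v • w + γ w v • u + (Q w * γ u v) • u := by abel
            _ = v := h
        exact add_eq_left.1 h2
      rcases z2 (γ u v) with h3 | h3
      · refine ⟨h3, ?_⟩
        rw [h3, zero_smul, zero_add, mul_zero, add_zero] at h1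
        exact (smul_eq_zero.1 h1).resolve_right hu0
      · exfalso
        rw [h3, one_smul, mul_one] at h1
        have h4 := add_eq_zero.1 h1
        rcases z2 (γ w v + Q w) with h5 | h5
        · rw [h5, zero_smul] at h4
          exact hw0 h4
        · rw [h5, one_smul] at h4
          exact hwu h4
    · rintro ⟨h1, h2⟩
      rw [h1, h2]
      simp
  have hsurj : LinearMap.range ((γ u).prod (γ w)) = ⊤ := by
    rw [LinearMap.range_eq_top]
    rintro ⟨α, β⟩
    obtain ⟨y, h1, h2⟩ := S.exists_two hu0 hw0 hwu α β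
    exact ⟨y, Prod.ext (by show γ u y = α; rw [S.comm]; exact h1) (by show γ w y = β; rw [S.comm]; exact h2)⟩
  have h1 := LinearMap.finrank_range_add_finrank_ker ((γ u).prod (γ w))
  rw [hsurj, finrank_top, Module.finrank_prod, finrank_self] at h1
  rw [e, ← h1, Nat.even_iff]
  omega

namespace OG

variable {G0 : Subgroup (U ≃ₗ[ZMod 2] U)}

/-- **the Dickson parity** -/
theorem even_fix [Finite U] (S : Sy γ) (hQ : IsQ γ Q) (h : OG γ Q G0) {g : U ≃ₗ[ZMod 2] U} (hg : g ∈ G0) :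
    Even (finrank (ZMod 2) (fix g) + finrank (ZMod 2) U) := by
  have : FiniteDimensional (ZMod 2) U := Module.Finite.of_finite
  have key : ∀ g ∈ Subgroup.closure {g : U ≃ₗ[ZMod 2] U | ∃ u w, Q u = 0 ∧ γ u w = 0 ∧ ∀ v, g v = rr γ u w (Q w) v},
      (∀ v, Q (g v) = Q v) ∧ Even (finrank (ZMod 2) (fix g) + finrank (ZMod 2) U) := by
    intro g hg
    induction hg using Subgroup.closure_induction with
    | mem g hg =>
      obtain ⟨u, w, hu, huw, h1⟩ := hg
      refine ⟨fun v => ?_, even_siegel S hQ hu huw h1⟩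
      by_cases hu0 : u = 0
      · rw [h1, hu0]; simp [rr]
      · obtain ⟨k, hk, hk'⟩ := h.mem u w hu0 hu huw
        rw [h1, ← hk']
        exact h.isq k hk v
    | one => exact ⟨fun v => rfl, even_one⟩
    | mul g k _ _ h1 h2 =>
      refine ⟨fun v => ?_, ?_⟩
      · show Q (g (k v)) = Q v
        rw [h1.1, h2.1]
      · have h3 := even_sum Q γ hQ.add S.nondeg S.comm g k h1.1 h2.1
        have h4 := h1.2
        have h5 := h2.2
        rw [Nat.even_iff] at h3 h4 h5 ⊢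
        omega
    | inv g _ h1 =>
      refine ⟨fun v => ?_, ?_⟩
      · have h2 := h1.1 (g⁻¹ v)
        have e : g (g⁻¹ v) = v := g.apply_symm_apply v
        rw [e] at h2
        exact h2.symm
      · have e : fix g⁻¹ = fix g := by
          ext v
          rw [mem_fix, mem_fix]
          constructor
          · intro h2
            have e : g (g⁻¹ v) = v := g.apply_symm_apply v
            rwa [h2] at e
          · intro h2
            have e : g⁻¹ (g v) = v := g.symm_apply_apply v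
            rwa [h2] at e
        rw [e]
        exact h1.2
  exact (key g (h.gen hg)).2

variable (S : Sy γ) (hQ : IsQ γ Q) (h : OG γ Q G0)

include h

theorem sie_mem {u w : U} {c : ZMod 2} (hu : (HF S).h u u = 0) (hw : (HF S).h u w = 0) (hq : Q u = 0) (hc : c = Q w) :
    (HF S).sie u w c hu hw ∈ G0 := by
  subst hc
  by_cases hu0 : u = 0
  · have : (HF S).sie u w (Q w) hu hw = 1 := by
      ext v
      rw [sie_eq, hu0]
      simp [rr]
    rw [this]
    exact one_mem _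
  · obtain ⟨g, hg, h1⟩ := h.mem u w hu0 hq hw
    have : (HF S).sie u w (Q w) hu hw = g := by
      ext v
      rw [sie_eq, h1]
    rw [this]
    exact hg

variable {k : ℕ} (W : WFrame (PF S hQ) k)

theorem X_mem (x y : Fin k × Bool) (t : ZMod 2) : (toFrame W).X x y t ∈ G0 := by
  by_cases hxy : x.1 ≠ y.1
  · rw [Frame.X_eq _ hxy]
    refine h.sie_mem S _ _ ?_ ?_
    · exact ((b_sing W x : (0 : ZMod 2) = Q _)).symm
    · rw [hQ.smul, ← (b_sing W y : (0 : ZMod 2) = Q _), mul_zero]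
  · unfold Frame.X
    rw [dif_neg hxy]
    exact one_mem _

theorem Z_mem (x : Fin k × Bool) (p : (toFrame W).Adm) : (toFrame W).Z x p ∈ G0 := by
  unfold Frame.Z
  exact h.sie_mem S _ _ (b_sing W x : (0 : ZMod 2) = Q _).symm p.ok.2

theorem amb (h0 : W.V0 = ⊥) : Amb (toFrame W) G0 := by
  refine amb_of W G0 (fun g hg u v => h.iso g hg u v) ?_ (h.X_mem S hQ W) (h.Z_mem S hQ W) ?_
  · intro g hg w c hc
    have hc : c = Q w := hc
    show c = Q (g w)
    rw [hc, h.isq g hg]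
  · intro w hw _
    rw [h0, Submodule.mem_bot] at hw
    rw [hw]
    exact (PF S hQ).zero

theorem map_V0 {g : U ≃ₗ[ZMod 2] U} (hg : g ∈ G0) (hb : ∀ x, g ((toFrame W).b x) = (toFrame W).b x) {w : U}
    (hw : w ∈ W.V0) : g w ∈ W.V0 := by
  refine mem_V0_of_orth W (fun i => ?_) (fun i => ?_)
  · show γ (g w) (W.e i) = 0
    have h1 : g (W.e i) = W.e i := hb (i, true)
    rw [← h1, h.iso g hg]
    exact W.V0e w hw i
  · show γ (g w) (W.f i) = 0
    have h1 : g (W.f i) = W.f i := hb (i, false)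
    rw [← h1, h.iso g hg]
    exact W.V0f w hw i

/-- an involution fixing the frame is trivial -/
theorem fixp [Finite U] {x y : U} (hV : Aniso γ Q W.V0 x y) (hev : Even (finrank (ZMod 2) U)) {g : U ≃ₗ[ZMod 2] U}
    (hg : g ∈ G0) (hg2 : g ^ 2 = 1) (hb : ∀ x, g ((toFrame W).b x) = (toFrame W).b x) : g = 1 := by
  have hgg : ∀ v, g (g v) = v := fun v => by
    have h1 : (g * g) v = v := by rw [← pow_two, hg2]; rfl
    exact h1
  have hx0 : x ≠ 0 := by rintro rfl; exact absurd (hV.qx.symm.trans hQ.zero) (by decide)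
  have hy0 : y ≠ 0 := by rintro rfl; exact absurd (hV.qy.symm.trans hQ.zero) (by decide)
  have hyx : γ y x = 1 := by rw [S.comm]; exact hV.xy
  have hxy : x ≠ y := by
    rintro rfl
    rw [S.alt] at hyx
    exact absurd hyx (by decide)
  have hgx : g x = x ∨ g x = y ∨ g x = x + y := by
    rcases hV.all _ (h.map_V0 S hQ W hg hb hV.x_mem) with h1 | h1 | h1 | h1
    · exact absurd ((LinearEquiv.map_eq_zero_iff g).1 h1) hx0
    · exact Or.inl h1
    · exact Or.inr (Or.inl h1)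
    · exact Or.inr (Or.inr h1)
  have hgy : g y = x ∨ g y = y ∨ g y = x + y := by
    rcases hV.all _ (h.map_V0 S hQ W hg hb hV.y_mem) with h1 | h1 | h1 | h1
    · exact absurd ((LinearEquiv.map_eq_zero_iff g).1 h1) hy0
    · exact Or.inl h1
    · exact Or.inr (Or.inl h1)
    · exact Or.inr (Or.inr h1)
  have hxyy : x + y + y = x := add_add_cancel x y
  have hxyx : x + y + x = y := by rw [add_comm x y]; exact add_add_cancel y x
  -- `g` is a reflection on `V0`
  by_contra hne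
  have key : ∃ r, r ≠ 0 ∧ r ∈ W.V0 ∧ g x = x + γ r x • r ∧ g y = y + γ r y • r := by
    rcases hgx with h1 | h1 | h1 <;> rcases hgy with h2 | h2 | h2
    · exact absurd (g.injective (h1.trans h2.symm)) hxy
    · exfalso
      apply hne
      ext v
      obtain ⟨α, β, w, hw, e⟩ := W.span v
      have hfix : g w = w := by
        rcases hV.all w hw with rfl | rfl | rfl | rfl
        · exact map_zero g
        · exact h1
        · exact h2
        · rw [map_add, h1, h2]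
      show g v = v
      rw [e, map_add, map_add, map_sum, map_sum, hfix]
      congr 2
      · exact Finset.sum_congr rfl fun i _ => by rw [map_smul]; congr 1; exact hb (i, true)
      · exact Finset.sum_congr rfl fun i _ => by rw [map_smul]; congr 1; exact hb (i, false)
    · exact ⟨x, hx0, hV.x_mem, by rw [S.alt, zero_smul, add_zero, h1], by rw [hV.xy, one_smul, h2, add_comm]⟩
    · refine ⟨x + y, fun h3 => hxy (add_eq_zero.1 h3), W.V0.add_mem hV.x_mem hV.y_mem, ?_, ?_⟩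
      · rw [map_add, LinearMap.add_apply, S.alt, hyx, zero_add, one_smul, h1, ← add_assoc, add_self, zero_add]
      · rw [map_add, LinearMap.add_apply, S.alt, hV.xy, add_zero, one_smul, h2, add_comm x y, ← add_assoc, add_self,
          zero_add]
    · exact absurd (g.injective (h1.trans h2.symm)) hxy
    · exfalso
      have h3 := hgg x
      rw [h1, h2] at h3
      exact hy0 (add_eq_left.1 h3)
    · exfalso
      have h3 := hgg x
      rw [h1, map_add, h1, h2, hxyx] at h3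
      exact hxy h3.symm
    · exact ⟨y, hy0, hV.y_mem, by rw [hyx, one_smul, h1], by rw [S.alt, zero_smul, add_zero, h2]⟩
    · exact absurd (g.injective (h1.trans h2.symm)) hxy
  obtain ⟨r, hr0, hr, e1, e2⟩ := key
  have hrefl : ∀ v, g v = v + γ r v • r := by
    intro v
    obtain ⟨α, β, w, hw, e⟩ := W.span v
    have h3 : g w = w + γ r w • r := by
      rcases hV.all w hw with rfl | rfl | rfl | rfl
      · rw [map_zero, map_zero, zero_smul, add_zero]
      · exact e1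
      · exact e2
      · rw [map_add, e1, e2, map_add, add_smul]; abel
    have hs : ∀ (c : Fin k → ZMod 2) (t : Fin k → U), (∀ i, γ r (t i) = 0) → γ r (∑ i, c i • t i) = 0 := by
      intro c t ht
      rw [map_sum]
      exact Finset.sum_eq_zero fun i _ => by rw [map_smul, ht, smul_zero]
    have h4 : γ r v = γ r w := by
      rw [e, map_add, map_add, hs _ _ fun i => W.V0e r hr i, hs _ _ fun i => W.V0f r hr i, zero_add, zero_add]
    rw [h4, e, map_add, map_add, map_sum, map_sum, h3]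
    have h7 : ∑ i, g (α i • W.e i) = ∑ i, α i • W.e i :=
      Finset.sum_congr rfl fun i _ => by rw [map_smul]; congr 1; exact hb (i, true)
    have h8 : ∑ i, g (β i • W.f i) = ∑ i, β i • W.f i :=
      Finset.sum_congr rfl fun i _ => by rw [map_smul]; congr 1; exact hb (i, false)
    rw [h7, h8]
    abel
  have e : fix g = LinearMap.ker (γ r) := by
    ext v
    rw [mem_fix, hrefl, LinearMap.mem_ker]
    rcases z2 (γ r v) with h1 | h1
    · rw [h1, zero_smul, add_zero]; simp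
    · rw [h1, one_smul]
      constructor
      · intro h2
        exact absurd (add_eq_left.1 h2) hr0
      · intro h2; exact absurd h2 (by decide)
  have h1 := finrank_dual_ker S hr0
  have h2 := h.even_fix S hQ hg
  rw [e] at h2
  rw [Nat.even_iff] at h2 hev
  omega

theorem ambT [Finite U] {x y : U} (hV : Aniso γ Q W.V0 x y) (hev : Even (finrank (ZMod 2) U)) :
    AmbT (toFrame W) 2 G0 where
  iso g hg u v := h.iso g hg u v
  ok g hg w c hw hgw := by
    refine ⟨hgw, ?_⟩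
    have h2 : c = Q w := hw.2
    show c = Q (g w)
    rw [h2, h.isq g hg]
  X_mem := h.X_mem S hQ W
  Z_mem := h.Z_mem S hQ W
  V0 v hv := mem_V0_of_orth W (fun i => hv (i, true)) (fun i => hv (i, false))
  ok_aniso w hw := W.aniso w hw.1 hw.2
  fixp g hg hg2 hb := h.fixp S hQ W hV hev hg hg2 hb

end OG

end Cfsg.Agent.Omega.EH3.RowS

end

section


/-!
# RowS, BACK (helper73), part 2: the order of the positive unipotent group of a root group datum

`card_U` : `|U| = ∏ |X α_j|` along a reduced word of `w₀`.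
-/

set_option autoImplicit false

namespace Cfsg.Agent.Omega.EH3.RowS.XCard

open CoxeterSystem Cfsg.Agent.ChevalleyStructure.CoxeterGeom Cfsg.Agent.Tits.Roots Cfsg.Agent.Tits.Core
  Cfsg.Agent.Nodes.Reps Cfsg.Agent.Nodes.BNOf Cfsg.Agent.Nodes.BNOf.RGD Cfsg.Agent.Nodes.Unique
  Cfsg.Agent.Tits.Exchange

theorem card_mul_of_disjoint {Y : Type*} [Group Y] {A B C : Subgroup Y} (hA : A ≤ C) (hB : B ≤ C)
    (h : ∀ g ∈ C, ∃ a ∈ A, ∃ b ∈ B, g = a * b) (hd : A ⊓ B = ⊥) :
    Nat.card C = Nat.card A * Nat.card B := by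
  rw [← Nat.card_prod]
  symm
  refine Nat.card_congr (Equiv.ofBijective (fun x : A × B => (⟨x.1 * x.2, mul_mem (hA x.1.2) (hB x.2.2)⟩ : C)) ⟨?_, ?_⟩)
  · rintro ⟨⟨a, ha⟩, ⟨b, hb⟩⟩ ⟨⟨a', ha'⟩, ⟨b', hb'⟩⟩ e
    have ha : a ∈ A := ha
    have hb : b ∈ B := hb
    have ha' : a' ∈ A := ha'
    have hb' : b' ∈ B := hb'
    have e1 : a * b = a' * b' := congrArg Subtype.val e
    have e2 : a'⁻¹ * a = b' * b⁻¹ := by
      rw [inv_mul_eq_iff_eq_mul, ← mul_assoc, ← e1, mul_inv_cancel_right]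
    have e3 : a'⁻¹ * a ∈ A ⊓ B :=
      Subgroup.mem_inf.2 ⟨mul_mem (inv_mem ha') ha, by rw [e2]; exact mul_mem hb' (inv_mem hb)⟩
    rw [hd, Subgroup.mem_bot] at e3
    have e4 : a = a' := (inv_mul_eq_one.1 e3).symm
    subst e4
    have e5 : b = b' := mul_left_cancel e1
    subst e5
    rfl
  · rintro ⟨g, hg⟩
    obtain ⟨a, ha, b, hb, e⟩ := h g hg
    exact ⟨(⟨a, ha⟩, ⟨b, hb⟩), Subtype.ext e.symm⟩

variable {I W Y : Type*} [Fintype I] [DecidableEq I] [Group W] [Group Y] {M : CoxeterMatrix I}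
  {cs : CoxeterSystem M W} {A : I → I → ℤ} {h : IsCartan M A} {p : ℕ} {T : Subgroup Y} {n : I → Y}
  {X : (I → ℤ) → Subgroup Y} (Rd : RGD cs h p T n X)

include Rd

theorem card_X_rep [Finite W] (w : W) {x : I → ℤ} (hx : IsRoot cs h x) :
    Nat.card (X (rep cs h w x)) = Nat.card (X x) := by
  obtain ⟨g, hg⟩ := exists_rp cs Rd.nsys w
  rw [← Rd.conj_rp hg hx]
  exact Nat.card_congr ((X x).equivMapOfInjective _ (MulAut.conj g).injective).toEquiv.symm

theorem card_fut_mul [Finite W] {w : W} {i : I} (hw : 0 ≤ rep cs h w (sr i)) :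
    Nat.card (Sup X (Fut cs h w)) = Nat.card (X (sr i)) * Nat.card (Sup X (Fut cs h (w * cs.simple i))) := by
  have hx := mem_fut hw
  have e1 := fut_mul hw
  have hpos : Fut cs h w ⊆ Pos cs h := fut_subset_pos w
  rw [← card_X_rep Rd w (isRoot_sr cs h i), e1]
  refine card_mul_of_disjoint (le_Sup (S := Fut cs h w) hx) (Sup_mono Set.sdiff_subset)
    (fun g hg => (mem_peel Rd hpos (closed_fut w) hx).1 hg) ?_
  rw [← e1]
  exact tail_inf Rd

omit Rd [Group Y] in
theorem fut_w0 [Finite W] : Fut cs h (w0 cs) = ∅ := by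
  rw [Set.eq_empty_iff_forall_notMem]
  intro y hy
  obtain ⟨i, hi⟩ := exists_simple hy
  have h1 : cs.length (w0 cs) < cs.length (w0 cs * cs.simple i) := (lt_iff' cs h _ _).2 hi
  have h2 := length_le_w0 cs (w0 cs * cs.simple i)
  omega

/-- **the order of `U`** -/
theorem card_U [Finite W] {F : List I} (hF : cs.IsReduced F) (hw : cs.wordProd F = w0 cs) {q : I → ℕ}
    (hq : ∀ j, Nat.card (X (sr j)) = q j) : Nat.card (Sup X (Pos cs h)) = (F.map q).prod := by
  have key : ∀ (l : List I) (w : W), cs.length (w * cs.wordProd l) = cs.length w + l.length →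
      Nat.card (Sup X (Fut cs h w)) = (l.map q).prod * Nat.card (Sup X (Fut cs h (w * cs.wordProd l))) := by
    intro l
    induction l with
    | nil => intro w _; simp
    | cons i l ih =>
      intro w hl
      rw [wordProd_cons, ← mul_assoc] at hl ⊢
      rw [List.length_cons] at hl
      have h1 := cs.length_mul_le (w * cs.simple i) (cs.wordProd l)
      have h2 := cs.length_wordProd_le l
      have h3 := cs.length_mul_simple w i
      have h4 : cs.length (w * cs.simple i) = cs.length w + 1 := by omega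
      have h5 : 0 ≤ rep cs h w (sr i) := (lt_iff' cs h _ _).1 (by omega)
      rw [card_fut_mul Rd h5, ih (w * cs.simple i) (by omega), hq, List.map_cons, List.prod_cons, ← mul_assoc]
  have h1 := key F 1 (by
    rw [one_mul, cs.length_one, zero_add]
    exact hF)
  rw [fut_one, one_mul, hw, fut_w0] at h1
  have h2 : Sup X (∅ : Set (I → ℤ)) = ⊥ := by
    rw [eq_bot_iff]
    exact Sup_le fun z hz => hz.elim
  rw [h2, Subgroup.card_bot, mul_one] at h1
  exact h1

end Cfsg.Agent.Omega.EH3.RowS.XCard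

end

end

-- merged: Cfsg.Agent.Omega.EH3.RowS.Refl
section

/-!
# EH3, row S: `O(U,Q)` is generated by reflections and Siegel maps (helper754)

`Rf.tv v` : the reflection with centre `v` (`Q v = 1`); `Rf.sg u w` : the Siegel map (`Q u = 0`, `u ⊥ w`);
`Rf.Gam γ Q` : the subgroup generated by all of them.

`Rf.mem_Gam` : every linear isometry of `Q` is in `Gam γ Q` (`γ` nondegenerate).
`Rf.dich` : in dimension `≥ 5`, if `Ω` contains all Siegel maps, then `g ∈ Ω` or all `t_v g ∈ Ω`.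
`QD.sq_mem` : `m * m ∈ L` for all `m : M`.
-/

set_option autoImplicit false

namespace Cfsg.Agent.Omega.EH3.RowS

variable {U : Type*} [AddCommGroup U] [Module (ZMod 2) U]

namespace Rf

variable {γ : LinearMap.BilinForm (ZMod 2) U} {Q : U → ZMod 2}

/-- the reflection -/
def tvf (γ : LinearMap.BilinForm (ZMod 2) U) (v : U) : U →ₗ[ZMod 2] U where
  toFun x := x + γ v x • v
  map_add' x y := by rw [map_add, add_smul]; abel
  map_smul' c x := by rw [map_smul, smul_assoc, smul_add, RingHom.id_apply]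

theorem tvf_apply (v x : U) : tvf γ v x = x + γ v x • v := rfl

theorem tvf_tvf (S : Sy γ) (v x : U) : tvf γ v (tvf γ v x) = x := by
  rw [tvf_apply, tvf_apply, map_add, map_smul, S.alt, smul_zero, add_zero, add_assoc, add_self, add_zero]

/-- the reflection as an automorphism -/
def tv (S : Sy γ) (v : U) : U ≃ₗ[ZMod 2] U :=
  LinearEquiv.ofLinearMap (tvf γ v) (tvf γ v) (LinearMap.ext (tvf_tvf S v)) (LinearMap.ext (tvf_tvf S v))

theorem tv_apply (S : Sy γ) (v x : U) : tv S v x = x + γ v x • v := rfl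

theorem tv_tv (S : Sy γ) (v : U) : tv S v * tv S v = 1 := LinearEquiv.ext (tvf_tvf S v)

theorem Q_tv (S : Sy γ) (h : IsQ γ Q) {v : U} (hv : Q v = 1) (x : U) : Q (tv S v x) = Q x := by
  rw [tv_apply, h.add, h.smul, hv, map_smul, smul_eq_mul, S.comm x v, mul_one]
  have h1 : γ v x * γ v x = γ v x := by rcases z2 (γ v x) with h | h <;> rw [h] <;> decide
  rw [h1, add_assoc, z2_add, add_zero]

/-- Siegel map, linear -/
def sgf (γ : LinearMap.BilinForm (ZMod 2) U) (u w : U) (l : ZMod 2) : U →ₗ[ZMod 2] U where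
  toFun x := rr γ u w l x
  map_add' x y := by
    simp only [rr, map_add, add_smul, mul_add]; abel
  map_smul' c x := by
    simp only [rr, map_smul, smul_add, RingHom.id_apply, smul_eq_mul, mul_smul, smul_comm c l]

theorem sgf_sgf (S : Sy γ) {u w : U} (hw : γ u w = 0) (l : ZMod 2) (x : U) :
    sgf γ u w l (sgf γ u w l x) = x := by
  show rr γ u w l (rr γ u w l x) = x
  rw [rr_rr (S.alt u) hw (by rw [S.comm]; exact hw), add_self, S.alt, z2_add, add_zero, rr]
  simp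

/-- Siegel map -/
def sg (S : Sy γ) {u w : U} (hw : γ u w = 0) (l : ZMod 2) : U ≃ₗ[ZMod 2] U :=
  LinearEquiv.ofLinearMap (sgf γ u w l) (sgf γ u w l) (LinearMap.ext (sgf_sgf S hw l)) (LinearMap.ext (sgf_sgf S hw l))

theorem sg_apply (S : Sy γ) {u w : U} (hw : γ u w = 0) (l : ZMod 2) (x : U) : sg S hw l x = rr γ u w l x := rfl

/-- Siegel automorphisms -/
def IsSg (γ : LinearMap.BilinForm (ZMod 2) U) (Q : U → ZMod 2) (g : U ≃ₗ[ZMod 2] U) : Prop :=
  ∃ u w, u ≠ 0 ∧ Q u = 0 ∧ γ u w = 0 ∧ ∀ x, g x = rr γ u w (Q w) x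

/-- reflections -/
def IsTv (γ : LinearMap.BilinForm (ZMod 2) U) (Q : U → ZMod 2) (g : U ≃ₗ[ZMod 2] U) : Prop :=
  ∃ v, Q v = 1 ∧ ∀ x, g x = x + γ v x • v

/-- the group generated -/
def Gam (γ : LinearMap.BilinForm (ZMod 2) U) (Q : U → ZMod 2) : Subgroup (U ≃ₗ[ZMod 2] U) :=
  Subgroup.closure {g | IsTv γ Q g ∨ IsSg γ Q g}

theorem tv_mem (S : Sy γ) {v : U} (hv : Q v = 1) : tv S v ∈ Gam γ Q :=
  Subgroup.subset_closure (Or.inl ⟨v, hv, tv_apply S v⟩)

theorem sg_mem (S : Sy γ) {u w : U} (hu : u ≠ 0) (hQ : Q u = 0) (hw : γ u w = 0) : sg S hw (Q w) ∈ Gam γ Q :=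
  Subgroup.subset_closure (Or.inr ⟨u, w, hu, hQ, hw, sg_apply S hw (Q w)⟩)

/-- elements fixing `W^⊥` pointwise and preserving `Q` -/
def Fx (γ : LinearMap.BilinForm (ZMod 2) U) (Q : U → ZMod 2) (W : Submodule (ZMod 2) U)
    (g : U ≃ₗ[ZMod 2] U) : Prop :=
  (∀ x, Q (g x) = Q x) ∧ ∀ x, (∀ w ∈ W, γ w x = 0) → g x = x

theorem Fx.mul {W : Submodule (ZMod 2) U} {g k : U ≃ₗ[ZMod 2] U} (hk : Fx γ Q W k) (hg : Fx γ Q W g) :
    Fx γ Q W (k * g) := by
  refine ⟨fun x => ?_, fun x hx => ?_⟩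
  · rw [LinearEquiv.mul_apply, hk.1, hg.1]
  · rw [LinearEquiv.mul_apply, hg.2 x hx, hk.2 x hx]

theorem Fx.tv (S : Sy γ) (h : IsQ γ Q) {W : Submodule (ZMod 2) U} {v : U} (hv : Q v = 1) (hW : v ∈ W) :
    Fx γ Q W (Rf.tv S v) :=
  ⟨Q_tv S h hv, fun x hx => by rw [tv_apply, hx v hW, zero_smul, add_zero]⟩

theorem Fx.sg (S : Sy γ) (h : IsQ γ Q) {W : Submodule (ZMod 2) U} {u w : U} (hu : Q u = 0) (hw : γ u w = 0)
    (huW : u ∈ W) (hwW : w ∈ W) : Fx γ Q W (Rf.sg S hw (Q w)) :=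
  ⟨fun x => by rw [sg_apply]; exact h.rr S hu hw x, fun x hx => by
    rw [sg_apply, rr, hx u huW, hx w hwW]; simp⟩

theorem iso_of (h : IsQ γ Q) {g : U ≃ₗ[ZMod 2] U} (hg : ∀ x, Q (g x) = Q x) (x y : U) :
    γ (g x) (g y) = γ x y := by
  have h1 := h.add (g x) (g y)
  rw [← map_add, hg, hg, hg, h.add] at h1
  exact (add_left_cancel h1).symm

/-- nondegenerate subspaces -/
def Nd (γ : LinearMap.BilinForm (ZMod 2) U) (W : Submodule (ZMod 2) U) : Prop :=
  ∀ w ∈ W, (∀ w' ∈ W, γ w w' = 0) → w = 0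

theorem sy_of (S : Sy γ) {W : Submodule (ZMod 2) U} (hW : Nd γ W) : Sy (γ.restrict W) where
  alt w := S.alt w
  nondeg w hw := Subtype.ext (hW w w.2 fun w' hw' => hw ⟨w', hw'⟩)

/-- projection to `W` -/
theorem exists_pr [Finite U] (S : Sy γ) {W : Submodule (ZMod 2) U} (hW : Nd γ W) (x : U) :
    ∃ w ∈ W, ∀ w' ∈ W, γ w' (x + w) = 0 := by
  obtain ⟨w, hw⟩ := (sy_of S hW).exists_rep ((γ x).comp W.subtype)
  refine ⟨w, w.2, fun w' hw' => ?_⟩
  have h1 : γ w w' = γ x w' := hw ⟨w', hw'⟩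
  rw [map_add, S.comm w' x, S.comm w' w, h1, z2_add]

/-- `g` preserves `W` -/
theorem Fx.mem [Finite U] (S : Sy γ) (h : IsQ γ Q) {W : Submodule (ZMod 2) U} (hW : Nd γ W) {g : U ≃ₗ[ZMod 2] U}
    (hg : Fx γ Q W g) {w : U} (hw : w ∈ W) : g w ∈ W := by
  obtain ⟨w₁, hw₁, h1⟩ := exists_pr S hW (g w)
  have h2 : g w + w₁ = 0 := by
    apply S.nondeg
    intro y
    obtain ⟨y₁, hy₁, h3⟩ := exists_pr S hW y
    have e : y = y₁ + (y + y₁) := by rw [add_comm y, ← add_assoc, add_self, zero_add]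
    rw [e, map_add, S.comm _ y₁, h1 y₁ hy₁, zero_add, LinearMap.BilinForm.add_left, h3 w₁ hw₁, add_zero]
    have h4 := hg.2 (y + y₁) (fun w' hw' => h3 w' hw')
    rw [← h4, iso_of h hg.1]
    exact h3 w hw
  rw [add_eq_zero.1 h2]; exact hw₁

theorem eq_one_of [Finite U] (S : Sy γ) {W : Submodule (ZMod 2) U} (hW : Nd γ W) {g : U ≃ₗ[ZMod 2] U}
    (hg : Fx γ Q W g) (h : ∀ w ∈ W, g w = w) : g = 1 := by
  apply LinearEquiv.ext
  intro x
  obtain ⟨w, hw, h1⟩ := exists_pr S hW x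
  have e : x = w + (x + w) := by rw [add_comm x, ← add_assoc, add_self, zero_add]
  show g x = x
  rw [e, map_add, h w hw, hg.2 _ h1]

theorem tv_move (S : Sy γ) {x y : U} (hxy : γ x y = 1) : tv S (x + y) y = x := by
  rw [tv_apply, map_add, LinearMap.add_apply, hxy, S.alt, add_zero, one_smul]
  calc y + (x + y) = x + (y + y) := by abel
    _ = x := by rw [add_self, add_zero]

theorem of_mul {g k : U ≃ₗ[ZMod 2] U} (hk : k ∈ Gam γ Q) (h : k * g ∈ Gam γ Q) : g ∈ Gam γ Q := by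
  have h1 := mul_mem (inv_mem hk) h
  rwa [inv_mul_cancel_left] at h1

/-- move a singular vector -/
theorem exists_move [Finite U] (S : Sy γ) (h : IsQ γ Q) {W : Submodule (ZMod 2) U} (hW : Nd γ W) {x y : U}
    (hx : x ∈ W) (hy : y ∈ W) (hx0 : x ≠ 0) (hy0 : y ≠ 0) (hQx : Q x = 0) (hQy : Q y = 0) :
    ∃ k ∈ Gam γ Q, Fx γ Q W k ∧ k y = x := by
  by_cases hxy : x = y
  · exact ⟨1, one_mem _, ⟨fun _ => rfl, fun _ _ => rfl⟩, hxy.symm⟩
  have one : ∀ x y, x ∈ W → y ∈ W → Q x = 0 → Q y = 0 → γ x y = 1 →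
      ∃ k ∈ Gam γ Q, Fx γ Q W k ∧ k y = x := by
    intro x y hx hy hQx hQy h1
    have hQ : Q (x + y) = 1 := by rw [h.add, hQx, hQy, h1]; decide
    exact ⟨tv S (x + y), tv_mem S hQ, Fx.tv S h hQ (W.add_mem hx hy), tv_move S h1⟩
  rcases z2 (γ x y) with h1 | h1
  · -- an intermediate vector
    obtain ⟨z, hz1, hz2⟩ := (sy_of S hW).exists_two (u := ⟨x, hx⟩) (v := ⟨y, hy⟩)
      (fun h0 => hx0 (congrArg Subtype.val h0)) (fun h0 => hy0 (congrArg Subtype.val h0))
      (fun h0 => hxy (congrArg Subtype.val h0).symm) 1 1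
    have hz1' : γ (z : U) x = 1 := hz1
    have hz2' : γ (z : U) y = 1 := hz2
    obtain ⟨z', hz', h2, h3, h4⟩ : ∃ z' ∈ W, γ z' x = 1 ∧ γ z' y = 1 ∧ Q z' = 0 := by
      rcases z2 (Q z) with h2 | h2
      · exact ⟨z, z.2, hz1', hz2', h2⟩
      · refine ⟨z + x, W.add_mem z.2 hx, ?_, ?_, ?_⟩
        · rw [map_add, LinearMap.add_apply, hz1', S.alt, add_zero]
        · rw [map_add, LinearMap.add_apply, hz2', h1, add_zero]
        · rw [h.add, h2, hQx, hz1']; decide
    obtain ⟨k, hk, hkF, hk'⟩ := one z' y hz' hy h4 hQy h3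
    obtain ⟨k2, hk2, hkF2, hk2'⟩ := one x z' hx hz' hQx h4 (by rw [S.comm]; exact h2)
    exact ⟨k2 * k, mul_mem hk2 hk, hkF2.mul hkF, by rw [LinearEquiv.mul_apply, hk', hk2']⟩
  · exact one x y hx hy hQx hQy h1

/-- move a singular vector, fixing `e` -/
theorem exists_move_fix [Finite U] (S : Sy γ) (h : IsQ γ Q) {W : Submodule (ZMod 2) U} {e f f' : U}
    (he : e ∈ W) (hf : f ∈ W) (hf' : f' ∈ W) (he0 : e ≠ 0) (hQe : Q e = 0) (hQf : Q f = 0) (hQf' : Q f' = 0)
    (hef : γ e f = 1) (hef' : γ e f' = 1) : ∃ k ∈ Gam γ Q, Fx γ Q W k ∧ k f' = f ∧ k e = e := by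
  have hes : γ e (f + f') = 0 := by rw [map_add, hef, hef']; decide
  rcases z2 (γ f f') with h1 | h1
  · refine ⟨sg S hes (Q (f + f')), sg_mem S he0 hQe hes, Fx.sg S h hQe hes he (W.add_mem hf hf'), ?_, ?_⟩
    · rw [sg_apply, rr, hef', one_smul, map_add, LinearMap.add_apply, h1, S.alt, add_zero, zero_smul, add_zero,
        h.add, hQf, hQf', h1]
      simp only [add_zero, zero_mul, zero_smul]
      calc f' + (f + f') = f + (f' + f') := by abel
        _ = f := by rw [add_self, add_zero]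
    · rw [sg_apply, rr, S.alt, zero_smul, add_zero, mul_zero, zero_smul, add_zero, S.comm (f + f') e, hes, zero_smul,
        add_zero]
  · have hQ : Q (f + f') = 1 := by rw [h.add, hQf, hQf', h1]; decide
    refine ⟨tv S (f + f'), tv_mem S hQ, Fx.tv S h hQ (W.add_mem hf hf'), tv_move S h1, ?_⟩
    rw [tv_apply, S.comm (f + f') e, hes, zero_smul, add_zero]

/-- **the induction** -/
theorem mem_of_Fx [Finite U] (S : Sy γ) (h : IsQ γ Q) (n : ℕ) : ∀ W : Submodule (ZMod 2) U, Nat.card W ≤ n →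
    Nd γ W → ∀ g, Fx γ Q W g → g ∈ Gam γ Q := by
  induction n with
  | zero =>
    intro W hW
    have : 0 < Nat.card W := Nat.card_pos
    omega
  | succ n ih =>
    intro W hcard hW g hg
    by_cases hs : ∃ e ∈ W, e ≠ 0 ∧ Q e = 0
    · obtain ⟨e, he, he0, hQe⟩ := hs
      obtain ⟨k, hk, hkF, hk'⟩ := exists_move S h hW he (hg.mem S h hW he) he0
        (fun h0 => he0 ((LinearEquiv.map_eq_zero_iff g).1 h0)) hQe (by rw [hg.1]; exact hQe)
      apply of_mul hk
      have hg1 : Fx γ Q W (k * g) := hkF.mul hg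
      have hg1e : (k * g) e = e := hk'
      -- `f`
      obtain ⟨f, hf, hef, hQf⟩ : ∃ f ∈ W, γ e f = 1 ∧ Q f = 0 := by
        obtain ⟨f, hf⟩ := (sy_of S hW).exists_one (v := ⟨e, he⟩) (fun h0 => he0 (congrArg Subtype.val h0))
        have hf' : γ (f : U) e = 1 := hf
        rcases z2 (Q f) with h1 | h1
        · exact ⟨f, f.2, by rw [S.comm]; exact hf', h1⟩
        · refine ⟨f + e, W.add_mem f.2 he, ?_, ?_⟩
          · rw [map_add, S.comm e f, hf', S.alt, add_zero]
          · rw [h.add, h1, hQe, hf']; decide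
      set g1 := k * g with hg1def
      obtain ⟨k2, hk2, hkF2, hk2', hk2e⟩ := exists_move_fix S h he hf (hg1.mem S h hW hf) he0 hQe hQf
        (by rw [hg1.1]; exact hQf) hef (by
          nth_rewrite 1 [← hg1e]
          rw [iso_of h hg1.1, hef])
      apply of_mul hk2
      have hg2 : Fx γ Q W (k2 * g1) := hkF2.mul hg1
      have hg2e : (k2 * g1) e = e := by rw [LinearEquiv.mul_apply, hg1e, hk2e]
      have hg2f : (k2 * g1) f = f := hk2'
      set g2 := k2 * g1 with hg2def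
      -- the subspace `W₁`
      let W₁ : Submodule (ZMod 2) U := W ⊓ (LinearMap.ker (γ e) ⊓ LinearMap.ker (γ f))
      have hW₁ : ∀ x, x ∈ W₁ ↔ x ∈ W ∧ γ e x = 0 ∧ γ f x = 0 := fun x => Iff.rfl
      have hproj : ∀ w ∈ W, w + γ w f • e + γ w e • f ∈ W₁ := by
        intro w hw
        refine (hW₁ _).2 ⟨W.add_mem (W.add_mem hw (W.smul_mem _ he)) (W.smul_mem _ hf), ?_, ?_⟩
        · rw [map_add, map_add, map_smul, map_smul, S.alt, hef, smul_zero, add_zero, smul_eq_mul, mul_one,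
            S.comm w e, z2_add]
        · rw [map_add, map_add, map_smul, map_smul, S.alt, S.comm f e, hef, smul_zero, add_zero, smul_eq_mul,
            mul_one, S.comm w f, z2_add]
      have hNd : Nd γ W₁ := by
        intro w hw hw'
        obtain ⟨h1, h2, h3⟩ := (hW₁ w).1 hw
        apply hW w h1
        intro w' hw''
        have h4 := hw' _ (hproj w' hw'')
        rwa [map_add, map_add, map_smul, map_smul, S.comm w e, h2, S.comm w f, h3, smul_zero, smul_zero, add_zero,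
          add_zero] at h4
      have hlt : Nat.card W₁ ≤ n := by
        have h1 : (W₁ : Set U) ⊂ (W : Set U) := by
          refine ⟨fun x hx => ((hW₁ x).1 hx).1, fun h2 => ?_⟩
          have h3 := ((hW₁ e).1 (h2 he)).2.2
          rw [S.comm f e, hef] at h3
          exact absurd h3 (by decide)
        have h2 := Set.Finite.card_lt_card (Set.toFinite (W : Set U)) h1
        have h3 : Nat.card W₁ < Nat.card W := h2
        omega
      apply ih W₁ hlt hNd g2
      refine ⟨hg2.1, fun x hx => ?_⟩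
      obtain ⟨w, hw, h1⟩ := exists_pr S hW x
      have e1 : x = w + (x + w) := by rw [add_comm x, ← add_assoc, add_self, zero_add]
      have h2 : w + γ w f • e + γ w e • f = 0 := by
        apply hNd _ (hproj w hw)
        intro w' hw'
        obtain ⟨h3, h4, h5⟩ := (hW₁ w').1 hw'
        have h6 := hx w' hw'
        rw [e1, map_add, h1 w' h3, add_zero] at h6
        rw [map_add, map_add, LinearMap.add_apply, LinearMap.add_apply, map_smul, map_smul, LinearMap.smul_apply,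
          LinearMap.smul_apply, h4, h5, smul_zero, smul_zero, add_zero, add_zero, S.comm]
        exact h6
      have h3 : w = γ w f • e + γ w e • f := by
        rw [add_assoc] at h2
        exact add_eq_zero.1 h2
      have h4 : g2 w = w := by
        nth_rewrite 1 [h3]
        rw [map_add, map_smul, map_smul, hg2e, hg2f]
        exact h3.symm
      rw [e1, map_add, h4, hg2.2 _ h1]
    · -- `W` anisotropic
      push Not at hs
      have hs' : ∀ w ∈ W, w ≠ 0 → Q w = 1 := fun w hw h0 => (z2 _).resolve_left (hs w hw h0)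
      have hone : ∀ x ∈ W, ∀ y ∈ W, x ≠ 0 → y ≠ 0 → x ≠ y → γ x y = 1 := by
        intro x hx y hy hx0 hy0 hxy
        have h1 := h.add x y
        rw [hs' x hx hx0, hs' y hy hy0, hs' (x + y) (W.add_mem hx hy) (fun h0 => hxy (add_eq_zero.1 h0))] at h1
        rcases z2 (γ x y) with h2 | h2
        · rw [h2] at h1; exact absurd h1 (by decide)
        · exact h2
      by_cases h0 : ∃ p ∈ W, p ≠ 0
      · obtain ⟨p, hp, hp0⟩ := h0
        -- fix `p`
        obtain ⟨k, hk, hkF, hk'⟩ : ∃ k ∈ Gam γ Q, Fx γ Q W k ∧ k (g p) = p := by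
          by_cases hgp : g p = p
          · exact ⟨1, one_mem _, ⟨fun _ => rfl, fun _ _ => rfl⟩, hgp⟩
          · have h1 := hone p hp (g p) (hg.mem S h hW hp) hp0
              (fun h0 => hp0 ((LinearEquiv.map_eq_zero_iff g).1 h0)) (Ne.symm hgp)
            have hQ : Q (p + g p) = 1 := hs' _ (W.add_mem hp (hg.mem S h hW hp))
              (fun h0 => hgp (add_eq_zero.1 h0).symm)
            exact ⟨tv S (p + g p), tv_mem S hQ, Fx.tv S h hQ (W.add_mem hp (hg.mem S h hW hp)), tv_move S h1⟩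
        apply of_mul hk
        have hg1 : Fx γ Q W (k * g) := hkF.mul hg
        have hg1p : (k * g) p = p := hk'
        set g1 := k * g with hg1def
        by_cases h1 : ∃ r ∈ W, g1 r ≠ r
        · obtain ⟨r, hr, hr1⟩ := h1
          have hr0 : r ≠ 0 := by rintro rfl; exact hr1 (map_zero _)
          have hrp : r ≠ p := by rintro rfl; exact hr1 hg1p
          have hgr := hg1.mem S h hW hr
          have hgr0 : g1 r ≠ 0 := fun h0 => hr0 ((LinearEquiv.map_eq_zero_iff g1).1 h0)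
          have hgrp : g1 r ≠ p := by
            intro h2
            rw [← hg1p] at h2
            exact hrp (g1.injective h2)
          have h2 := hone r hr (g1 r) hgr hr0 hgr0 (Ne.symm hr1)
          have hQ : Q (r + g1 r) = 1 := hs' _ (W.add_mem hr hgr) (fun h0 => hr1 (add_eq_zero.1 h0).symm)
          apply of_mul (tv_mem S hQ)
          have hg2 : Fx γ Q W (tv S (r + g1 r) * g1) := (Fx.tv S h hQ (W.add_mem hr hgr)).mul hg1
          have hg2r : (tv S (r + g1 r) * g1) r = r := tv_move S h2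
          have hg2p : (tv S (r + g1 r) * g1) p = p := by
            rw [LinearEquiv.mul_apply, hg1p, tv_apply, map_add, LinearMap.add_apply,
              hone r hr p hp hr0 hp0 hrp, hone (g1 r) hgr p hp hgr0 hp0 hgrp,
              show (1 : ZMod 2) + 1 = 0 by decide, zero_smul, add_zero]
          rw [eq_one_of S hW hg2]
          · exact one_mem _
          · intro s hs1
            by_cases s0 : s = 0
            · rw [s0, map_zero]
            by_cases sp : s = p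
            · rw [sp]; exact hg2p
            by_cases sr : s = r
            · rw [sr]; exact hg2r
            by_cases spr : s = p + r
            · rw [spr, map_add, hg2p, hg2r]
            · exfalso
              have h3 := hone s hs1 (p + r) (W.add_mem hp hr) s0 (fun h0 => hrp (add_eq_zero.1 h0).symm) spr
              rw [map_add, hone s hs1 p hp s0 hp0 sp, hone s hs1 r hr s0 hr0 sr] at h3
              exact absurd h3 (by decide)
        · push Not at h1
          rw [eq_one_of S hW hg1 h1]; exact one_mem _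
      · push Not at h0
        rw [eq_one_of S hW hg (fun w hw => by rw [h0 w hw, map_zero])]
        exact one_mem _

/-- **every isometry of `Q` is in `Gam`** -/
theorem mem_Gam [Finite U] (S : Sy γ) (h : IsQ γ Q) {g : U ≃ₗ[ZMod 2] U} (hg : ∀ x, Q (g x) = Q x) :
    g ∈ Gam γ Q := by
  refine mem_of_Fx S h (Nat.card (⊤ : Submodule (ZMod 2) U)) ⊤ le_rfl ?_ g ⟨hg, ?_⟩
  · intro w _ hw
    exact S.nondeg w fun u => hw u Submodule.mem_top
  · intro x hx
    have : x = 0 := S.nondeg x fun u => by rw [S.comm]; exact hx u Submodule.mem_top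
    rw [this, map_zero]

/-! ### products of two reflections -/

/-- `t_u t_v` for `u ⊥ v` is a Siegel map -/
theorem tv_mul_tv_perp (S : Sy γ) (h : IsQ γ Q) {u v : U} (hu : Q u = 1) (hv : Q v = 1) (huv : γ u v = 0)
    (hne : u ≠ v) : IsSg γ Q (tv S u * tv S v) := by
  refine ⟨u + v, u, fun h0 => hne (add_eq_zero.1 h0), by rw [h.add, hu, hv, huv]; decide, ?_, fun x => ?_⟩
  · rw [LinearMap.BilinForm.add_left, S.alt, S.comm v u, huv, add_zero]
  · rw [LinearEquiv.mul_apply, tv_apply, tv_apply, map_add, map_smul, huv, smul_zero, add_zero, rr, hu, one_mul,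
      LinearMap.BilinForm.add_left]
    simp only [add_smul, smul_add]
    have e1 : γ u x • u + γ u x • u = 0 := add_self _
    have e2 : γ v x • u + γ v x • u = 0 := add_self _
    have e3 : γ u x • v + γ u x • v = 0 := add_self _
    calc x + γ v x • v + γ u x • u
        = x + γ v x • v + γ u x • u + (γ u x • u + γ u x • u) + (γ v x • u + γ v x • u)
          + (γ u x • v + γ u x • v) := by rw [e1, e2, e3, add_zero, add_zero, add_zero]
      _ = _ := by abel

/-- products of two reflections lie in every group containing the Siegel maps (dimension `≥ 5`) -/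
theorem tv_mul_tv_mem [Finite U] (S : Sy γ) (h : IsQ γ Q) (hd : 2 ^ 5 ≤ Nat.card U)
    {Ω : Subgroup (U ≃ₗ[ZMod 2] U)} (hΩ : ∀ g, IsSg γ Q g → g ∈ Ω) {u v : U} (hu : Q u = 1) (hv : Q v = 1) :
    tv S u * tv S v ∈ Ω := by
  by_cases hne : u = v
  · rw [hne, tv_tv]; exact one_mem _
  rcases z2 (γ u v) with h1 | h1
  · exact hΩ _ (tv_mul_tv_perp S h hu hv h1 hne)
  · obtain ⟨w, w', i1, i2, i3, i4, i5⟩ := S.exists_hyp hd u v
    obtain ⟨s, hs1, hs2, hs3⟩ : ∃ s, γ u s = 0 ∧ γ v s = 0 ∧ Q s = 1 := by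
      rcases z2 (Q w) with h2 | h2
      · rcases z2 (Q w') with h3 | h3
        · exact ⟨w + w', by rw [map_add, i1, i3, add_zero], by rw [map_add, i2, i4, add_zero],
            by rw [h.add, h2, h3, i5]; decide⟩
        · exact ⟨w', i3, i4, h3⟩
      · exact ⟨w, i1, i2, h2⟩
    have hus : u ≠ s := by
      rintro rfl
      rw [S.comm v u, h1] at hs2
      exact absurd hs2 (by decide)
    have hvs : s ≠ v := by
      rintro rfl
      rw [h1] at hs1
      exact absurd hs1 (by decide)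
    have e : tv S u * tv S v = (tv S u * tv S s) * (tv S s * tv S v) := by
      rw [mul_assoc, ← mul_assoc (tv S s), tv_tv, one_mul]
    rw [e]
    exact mul_mem (hΩ _ (tv_mul_tv_perp S h hu hs3 hs1 hus))
      (hΩ _ (tv_mul_tv_perp S h hs3 hv (by rw [S.comm]; exact hs2) hvs))

/-- conjugates of Siegel maps under isometries -/
theorem IsSg.conj (h : IsQ γ Q) {g k : U ≃ₗ[ZMod 2] U} (hg : ∀ x, Q (g x) = Q x) (hk : IsSg γ Q k) :
    IsSg γ Q (g * k * g⁻¹) := by
  obtain ⟨u, w, h1, h2, h3, h4⟩ := hk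
  have hi := iso_of h hg
  refine ⟨g u, g w, fun h0 => h1 ((LinearEquiv.map_eq_zero_iff g).1 h0), by rw [hg]; exact h2,
    by rw [hi]; exact h3, fun x => ?_⟩
  rw [rr_conj hi h4, hg]

/-- **dichotomy** -/
theorem dich [Finite U] (S : Sy γ) (h : IsQ γ Q) (hd : 2 ^ 5 ≤ Nat.card U)
    {Ω : Subgroup (U ≃ₗ[ZMod 2] U)} (hΩ : ∀ g, IsSg γ Q g → g ∈ Ω) {g : U ≃ₗ[ZMod 2] U}
    (hg : ∀ x, Q (g x) = Q x) : g ∈ Ω ∨ ∀ v, Q v = 1 → tv S v * g ∈ Ω := by
  have h1 := mem_Gam S h hg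
  clear hg
  unfold Gam at h1
  induction h1 using Subgroup.closure_induction_left with
  | one => exact Or.inl (one_mem _)
  | mul_left s hs y _ ih =>
    rcases hs with ⟨v, hv, hs⟩ | hs
    · have hsv : s = tv S v := LinearEquiv.ext fun x => by rw [hs, tv_apply]
      rw [hsv]
      rcases ih with ih | ih
      · right
        intro v' hv'
        rw [← mul_assoc]
        exact mul_mem (tv_mul_tv_mem S h hd hΩ hv' hv) ih
      · left; exact ih v hv
    · rcases ih with ih | ih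
      · left; exact mul_mem (hΩ _ hs) ih
      · right
        intro v hv
        have e : tv S v * (s * y) = (tv S v * s * (tv S v)⁻¹) * (tv S v * y) := by group
        rw [e]
        exact mul_mem (hΩ _ (hs.conj h (Q_tv S h hv))) (ih v hv)
  | inv_mul_cancel s hs y _ ih =>
    rcases hs with ⟨v, hv, hs⟩ | hs
    · have hsv : s = tv S v := LinearEquiv.ext fun x => by rw [hs, tv_apply]
      have hsi : s⁻¹ = tv S v := by
        rw [hsv]; exact inv_eq_of_mul_eq_one_left (tv_tv S v)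
      rw [hsi]
      rcases ih with ih | ih
      · right
        intro v' hv'
        rw [← mul_assoc]
        exact mul_mem (tv_mul_tv_mem S h hd hΩ hv' hv) ih
      · left; exact ih v hv
    · rcases ih with ih | ih
      · left; exact mul_mem (inv_mem (hΩ _ hs)) ih
      · right
        intro v hv
        have e : tv S v * (s⁻¹ * y) = (tv S v * s * (tv S v)⁻¹)⁻¹ * (tv S v * y) := by group
        rw [e]
        exact mul_mem (inv_mem (hΩ _ (hs.conj h (Q_tv S h hv)))) (ih v hv)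

end Rf

variable {M : Type*} [Group M] {σ : M →* (U ≃ₗ[ZMod 2] U)} {γ : LinearMap.BilinForm (ZMod 2) U} {a : U}
  {X L : Subgroup M} {Q : U → ZMod 2}

/-- `σ L` is generated by the Siegel maps -/
theorem QD.map_L (D : QD σ γ a X L Q) (A : AB σ γ a X L) :
    L.map σ = Subgroup.closure {g | Rf.IsSg γ Q g} := by
  apply le_antisymm
  · rw [← A.closure_eq, MonoidHom.map_closure, Subgroup.closure_le]
    rintro _ ⟨_, ⟨l, hl, x, hx, rfl⟩, rfl⟩
    apply Subgroup.subset_closure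
    obtain ⟨w, hw, h⟩ := D.X_form x hx
    refine ⟨σ l a, σ l w, fun h0 => A.a_ne ((LinearEquiv.map_eq_zero_iff _).1 h0), by rw [D.inv]; exact D.Q_a A,
      by rw [A.iso]; exact hw, fun v => ?_⟩
    rw [A.conj_form l h, D.inv]
  · rw [Subgroup.closure_le]
    rintro g ⟨u, w, h1, h2, h3, h4⟩
    obtain ⟨l, hl, h5⟩ := D.exists_siegel A h1 h2 h3
    exact ⟨l, hl, LinearEquiv.ext fun v => by rw [h5, h4]⟩

/-- **`m² ∈ L`** -/
theorem QD.sq_mem (D : QD σ γ a X L Q) (A : AB σ γ a X L) (m : M) : m * m ∈ L := by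
  have := A.finite
  have S := A.sy
  have hΩ : ∀ g, Rf.IsSg γ Q g → g ∈ L.map σ := by
    intro g hg
    rw [D.map_L A]
    exact Subgroup.subset_closure hg
  have hback : ∀ k : M, σ k ∈ L.map σ → k ∈ L := by
    rintro k ⟨l, hl, h⟩
    rw [← A.inj h]; exact hl
  rcases Rf.dich S D.isQ A.card hΩ (g := σ m) (D.inv m) with h | h
  · exact mul_mem (hback m h) (hback m h)
  · -- a nonsingular vector
    obtain ⟨v, hv⟩ : ∃ v, Q v = 1 := by
      obtain ⟨w, w', -, -, -, -, h5⟩ := S.exists_hyp A.card a a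
      by_contra hcon
      push Not at hcon
      have h0 : ∀ v, Q v = 0 := fun v => (z2 _).resolve_right (hcon v)
      have h1 := D.isQ.add w w'
      rw [h0, h0, h0, h5] at h1
      exact absurd h1 (by decide)
    obtain ⟨l, hl, h1⟩ := h v hv
    apply hback
    -- `σ m = t_v σ l`
    have h2 : σ m = Rf.tv S v * σ l := by
      rw [h1, ← mul_assoc, Rf.tv_tv, one_mul]
    have hinv : (Rf.tv S v)⁻¹ = Rf.tv S v := inv_eq_of_mul_eq_one_left (Rf.tv_tv S v)
    have h3 : Rf.tv S v * σ l * (Rf.tv S v)⁻¹ ∈ L.map σ := by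
      have h4 : σ l ∈ Subgroup.closure {g | Rf.IsSg γ Q g} := by
        rw [← D.map_L A]; exact ⟨l, hl, rfl⟩
      rw [D.map_L A]
      have h5 : Subgroup.closure {g | Rf.IsSg γ Q g} ≤
          (Subgroup.closure {g | Rf.IsSg γ Q g}).comap (MulAut.conj (Rf.tv S v)).toMonoidHom := by
        rw [Subgroup.closure_le]
        intro g hg
        apply Subgroup.subset_closure
        exact hg.conj D.isQ (Rf.Q_tv S D.isQ hv)
      exact h5 h4
    have h6 : σ (m * m) = (Rf.tv S v * σ l * (Rf.tv S v)⁻¹) * σ l := by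
      rw [map_mul, h2, hinv]; group
    rw [h6]
    exact mul_mem h3 ⟨l, hl, rfl⟩

end Cfsg.Agent.Omega.EH3.RowS

end

-- merged: Cfsg.Agent.Mrg.Omega.EH3.RowS.FrontTwo
section

section


/-!
# EH3, row S: `H / (⟨d,t⟩ × L)` is a 2-group (helper754)

* `Tri.sq_mem_L` : `k * k ∈ L` for `k ∈ HH d t`;
* `Tri.sq_mem` : `h * h ∈ ⟨d,t⟩ ⊔ L` for all `h : H`;
* `Tri.odd_mem` : elements of odd order of `H` lie in `⟨d,t⟩ ⊔ L`.
-/

set_option autoImplicit false

namespace Cfsg.Agent.Omega.EH3.RowS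

open Subgroup

namespace Tri

variable {H V : Type*} [Group H] [AddCommGroup V] [Module (ZMod 2) V]
  {ρ : H →* (V ≃ₗ[ZMod 2] V)} {b : LinearMap.BilinForm (ZMod 2) V} {q : V → ZMod 2}
  {a : V} {D : Submodule (ZMod 2) V} {X : Subgroup H} {w : ℕ} {L : Subgroup H} {d t : H}

variable (C : Cfg ρ b q a D X w) (S : Tri ρ X L d t)
include C S

theorem sq_mem_L (hN : L.Normal) (hq : IsQuasisimple L) (hZ : Odd (Nat.card (center L))) {k : H}
    (hk : k ∈ HH d t) : k * k ∈ L := by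
  obtain ⟨Q, hQ⟩ := S.exists_QD C hN hq hZ
  have h := hQ.sq_mem (S.ab C hN hq hZ) ⟨k, hk⟩
  exact h

omit C in
theorem closure_comm {s k : H} (hs : s ∈ closure {d, t}) (hk : k ∈ HH d t) : s * k = k * s := by
  have h : closure {d, t} ≤ centralizer {k} := by
    rw [closure_le]
    rintro x (rfl | rfl)
    · exact mem_centralizer_singleton_iff.2 (mem_HH.1 hk).1
    · exact mem_centralizer_singleton_iff.2 (mem_HH.1 hk).2
  exact mem_centralizer_singleton_iff.1 (h hs)

theorem sq_mem (hN : L.Normal) (hq : IsQuasisimple L) (hZ : Odd (Nat.card (center L))) (h : H) :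
    h * h ∈ closure {d, t} ⊔ L := by
  obtain ⟨s, hs, k, hk, rfl⟩ := S.exists_split C hN hq hZ h
  have e : s * k * (s * k) = (s * s) * (k * k) := by
    have := S.closure_comm hs hk
    calc s * k * (s * k) = s * (k * s) * k := by group
      _ = s * (s * k) * k := by rw [this]
      _ = _ := by group
  rw [e]
  exact mul_mem (mem_sup_left (mul_mem hs hs)) (mem_sup_right (S.sq_mem_L C hN hq hZ hk))

theorem odd_mem (hN : L.Normal) (hq : IsQuasisimple L) (hZ : Odd (Nat.card (center L))) {h : H}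
    (ho : Odd (orderOf h)) : h ∈ closure {d, t} ⊔ L := by
  obtain ⟨n, hn⟩ := ho
  have h1 := S.sq_mem C hN hq hZ h
  have h2 : h = (h * h) ^ (n + 1) := by
    have h3 := pow_orderOf_eq_one h
    rw [hn] at h3
    rw [← pow_two, ← pow_mul, show 2 * (n + 1) = (2 * n + 1) + 1 by ring, pow_succ, h3, one_mul]
  rw [h2]
  exact pow_mem h1 _

end Tri

end Cfsg.Agent.Omega.EH3.RowS

end

section


/-!
# RowS, BACK (helper73), part 8a: `⟨d,t⟩ = C_H(L)`, `⟨d,t⟩ ⊔ L` is normal and contains `X`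
-/

set_option autoImplicit false

namespace Cfsg.Agent.Omega.EH3.RowS.NormE

open Subgroup

variable {H V : Type*} [Group H] [AddCommGroup V] [Module (ZMod 2) V]
  {ρ : H →* (V ≃ₗ[ZMod 2] V)} {b : LinearMap.BilinForm (ZMod 2) V} {q : V → ZMod 2}
  {a : V} {D : Submodule (ZMod 2) V} {X : Subgroup H} {w : ℕ} {L : Subgroup H} {d t : H}

variable (C : Cfg ρ b q a D X w) (S : Tri ρ X L d t)
include C S

theorem closure_eq (hN : L.Normal) (hq : IsQuasisimple L) (hZ : Odd (Nat.card (center L))) :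
    closure {d, t} = centralizer (L : Set H) := by
  have hd : (d : H) ∈ closure {d, t} := subset_closure (by simp)
  have ht : (t : H) ∈ closure {d, t} := subset_closure (by simp)
  apply le_antisymm
  · intro s hs
    exact mem_centralizer_iff.2 fun l hl => (S.closure_comm hs (S.L_le hl)).symm
  · intro g hg
    rcases S.cent_L C hN hq hZ (fun l hl => mem_centralizer_iff.1 hg l hl) with h | h | h | h | h | h
    · rw [h]; exact one_mem _
    · rw [h]; exact ht
    · rw [h]; exact hd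
    · rw [h]; exact mul_mem hd ht
    · rw [h]; exact inv_mem hd
    · rw [h]; exact mul_mem (inv_mem hd) ht

theorem closure_normal (hN : L.Normal) (hq : IsQuasisimple L) (hZ : Odd (Nat.card (center L))) :
    (closure {d, t}).Normal := by
  rw [closure_eq C S hN hq hZ]
  constructor
  intro c hc g
  rw [mem_centralizer_iff] at hc ⊢
  intro l hl
  have h1 : g⁻¹ * l * g ∈ L := by
    have := hN.conj_mem l hl g⁻¹
    rwa [inv_inv] at this
  have h2 := hc _ h1
  calc l * (g * c * g⁻¹) = g * ((g⁻¹ * l * g) * c) * g⁻¹ := by group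
    _ = g * (c * (g⁻¹ * l * g)) * g⁻¹ := by rw [h2]
    _ = _ := by group

theorem sup_normal (hN : L.Normal) (hq : IsQuasisimple L) (hZ : Odd (Nat.card (center L))) :
    (closure {d, t} ⊔ L).Normal := by
  have := closure_normal C S hN hq hZ
  exact Subgroup.sup_normal _ _

theorem X_le_sup (hN : L.Normal) (hq : IsQuasisimple L) (hZ : Odd (Nat.card (center L))) :
    X ≤ closure {d, t} ⊔ L := by
  have ht : (t : H) ∈ closure {d, t} := subset_closure (by simp)
  intro x hx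
  rcases S.X_split C hx with h | h
  · exact mem_sup_right (S.X_le C hN hq hZ ⟨hx, h⟩)
  · have h1 : t * x ∈ L := S.X_le C hN hq hZ ⟨mul_mem S.t_mem hx, h⟩
    have h2 : x = t⁻¹ * (t * x) := by group
    rw [h2]
    exact mul_mem (mem_sup_left (inv_mem ht)) (mem_sup_right h1)

end Cfsg.Agent.Omega.EH3.RowS.NormE

end

end

-- merged: Cfsg.Agent.Mrg.Omega.EH3.RowS.XWitt
section

section


/-!
# RowS, BACK (helper73), part 5: the system `XSys` of the group generated by the Siegel maps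

`WOut ρ a o M q N T B P` : `XSys T B P M q`, the parabolics `P j`, `j ≠ o`, fix `a`, `P o` does not, `C_U(T) = ⟨a⟩`, `|T| = N`.
`out_D` (plus type), `out_C` (minus type).
-/

set_option autoImplicit false

namespace Cfsg.Agent.Omega.EH3.RowS.XWitt

open CoxeterSystem Cfsg.Agent.ChevalleyStructure.CoxeterGeom Cfsg.Agent.Tits.Roots Cfsg.Agent.Tits.Core
  Cfsg.Agent.Nodes.Reps Cfsg.Agent.Nodes.BNOf Cfsg.Agent.Nodes.StabComb Cfsg.Agent.Nodes.Bruhat
  Cfsg.Agent.Nodes.LeviDec Cfsg.Agent.Nodes.NormalForm Cfsg.Agent.ParSys Cfsg.Agent.ParSys.Words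
  Cfsg.Agent.Omega.ThmID Cfsg.Agent.ParSys.FreeCount
open Cfsg.Agent.TitsThree.Siegel Cfsg.Agent.TitsThree.SiegelGen
  Cfsg.Agent.TitsThree.WittFrame Cfsg.Agent.TitsThree.WBridge Cfsg.Agent.TitsThree.WittWeyl
  Cfsg.Agent.Nodes.WittAll Cfsg.Agent.Nodes.WittRoot Cfsg.Agent.Nodes.WittU Cfsg.Agent.Nodes.RGDLib
open Cfsg.Agent.Omega.EH3.RowS Cfsg.Agent.Omega.EH3.RowS.WF Cfsg.Agent.Omega.EH3.RowS.XProd

/-! ### Generalities -/

section rgd

variable {I W Y : Type*} [Fintype I] [DecidableEq I] [Group W] [Group Y] {M : CoxeterMatrix I}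
  {cs : CoxeterSystem M W} {A : I → I → ℤ} {h : IsCartan M A} {p : ℕ} {T : Subgroup Y} {n : I → Y}
  {X : (I → ℤ) → Subgroup Y} (R : RGD cs h p T n X)

include R

theorem n_mem_P [Finite W] (i : I) : n i ∈ PJ cs h T X {i} ∧ n i ∉ RGD.B cs h T X :=
  (mem_P_iff R).2 (cell_of_rp (rp_simple cs R.nsys i))

/-- a subgroup containing `B` and `n_i` contains `P_i` -/
theorem PJ_le [Finite W] {S0 : Subgroup Y} (hT : T ≤ S0) (hX : ∀ x, IsRoot cs h x → 0 ≤ x → X x ≤ S0) {i : I}
    (hn : n i ∈ S0) : PJ cs h T X {i} ≤ S0 := by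
  have hB : RGD.B cs h T X ≤ S0 := sup_le hT (iSup_le fun z => hX _ z.2.1 z.2.2)
  intro x hx
  by_cases hxB : x ∈ RGD.B cs h T X
  · exact hB hxB
  · obtain ⟨b₁, hb₁, k, hk, b₂, hb₂, rfl⟩ := (mem_P_iff R).1 ⟨hx, hxB⟩
    have h1 : (n i)⁻¹ * k ∈ T := (rp_simple cs R.nsys i).unique hk
    have h2 := mul_mem hn (hT h1)
    rw [mul_inv_cancel_left] at h2
    exact mul_mem (mul_mem (hB hb₁) h2) (hB hb₂)

theorem xtr [Finite W] : XTr (RGD.B cs h T X) (fun j => PJ cs h T X {j}) where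
  ex j := ⟨n j, n_mem_P R j⟩
  tr j x hx hxB y hy hyB := by
    have hred : cs.IsReduced [j] := by
      show cs.length (cs.wordProd [j]) = 1
      rw [wordProd_singleton, cs.length_simple]
    obtain ⟨b, hb, h1⟩ := trans_gal R hred (l := [x]) (l' := [y]) ⟨⟨hx, hxB⟩, trivial⟩ ⟨⟨hy, hyB⟩, trivial⟩
    refine ⟨b, hb, ?_⟩
    have h2 : (b * x)⁻¹ * (1 * y) ∈ RGD.B cs h T X := h1.2
    rwa [one_mul] at h2

end rgd

/-! ### The output -/

section out

variable {U : Type*} [AddCommGroup U] [Module (ZMod 2) U]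

/-- the output -/
structure WOut {Y : Type*} [Group Y] (ρ : Y →* (U ≃ₗ[ZMod 2] U)) (a : U) {J : Type*} (o : J) (M : J → J → ℕ)
    (q : J → ℕ) (N : ℕ) (T B : Subgroup Y) (P : J → Subgroup Y) : Prop where
  sys : XSys T B P M q
  tr : XTr B P
  fix : ∀ j, j ≠ o → ∀ x ∈ P j, ρ x a = a
  mov : ∃ x ∈ P o, ρ x a ≠ a
  cen : ∀ v, (∀ x ∈ T, ρ x v = v) → v = 0 ∨ v = a
  card : Nat.card T = N

/-- the stabiliser of a vector -/
def St {Y : Type*} [Group Y] (ρ : Y →* (U ≃ₗ[ZMod 2] U)) (a : U) : Subgroup Y where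
  carrier := {x | ρ x a = a}
  mul_mem' {x y} hx hy := by
    show ρ (x * y) a = a
    rw [map_mul]
    show ρ x (ρ y a) = a
    rw [hy, hx]
  one_mem' := by
    show ρ 1 a = a
    rw [map_one]; rfl
  inv_mem' {x} hx := by
    show ρ x⁻¹ a = a
    have h1 : ρ x⁻¹ (ρ x a) = a := by
      rw [map_inv]
      exact (ρ x).symm_apply_apply a
    rwa [hx] at h1

theorem mem_St {Y : Type*} [Group Y] {ρ : Y →* (U ≃ₗ[ZMod 2] U)} {a : U} {x : Y} : x ∈ St ρ a ↔ ρ x a = a := Iff.rfl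

end out

variable {U : Type*} [AddCommGroup U] [Module (ZMod 2) U] {γ : LinearMap.BilinForm (ZMod 2) U} {Q : U → ZMod 2}
  {G0 : Subgroup (U ≃ₗ[ZMod 2] U)}

theorem card_XG {n : ℕ} {F : Type*} [Field F] {V : Type*} [AddCommGroup V] [Module F V] {H : HForm F V}
    (Fr : Frame H (Fin n)) {a b : Fin n × Bool} (hab : a.1 ≠ b.1) : Nat.card (XG Fr a b) = Nat.card F := by
  symm
  refine Nat.card_congr (Equiv.ofBijective (fun t : F => (⟨Fr.X a b t, t, rfl⟩ : XG Fr a b)) ⟨?_, ?_⟩)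
  · intro s t e
    have e1 : Fr.X a b s = Fr.X a b t := congrArg Subtype.val e
    have e2 := X_apply_neg Fr hab s
    rw [e1, X_apply_neg Fr hab t] at e2
    have e3 : t • Fr.b a = s • Fr.b a := add_left_cancel e2
    by_contra hne
    have e4 : (t - s) • Fr.b a = 0 := by rw [sub_smul, e3, sub_self]
    exact Cfsg.Agent.Nodes.WittRGD.b_ne_zero a ((smul_eq_zero.1 e4).resolve_left (sub_ne_zero.2 (Ne.symm hne)))
  · rintro ⟨_, t, rfl⟩
    exact ⟨t, rfl⟩

theorem card_ZG {n : ℕ} {F : Type*} [Field F] {V : Type*} [AddCommGroup V] [Module F V] {H : HForm F V}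
    (Fr : Frame H (Fin n)) (a : Fin n × Bool) : Nat.card (ZG Fr a) = Nat.card Fr.Adm := by
  symm
  refine Nat.card_congr (Equiv.ofBijective (fun t : Fr.Adm => (⟨Fr.Z a t, t, rfl⟩ : ZG Fr a)) ⟨?_, ?_⟩)
  · intro s t e
    have e1 : Fr.Z a s = Fr.Z a t := congrArg Subtype.val e
    have e2 := Z_apply_neg Fr a s
    rw [e1, Z_apply_neg Fr a t, add_assoc, add_assoc] at e2
    have e3 := add_left_cancel e2
    have hη := Fr.η_ne a
    -- pair with `b (neg a)`
    have key : ∀ u : Fr.Adm, H.h (Fr.η a • u.w + (u.c * Fr.η a) • Fr.b a) (Fr.b (neg a)) =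
        u.c * Fr.η a * Fr.η (neg a) := by
      intro u
      rw [H.add_left, H.smul_left, H.smul_left, Fr.h0' _ (Fr.ok_mem u.ok), mul_zero, zero_add, Fr.hb_self_neg]
    have e4 := key t
    rw [e3, key s] at e4
    have hc : s.c = t.c := by
      have h1 : Fr.η a * Fr.η (neg a) ≠ 0 := mul_ne_zero hη (Fr.η_ne _)
      rw [mul_assoc, mul_assoc] at e4
      exact mul_right_cancel₀ h1 e4
    rw [hc] at e3
    have e5 : Fr.η a • t.w = Fr.η a • s.w := add_right_cancel e3
    have hw : t.w = s.w := by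
      have h1 := congrArg (fun v => (Fr.η a)⁻¹ • v) e5
      simpa [smul_smul, inv_mul_cancel₀ hη] using h1
    exact Frame.Adm.ext hw.symm hc
  · rintro ⟨_, t, rfl⟩
    exact ⟨t, rfl⟩

/-! ### Facts on the frame -/

section frame

variable (S : Sy γ) (hQ : IsQ γ Q) {k : ℕ} (W : WFrame (PF S hQ) k)

theorem b_mem_Tor {g : U ≃ₗ[ZMod 2] U} (hg : g ∈ Cfsg.Agent.Nodes.WittRGD.Tor (toFrame W) G0) (x : Fin k × Bool) :
    g ((toFrame W).b x) = (toFrame W).b x := by
  obtain ⟨l, hl, e⟩ := hg.2 x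
  rw [z2_ne hl, one_smul] at e
  exact e

theorem mono_apply {g : U ≃ₗ[ZMod 2] U} {π : Fin k × Bool → Fin k × Bool} (hg : Mono (toFrame W) g π)
    (x : Fin k × Bool) : g ((toFrame W).b x) = (toFrame W).b (π x) := by
  obtain ⟨l, hl, e⟩ := hg x
  rw [z2_ne hl, one_smul] at e
  exact e

theorem sc_one (y : Fin k × Bool) : (toFrame W).sc y 1 = 1 := by
  have h1 : (toFrame W).η y = 1 := by
    unfold Frame.η
    split_ifs <;> rfl
  unfold Frame.sc
  rw [h1]
  show -((1 : ZMod 2)⁻¹ * 1 * 1) = 1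
  rw [inv_one, mul_one, mul_one]
  exact neg_z 1

theorem b_ne_zero (x : Fin k × Bool) : (toFrame W).b x ≠ 0 := Cfsg.Agent.Nodes.WittRGD.b_ne_zero x

/-- an element fixed by `X x y 1` -/
theorem perp_of_X {x y : Fin k × Bool} (hxy : x.1 ≠ y.1) {v : U} (h : (toFrame W).X x y 1 v = v) :
    γ v ((toFrame W).b x) = 0 ∧ γ v ((toFrame W).b y) = 0 := by
  rw [Frame.X_eq _ hxy, sie_eq, sc_one, one_smul] at h
  unfold rr at h
  rw [zero_mul, zero_smul, add_zero, add_assoc] at h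
  have h1 : γ ((toFrame W).b x) v • (toFrame W).b y + γ ((toFrame W).b y) v • (toFrame W).b x = 0 :=
    add_eq_left.1 h
  have hne : (toFrame W).b x ≠ (toFrame W).b y := by
    intro e
    exact Cfsg.Agent.Nodes.WittRGD.not_prop (Fr := toFrame W) (x := x) (y := y) (fun h => hxy (congrArg Prod.fst h))
      one_ne_zero (by rw [one_smul]; exact e)
  rw [S.comm v, S.comm v]
  rcases z2 (γ ((toFrame W).b x) v) with h2 | h2 <;> rcases z2 (γ ((toFrame W).b y) v) with h3 | h3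
  · exact ⟨h2, h3⟩
  · rw [h2, h3, zero_smul, one_smul, zero_add] at h1
    exact absurd h1 (b_ne_zero S hQ W x)
  · rw [h2, h3, zero_smul, one_smul, add_zero] at h1
    exact absurd h1 (b_ne_zero S hQ W y)
  · rw [h2, h3, one_smul, one_smul] at h1
    exact absurd (add_eq_zero.1 h1).symm hne

/-- an element orthogonal to `b (o, true)` and fixed by `Z (o, true) p` -/
theorem perp_of_Z {o : Fin k} {v : U} (h0 : γ v (W.e o) = 0) {p : (toFrame W).Adm}
    (h : (toFrame W).Z (o, true) p v = v) : γ v p.w = 0 := by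
  have h1 : (HF S).sie ((toFrame W).b (o, true)) p.w p.c ((toFrame W).hb_self _)
      ((toFrame W).h0 _ _ ((toFrame W).ok_mem p.ok)) v = v := h
  rw [sie_eq] at h1
  unfold rr at h1
  have h2 : γ ((toFrame W).b (o, true)) v = 0 := by rw [S.comm]; exact h0
  rw [h2, mul_zero, zero_smul, add_zero, zero_smul, add_zero] at h1
  have h3 : γ p.w v • (toFrame W).b (o, true) = 0 := add_eq_left.1 h1
  rw [S.comm]
  exact (smul_eq_zero.1 h3).resolve_right (b_ne_zero S hQ W _)

/-- `v` orthogonal to `b x` for `x ≠ (o, false)` -/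
theorem sub_mem_V0 {o : Fin k} {v : U} (h : ∀ x, x ≠ (o, false) → γ v ((toFrame W).b x) = 0) :
    v + γ v (W.f o) • W.e o ∈ W.V0 := by
  have hee : ∀ i, γ (W.e o) (W.e i) = 0 := fun i => W.ee o i
  have hef : ∀ i, γ (W.e o) (W.f i) = if o = i then 1 else 0 := fun i => W.ef o i
  refine mem_V0_of_orth W (fun i => ?_) (fun i => ?_)
  · show γ (v + γ v (W.f o) • W.e o) (W.e i) = 0
    rw [map_add, map_smul, LinearMap.add_apply, LinearMap.smul_apply, hee, smul_zero, add_zero]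
    exact h (i, true) (by simp)
  · show γ (v + γ v (W.f o) • W.e o) (W.f i) = 0
    rw [map_add, map_smul, LinearMap.add_apply, LinearMap.smul_apply, hef]
    by_cases hi : o = i
    · subst hi
      rw [if_pos rfl, smul_eq_mul, mul_one]
      exact z2_add _
    · rw [if_neg hi, smul_zero, add_zero]
      exact h (i, false) (by simp [Ne.symm hi])

/-- all Siegel maps generate `G0` -/
theorem top_of_contains (h : OG γ Q G0) {L : Subgroup (U ≃ₗ[ZMod 2] U)} (hC : W.Contains L) : G0 ≤ L := by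
  refine h.gen.trans ((Subgroup.closure_le _).2 ?_)
  rintro g ⟨u, w, hu, hw, hg⟩
  have huu : (HF S).h u u = 0 := S.alt u
  have hw' : (HF S).h u w = 0 := hw
  have := WFrame.Contains.all W hC (u := u) (w := w) (c := Q w) hu.symm huu hw' rfl
  have e : (HF S).sie u w (Q w) huu hw' = g := by
    ext v
    rw [sie_eq, hg]
  rwa [e] at this

end frame

/-! ### Plus type -/

section D

open Cfsg.Agent.Nodes.TypeD
open Cfsg.Agent.Nodes.TypeC (wt wt_apply ng wt_ng)

variable (S : Sy γ) (hQ : IsQ γ Q) {n : ℕ} (W : WFrame (PF S hQ) (n + 2))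

theorem ee_zero_D (hn : 1 ≤ n) (x : Fin (n + 2) → ℤ) : ee x 0 = x 0 := by
  have h1 : ∀ j : Fin (n + 2), (x j • bt j) 0 = if j = 0 then x 0 else 0 := by
    intro j
    rw [Pi.smul_apply, smul_eq_mul, bt_apply]
    have h2 : ((0 : Fin (n + 2)) : ℕ) = 0 := rfl
    simp only [h2]
    by_cases hj : j = 0
    · subst hj
      simp
    · have h3 : (j : ℕ) ≠ 0 := fun h => hj (Fin.ext h)
      rw [if_neg hj, if_neg (Ne.symm h3), if_neg (Ne.symm h3), if_neg (show ¬ 0 = (j : ℕ) + 1 by omega),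
        if_neg (show ¬ 0 = n by omega)]
      simp
  unfold ee
  rw [Finset.sum_apply, Finset.sum_congr rfl fun j _ => h1 j, Finset.sum_ite_eq' Finset.univ (0 : Fin (n + 2)),
    if_pos (Finset.mem_univ _)]

variable {W}

theorem fix_rg_D {W' : Type*} [Group W'] {cs : CoxeterSystem (M n) W'} (hn : 1 ≤ n) {x : Fin (n + 2) → ℤ}
    (hx : IsRoot cs (isCartan n) x) (h0 : 0 ≤ x) {g : U ≃ₗ[ZMod 2] U}
    (hg : g ∈ Cfsg.Agent.Nodes.WittRGDD.rg (toFrame W) x) : g (W.e 0) = W.e 0 := by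
  obtain ⟨a, b, hab, e⟩ := exists_of_isRoot cs hx
  rw [Cfsg.Agent.Nodes.WittRGDD.rg_eq (toFrame W) hab e] at hg
  obtain ⟨t, rfl⟩ := hg
  have h1 := congrFun e 0
  rw [ee_zero_D hn, Pi.add_apply, wt_apply, wt_apply] at h1
  have h2 : 0 ≤ x 0 := h0 0
  have hne : ∀ c d : Fin (n + 2) × Bool, c.1 ≠ d.1 →
      x 0 = (if 0 = c.1 then (if c.2 then 1 else -1) else 0) + (if 0 = d.1 then (if d.2 then 1 else -1) else 0) →
      ((0, true) : Fin (n + 2) × Bool) ≠ neg c := by
    intro c d hcd h3 h4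
    have h5 : c.1 = 0 := (congrArg Prod.fst h4).symm
    have h6 : c.2 = false := by
      have := congrArg Prod.snd h4
      simpa [neg] using this.symm
    rw [h5, if_pos rfl, h6] at h3
    rw [h5] at hcd
    rw [if_neg hcd] at h3
    simp at h3
    omega
  exact X_apply_of_ne (toFrame W) hab (hne a b hab h1) (hne b a (Ne.symm hab) (by rw [h1, add_comm])) t

theorem out_D [Finite U] (h : OG γ Q G0) (hn : 1 ≤ n) (hV : W.V0 = ⊥) :
    ∃ (T B : Subgroup G0) (P : Fin (n + 2) → Subgroup G0),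
      WOut G0.subtype (W.e 0) (0 : Fin (n + 2)) (fun i j => M n i j) (fun _ => 2) (2 ^ ((n + 2) * (n + 1))) T B P := by
  classical
  set Fr := toFrame W with hFr
  have hA := h.amb S hQ W hV
  let cs := (M n).toCoxeterSystem
  have hfinW : Finite (M n).Group := finite_W cs
  have hfinG : Finite (U ≃ₗ[ZMod 2] U) :=
    Finite.of_injective (fun g : U ≃ₗ[ZMod 2] U => (g : U → U)) DFunLike.coe_injective
  have h0 : ∀ p : Fr.Adm, p = 1 := by
    intro p
    have hw : p.w = 0 := by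
      have h1 : p.w ∈ W.V0 := p.ok.1
      rwa [hV, Submodule.mem_bot] at h1
    have hc : p.c = Q p.w := p.ok.2
    apply Frame.Adm.ext
    · exact hw
    · rw [hc, hw, hQ.zero]; rfl
  have hle : ∀ x, Cfsg.Agent.Nodes.WittRGDD.rg Fr x ≤ G0 := by
    intro x
    refine iSup_le fun q => ?_
    rintro _ ⟨t, rfl⟩
    exact hA.X_mem _ _ _
  have R := rgd_restrict (rgdD (p := 2) hA h0 cs) G0 (fun x _ => hle x)
    (fun i => Cfsg.Agent.Nodes.WittRGDD.nn_mem hA i)
  set T' := (Cfsg.Agent.Nodes.WittRGD.Tor Fr G0).subgroupOf G0 with hT'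
  set X' : (Fin (n + 2) → ℤ) → Subgroup G0 := fun x => (Cfsg.Agent.Nodes.WittRGDD.rg Fr x).subgroupOf G0 with hX'
  -- generation
  have hG1 : G1 cs (isCartan n) X' = ⊤ := by
    set L := (G1 cs (isCartan n) X').map G0.subtype with hL
    have key : ∀ a b : Fin (n + 2) × Bool, a.1 ≠ b.1 → ∀ t, Fr.X a b t ∈ L := by
      intro a b hab t
      obtain ⟨x, hx, ex⟩ := rt_of_ok (cs := cs) (a := a) (b := b) hab
      refine ⟨⟨Fr.X a b t, hA.X_mem _ _ _⟩, ?_, rfl⟩
      refine X_le_G1 hx ?_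
      show Fr.X a b t ∈ Cfsg.Agent.Nodes.WittRGDD.rg Fr x
      rw [Cfsg.Agent.Nodes.WittRGDD.rg_eq Fr hab ex]
      exact ⟨t, rfl⟩
    have hne : pd n ≠ (⟨n + 1, by omega⟩ : Fin (n + 2)) := by simp [pd, Fin.ext_iff]
    have hC : W.Contains L := contains_D W (pd n) ⟨n + 1, by omega⟩ hne
      (fun i j hij t => by
        have h1 : i ≠ j := by rintro rfl; omega
        exact ⟨key _ _ h1 t, key _ _ h1.symm t⟩)
      (fun t => ⟨key _ _ hne t, key _ _ hne t⟩) h0
    have htop := top_of_contains S hQ W h hC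
    rw [eq_top_iff]
    intro k _
    obtain ⟨g', hg', he⟩ := htop k.2
    have : g' = k := Subtype.ext he
    exact this ▸ hg'
  have hG : GG cs (isCartan n) T' X' = ⊤ := by
    rw [eq_top_iff, ← hG1]
    exact le_sup_right
  -- orders
  have hq : ∀ j, Nat.card (X' (sr j)) = 2 := by
    intro j
    have h1 : Nat.card (X' (sr j)) = Nat.card (Cfsg.Agent.Nodes.WittRGDD.rg Fr (sr j)) :=
      Nat.card_congr (Subgroup.subgroupOfEquivOfLe (hle (sr j))).toEquiv
    rw [h1, Cfsg.Agent.Nodes.WittRGDD.rg_sr, card_XG Fr (ok_nx j), Nat.card_zmod]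
  -- the stabiliser of `e₀`
  have hTS : T' ≤ St G0.subtype (W.e 0) := fun t ht => b_mem_Tor S hQ W ht (0, true)
  have hXS : ∀ x, IsRoot cs (isCartan n) x → 0 ≤ x → X' x ≤ St G0.subtype (W.e 0) :=
    fun x hx hx0 g hg => fix_rg_D S hQ hn hx hx0 hg
  refine ⟨_, _, _, xsys_of_rgd R hG hq, xtr R, ?_, ?_, ?_, ?_⟩
  · intro j hj x hx
    have hnS : (⟨Cfsg.Agent.Nodes.WittRGDD.nn Fr j, Cfsg.Agent.Nodes.WittRGDD.nn_mem hA j⟩ : G0) ∈
        St G0.subtype (W.e 0) := by
      rw [mem_St]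
      show Cfsg.Agent.Nodes.WittRGDD.nn Fr j (Fr.b (0, true)) = Fr.b (0, true)
      rw [mono_apply S hQ W (Cfsg.Agent.Nodes.WittRGDD.mono_nn j) (0, true)]
      congr 1
      by_cases hj1 : (j : ℕ) + 1 < n + 2
      · exact sg_of_ne hj1 (Ne.symm hj) (by simp)
      · exact sg_last_of_ne hj1 (by show 0 < n; omega)
    exact PJ_le R hTS hXS hnS hx
  · refine ⟨_, (n_mem_P R 0).1, ?_⟩
    show Cfsg.Agent.Nodes.WittRGDD.nn Fr 0 (Fr.b (0, true)) ≠ Fr.b (0, true)
    rw [mono_apply S hQ W (Cfsg.Agent.Nodes.WittRGDD.mono_nn 0) (0, true)]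
    intro e
    exact Cfsg.Agent.Nodes.WittRGD.not_prop (Fr := Fr) (Cfsg.Agent.Nodes.WittRGDD.sg_ne (0 : Fin (n + 2)))
      one_ne_zero (by rw [one_smul]; exact e.symm)
  · intro v hv
    have hfix : ∀ y : Fin (n + 2) × Bool, y.1 ≠ 0 → γ v (Fr.b (0, true)) = 0 ∧ γ v (Fr.b y) = 0 := by
      intro y hy
      obtain ⟨x, hx, ex⟩ := rt_of_ok (cs := cs) (a := (0, true)) (b := y) (Ne.symm hy)
      have hx0 : 0 ≤ x := by
        rcases hx.pos_or_neg with h1 | h1
        · exact h1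
        · exfalso
          have h2 : x 0 ≤ 0 := h1 0
          have h3 := congrFun ex 0
          rw [ee_zero_D hn, Pi.add_apply, wt_apply, wt_apply, if_neg (Ne.symm hy)] at h3
          simp at h3
          omega
      refine perp_of_X S hQ W (x := (0, true)) (y := y) (Ne.symm hy) ?_
      have h1 : (⟨Fr.X (0, true) y 1, hA.X_mem _ _ _⟩ : G0) ∈ RGD.Sup X' (RGD.Pos cs (isCartan n)) := by
        refine RGD.le_Sup (X := X') (S := RGD.Pos cs (isCartan n)) (z := x) ⟨hx, hx0⟩ ?_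
        show Fr.X (0, true) y 1 ∈ Cfsg.Agent.Nodes.WittRGDD.rg Fr x
        rw [Cfsg.Agent.Nodes.WittRGDD.rg_eq Fr (a := (0, true)) (b := y) (Ne.symm hy) ex]
        exact ⟨1, rfl⟩
      exact hv _ h1
    have h1 : v + γ v (W.f 0) • W.e 0 ∈ W.V0 := by
      refine sub_mem_V0 S hQ W fun x hx => ?_
      by_cases hx0 : x.1 = 0
      · have hx1 : x = (0, true) := by
          rcases x with ⟨i, s⟩
          simp only at hx0
          subst hx0
          cases s
          · exact absurd rfl hx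
          · rfl
        rw [hx1]
        exact (hfix (1, true) (by simp)).1
      · exact (hfix x hx0).2
    rw [hV, Submodule.mem_bot, add_eq_zero] at h1
    rcases z2 (γ v (W.f 0)) with h2 | h2
    · left; rw [h1, h2, zero_smul]
    · right; rw [h2, one_smul] at h1; exact h1
  · obtain ⟨F, hF, he⟩ := cs.exists_isReduced (w0 cs)
    rw [XCard.card_U R hF he.symm hq]
    have hM : HasQ (M n) (fun _ => 2) (2 ^ ((n + 2) * (n + 1))) := by
      refine hasQ_D (Equiv.refl _) ?_ fun _ => rfl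
      intro i j hij
      rw [CoxeterMatrix.reindex_apply]
      show M n i j = _
      rw [M_apply, if_neg hij]
      unfold Cfsg.Agent.Nodes.TypeD.Adj
      have h1 := i.2
      have h2 := j.2
      congr 1
      apply propext
      constructor
      · rintro ((⟨h3, h4⟩ | ⟨h3, h4⟩) | (⟨h3, h4⟩ | ⟨h3, h4⟩)) <;> omega
      · rintro (⟨h3, h4⟩ | ⟨h3, h4⟩ | ⟨h3, h4⟩ | ⟨h3, h4⟩) <;> omega
    exact hM.2 F hF he.symm

end D

/-! ### Minus type -/

section C

open Cfsg.Agent.Nodes.TypeC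
open Cfsg.Agent.Nodes.WittRGD (Tor nn mono_nn rg_sr rg_neg_sr not_prop)

variable (S : Sy γ) (hQ : IsQ γ Q) {m : ℕ} (W : WFrame (PF S hQ) (m + 1))

theorem ee_zero_C (hm : 1 ≤ m) (x : Fin (m + 1) → ℤ) : ee x 0 = x 0 := by
  have h1 : ∀ j : Fin (m + 1), (x j • bt j) 0 = if j = 0 then x 0 else 0 := by
    intro j
    rw [Pi.smul_apply, smul_eq_mul, bt_apply]
    have h2 : ((0 : Fin (m + 1)) : ℕ) = 0 := rfl
    simp only [h2]
    by_cases hj : j = 0
    · subst hj
      simp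
      omega
    · have h3 : (j : ℕ) ≠ 0 := fun h => hj (Fin.ext h)
      rw [if_neg hj, if_neg (Ne.symm h3), if_neg (Ne.symm h3), if_neg (show ¬ 0 = (j : ℕ) + 1 by omega)]
      simp
  unfold ee
  rw [Finset.sum_apply, Finset.sum_congr rfl fun j _ => h1 j, Finset.sum_ite_eq' Finset.univ (0 : Fin (m + 1)),
    if_pos (Finset.mem_univ _)]

variable {W}

theorem fix_rg_C {W' : Type*} [Group W'] {cs : CoxeterSystem (CoxeterMatrix.B (m + 1)) W'} (hm : 1 ≤ m)
    {x : Fin (m + 1) → ℤ} (hx : IsRoot cs (isCartan (m + 1)) x) (h0 : 0 ≤ x) {g : U ≃ₗ[ZMod 2] U}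
    (hg : g ∈ Cfsg.Agent.Nodes.WittRoot.rg (toFrame W) x) : g (W.e 0) = W.e 0 := by
  obtain ⟨a, b, hab, e⟩ := exists_of_isRoot cs hx
  rw [Cfsg.Agent.Nodes.WittRoot.rg_eq (toFrame W) hab e] at hg
  have h1 := congrFun e 0
  rw [ee_zero_C hm, Pi.add_apply, wt_apply, wt_apply] at h1
  have h2 : 0 ≤ x 0 := h0 0
  have hne : ∀ c d : Fin (m + 1) × Bool, (c.1 ≠ d.1 ∨ c = d) →
      x 0 = (if 0 = c.1 then (if c.2 then 1 else -1) else 0) + (if 0 = d.1 then (if d.2 then 1 else -1) else 0) →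
      ((0, true) : Fin (m + 1) × Bool) ≠ neg c := by
    intro c d hcd h3 h4
    have h5 : c.1 = 0 := (congrArg Prod.fst h4).symm
    have h6 : c.2 = false := by
      have := congrArg Prod.snd h4
      simpa [neg] using this.symm
    rcases hcd with hcd | hcd
    · rw [h5, if_pos rfl, h6] at h3
      rw [h5] at hcd
      rw [if_neg hcd] at h3
      simp at h3
      omega
    · rw [← hcd, h5, if_pos rfl, h6] at h3
      simp at h3
      omega
  rcases hab with hab | hab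
  · rw [PG_ne _ hab] at hg
    obtain ⟨t, rfl⟩ := hg
    exact X_apply_of_ne (toFrame W) hab (hne a b (Or.inl hab) h1)
      (hne b a (Or.inl (Ne.symm hab)) (by rw [h1, add_comm])) t
  · subst hab
    rw [PG_self] at hg
    obtain ⟨p, rfl⟩ := hg
    exact Z_apply_of_ne (toFrame W) (hne a a (Or.inr rfl) h1) p

theorem out_C [Finite U] (h : OG γ Q G0) (hm : 1 ≤ m) {u₁ u₂ : U} (hV : Aniso γ Q W.V0 u₁ u₂)
    (hev : Even (Module.finrank (ZMod 2) U)) :
    ∃ (T B : Subgroup G0) (P : Fin (m + 1) → Subgroup G0),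
      WOut G0.subtype (W.e 0) (0 : Fin (m + 1)) (fun i j => CoxeterMatrix.B (m + 1) i j)
        (fun j => if (j : ℕ) = m then 4 else 2) (2 ^ ((m + 1) * m) * 4 ^ (m + 1)) T B P := by
  classical
  set Fr := toFrame W with hFr
  have hA := h.ambT S hQ W hV hev
  let cs := (CoxeterMatrix.B (m + 1)).toCoxeterSystem
  have hfinW : Finite (CoxeterMatrix.B (m + 1)).Group := finite_W cs
  have hfinG : Finite (U ≃ₗ[ZMod 2] U) :=
    Finite.of_injective (fun g : U ≃ₗ[ZMod 2] U => (g : U → U)) DFunLike.coe_injective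
  let p0 : Fr.Adm := ⟨u₁, 1, hV.x_mem, hV.qx.symm⟩
  have hp0 : p0.c ≠ 0 := one_ne_zero
  have hcardA : Nat.card Fr.Adm = 4 := by
    rw [← card_aniso hQ hV]
    refine Nat.card_congr
      { toFun := fun p => ⟨p.w, p.ok.1⟩
        invFun := fun w => ⟨w, Q w, w.2, rfl⟩
        left_inv := fun p => by
          apply Frame.Adm.ext
          · rfl
          · exact (p.ok.2 : p.c = Q p.w).symm
        right_inv := fun w => rfl }
  have hle : ∀ x, Cfsg.Agent.Nodes.WittRoot.rg Fr x ≤ G0 := fun x => hA.rg_le x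
  have R := rgd_restrict (rgdC (p := 2) hA hp0 cs) G0 (fun x _ => hle x) (fun i => Cfsg.Agent.Nodes.WittAll.nn_mem hA p0 i)
  set T' := (Tor Fr G0).subgroupOf G0 with hT'
  set X' : (Fin (m + 1) → ℤ) → Subgroup G0 := fun x => (Cfsg.Agent.Nodes.WittRoot.rg Fr x).subgroupOf G0 with hX'
  -- generation
  have hG1 : G1 cs (isCartan (m + 1)) X' = ⊤ := by
    set L := (G1 cs (isCartan (m + 1)) X').map G0.subtype with hL
    have key : ∀ a b : Fin (m + 1) × Bool, Ok a b → PG Fr a b ≤ L := by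
      intro a b hab g hg
      obtain ⟨x, hx, ex⟩ := rt_of_ok (cs := cs) (a := a) (b := b) hab
      have h1 : g ∈ Cfsg.Agent.Nodes.WittRoot.rg Fr x := by
        rw [Cfsg.Agent.Nodes.WittRoot.rg_eq Fr hab ex]
        exact hg
      exact ⟨⟨g, hle x h1⟩, X_le_G1 hx h1, rfl⟩
    have hC : W.Contains L := contains_C W (Fin.last m)
      (fun i j hij t => by
        have h1 : i ≠ j := by rintro rfl; omega
        refine ⟨key (i, true) (j, false) (Or.inl h1) ?_, key (j, true) (i, false) (Or.inl h1.symm) ?_⟩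
        · rw [PG_ne Fr (a := (i, true)) (b := (j, false)) h1]; exact ⟨t, rfl⟩
        · rw [PG_ne Fr (a := (j, true)) (b := (i, false)) h1.symm]; exact ⟨t, rfl⟩)
      (fun p => by
        refine ⟨key (Fin.last m, true) (Fin.last m, true) (Or.inr rfl) ?_,
          key (Fin.last m, false) (Fin.last m, false) (Or.inr rfl) ?_⟩
        · rw [PG_self]; exact ⟨p, rfl⟩
        · rw [PG_self]; exact ⟨p, rfl⟩) ⟨p0, hp0⟩
    have htop := top_of_contains S hQ W h hC
    rw [eq_top_iff]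
    intro k _
    obtain ⟨g', hg', he⟩ := htop k.2
    have : g' = k := Subtype.ext he
    exact this ▸ hg'
  have hG : GG cs (isCartan (m + 1)) T' X' = ⊤ := by
    rw [eq_top_iff, ← hG1]
    exact le_sup_right
  -- orders
  have hq : ∀ j : Fin (m + 1), Nat.card (X' (sr j)) = if (j : ℕ) = m then 4 else 2 := by
    intro j
    have h1 : Nat.card (X' (sr j)) = Nat.card (Cfsg.Agent.Nodes.WittRoot.rg Fr (sr j)) :=
      Nat.card_congr (Subgroup.subgroupOfEquivOfLe (hle (sr j))).toEquiv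
    rw [h1, rg_sr]
    by_cases hj : (j : ℕ) + 1 < m + 1
    · have hnx : nx j = (⟨j + 1, hj⟩, false) := by unfold nx; rw [dif_pos hj]
      have hne' : ((j, true) : Fin (m + 1) × Bool).1 ≠ (nx j).1 := by rw [hnx]; simp [Fin.ext_iff]
      rw [PG_ne Fr hne', card_XG Fr hne', Nat.card_zmod, if_neg (by omega)]
    · have hnx : nx j = (j, true) := by unfold nx; rw [dif_neg hj]
      have h2 := j.2
      rw [hnx, PG_self, card_ZG, hcardA, if_pos (by omega)]
  -- the stabiliser of `e₀`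
  have hTS : T' ≤ St G0.subtype (W.e 0) := fun t ht => b_mem_Tor S hQ W ht (0, true)
  have hXS : ∀ x, IsRoot cs (isCartan (m + 1)) x → 0 ≤ x → X' x ≤ St G0.subtype (W.e 0) :=
    fun x hx hx0 g hg => fix_rg_C S hQ hm hx hx0 hg
  refine ⟨_, _, _, xsys_of_rgd R hG hq, xtr R, ?_, ?_, ?_, ?_⟩
  · intro j hj x hx
    have hnS : (⟨nn Fr p0 j, Cfsg.Agent.Nodes.WittAll.nn_mem hA p0 j⟩ : G0) ∈ St G0.subtype (W.e 0) := by
      rw [mem_St]
      show nn Fr p0 j (Fr.b (0, true)) = Fr.b (0, true)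
      rw [mono_apply S hQ W (mono_nn hp0 j) (0, true)]
      congr 1
      exact sg_of_ne (Ne.symm hj) (by simp)
    exact PJ_le R hTS hXS hnS hx
  · refine ⟨_, (n_mem_P R 0).1, ?_⟩
    show nn Fr p0 0 (Fr.b (0, true)) ≠ Fr.b (0, true)
    rw [mono_apply S hQ W (mono_nn hp0 0) (0, true)]
    intro e
    refine not_prop (Fr := Fr) (x := (0, true)) (y := sg 0 (0, true)) ?_ one_ne_zero (by rw [one_smul]; exact e.symm)
    rw [sg_up (show ((0 : Fin (m + 1)) : ℕ) + 1 < m + 1 by simp; omega)]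
    simp [Fin.ext_iff]
  · intro v hv
    have hpos : ∀ y : Fin (m + 1) × Bool, Ok (0, true) y → ∀ g ∈ PG Fr (0, true) y, g v = v := by
      intro y hy g hg
      obtain ⟨x, hx, ex⟩ := rt_of_ok (cs := cs) (a := (0, true)) (b := y) hy
      have hx0 : 0 ≤ x := by
        rcases hx.pos_or_neg with h1 | h1
        · exact h1
        · exfalso
          have h2 : x 0 ≤ 0 := h1 0
          have h3 := congrFun ex 0
          rw [ee_zero_C hm, Pi.add_apply, wt_apply, wt_apply] at h3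
          rcases hy with hy | hy
          · rw [if_neg hy] at h3
            simp at h3
            omega
          · rw [← hy] at h3
            simp at h3
            omega
      have h0 : g ∈ Cfsg.Agent.Nodes.WittRoot.rg Fr x := by
        rw [Cfsg.Agent.Nodes.WittRoot.rg_eq Fr hy ex]
        exact hg
      have h1 : (⟨g, hle x h0⟩ : G0) ∈ RGD.Sup X' (RGD.Pos cs (isCartan (m + 1))) :=
        RGD.le_Sup (X := X') (S := RGD.Pos cs (isCartan (m + 1))) (z := x) ⟨hx, hx0⟩ h0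
      exact hv _ h1
    have hfix : ∀ y : Fin (m + 1) × Bool, y.1 ≠ 0 → γ v (Fr.b (0, true)) = 0 ∧ γ v (Fr.b y) = 0 := by
      intro y hy
      have hy' : ((0, true) : Fin (m + 1) × Bool).1 ≠ y.1 := Ne.symm hy
      refine perp_of_X S hQ W (x := (0, true)) (y := y) hy' ?_
      refine hpos y (Or.inl hy') _ ?_
      rw [PG_ne Fr hy']
      exact ⟨1, rfl⟩
    have h00 : γ v (W.e 0) = 0 := (hfix (⟨1, by omega⟩, true) (by simp [Fin.ext_iff])).1
    have hz : ∀ w ∈ W.V0, γ v w = 0 := by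
      intro w hw
      refine perp_of_Z S hQ W (o := 0) h00 (p := ⟨w, Q w, hw, rfl⟩) ?_
      refine hpos (0, true) (Or.inr rfl) _ ?_
      rw [PG_self]
      exact ⟨_, rfl⟩
    have h1 : v + γ v (W.f 0) • W.e 0 ∈ W.V0 := by
      refine sub_mem_V0 S hQ W fun x hx => ?_
      by_cases hx0 : x.1 = 0
      · have hx1 : x = (0, true) := by
          rcases x with ⟨i, s⟩
          simp only at hx0
          subst hx0
          cases s
          · exact absurd rfl hx
          · rfl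
        rw [hx1]
        exact h00
      · exact (hfix x hx0).2
    have h2 : ∀ w ∈ W.V0, γ (v + γ v (W.f 0) • W.e 0) w = 0 := by
      intro w hw
      rw [map_add, map_smul, LinearMap.add_apply, LinearMap.smul_apply, hz w hw, S.comm (W.e 0)]
      have h3 : γ w (W.e 0) = 0 := W.V0e w hw 0
      rw [h3, smul_zero, add_zero]
    have h3 : v + γ v (W.f 0) • W.e 0 = 0 := by
      rcases hV.all _ h1 with h4 | h4 | h4 | h4
      · exact h4
      · have := h2 u₂ hV.y_mem
        rw [h4, hV.xy] at this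
        exact absurd this (by decide)
      · have := h2 u₁ hV.x_mem
        rw [h4, S.comm, hV.xy] at this
        exact absurd this (by decide)
      · have := h2 u₁ hV.x_mem
        rw [h4, map_add, LinearMap.add_apply, S.alt, S.comm, hV.xy] at this
        exact absurd this (by decide)
    rw [add_eq_zero] at h3
    rcases z2 (γ v (W.f 0)) with h4 | h4
    · left; rw [h3, h4, zero_smul]
    · right; rw [h4, one_smul] at h3; exact h3
  · obtain ⟨F, hF, he⟩ := cs.exists_isReduced (w0 cs)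
    rw [XCard.card_U R hF he.symm hq]
    have hM : HasQ (CoxeterMatrix.B (m + 1)) (fun j : Fin (m + 1) => if (j : ℕ) = m then 4 else 2)
        (2 ^ ((m + 1) * m) * 4 ^ (m + 1)) := by
      refine hasQ_B (Equiv.refl _) ?_ fun _ => rfl
      intro i j hij
      rw [CoxeterMatrix.reindex_apply]
      show (if i = j then 1 else (if (i : ℕ) = m + 1 - 1 ∧ (j : ℕ) = m + 1 - 2 ∨
        (j : ℕ) = m + 1 - 1 ∧ (i : ℕ) = m + 1 - 2 then 4
        else (if (j : ℕ) + 1 = i ∨ (i : ℕ) + 1 = j then 3 else 2))) = _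
      rw [if_neg hij]
      have h1 := i.2
      have h2 := j.2
      have h5 : (i : ℕ) ≠ j := fun h => hij (Fin.ext h)
      split_ifs <;> omega
    exact hM.2 F hF he.symm

end C

end Cfsg.Agent.Omega.EH3.RowS.XWitt

end

section


/-!
# RowS, BACK (helper73), part 8: the system of `⟨d, t⟩ × L`

`XOut ρ a N M₂ q₂ N₂ T B P` : the parabolic system of `N = ⟨d,t⟩ ⊔ L`, diagram `Unit ⊕ Fin (r+1)`;
`main_sys` : `L` of type `D_{n+2}` (`w = 2 (n+2)`) or `²D_{m+2}` (diagram `B_{m+1}`, `w = 2 (m+2)`).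
-/

set_option autoImplicit false

namespace Cfsg.Agent.Omega.EH3.RowS.SysOf

open Subgroup Cfsg.Agent.Omega.ThmID Cfsg.Agent.Omega.EH3.RowS Cfsg.Agent.Omega.EH3.RowS.XProd
  Cfsg.Agent.Omega.EH3.RowS.XS3 Cfsg.Agent.Omega.EH3.RowS.XWitt Cfsg.Agent.Omega.EH3.RowS.WF
open Cfsg.Agent.Omega.EH3.RowS.Tri (gam ρ₀)

/-! ### Transport of `WOut` -/

theorem wout_comap {U Y Y' : Type*} [AddCommGroup U] [Module (ZMod 2) U] [Group Y] [Group Y']
    {ρ : Y →* (U ≃ₗ[ZMod 2] U)} {a : U} {J : Type*} {o : J} {M : J → J → ℕ} {q : J → ℕ} {N : ℕ}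
    {T B : Subgroup Y} {P : J → Subgroup Y} (f : Y' ≃* Y) (h : WOut ρ a o M q N T B P) :
    WOut (ρ.comp f.toMonoidHom) a o M q N (T.comap f.toMonoidHom) (B.comap f.toMonoidHom)
      (fun j => (P j).comap f.toMonoidHom) where
  sys := comap f h.sys
  tr :=
    { ex := fun j => by
        obtain ⟨x, hx, h1⟩ := h.tr.ex j
        refine ⟨f.symm x, ?_, ?_⟩
        · show f (f.symm x) ∈ P j
          rw [f.apply_symm_apply]; exact hx
        · intro h2
          have h3 : f (f.symm x) ∈ B := h2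
          rw [f.apply_symm_apply] at h3
          exact h1 h3
      tr := fun j x hx hxB y hy hyB => by
        obtain ⟨b, hb, h1⟩ := h.tr.tr j (f x) hx hxB (f y) hy hyB
        refine ⟨f.symm b, ?_, ?_⟩
        · show f (f.symm b) ∈ B
          rw [f.apply_symm_apply]; exact hb
        · show f ((f.symm b * x)⁻¹ * y) ∈ B
          rw [map_mul, map_inv, map_mul, f.apply_symm_apply]; exact h1 }
  fix j hj x hx := h.fix j hj (f x) hx
  mov := by
    obtain ⟨x, hx, h1⟩ := h.mov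
    refine ⟨f.symm x, ?_, ?_⟩
    · show f (f.symm x) ∈ P o
      rw [f.apply_symm_apply]; exact hx
    · show ρ (f (f.symm x)) a ≠ a
      rw [f.apply_symm_apply]; exact h1
  cen v hv := h.cen v fun x hx => by
    have h1 := hv (f.symm x) (by
      show f (f.symm x) ∈ T
      rw [f.apply_symm_apply]; exact hx)
    have h2 : ρ (f (f.symm x)) v = v := h1
    rwa [f.apply_symm_apply] at h2
  card := by
    rw [← h.card]
    refine Nat.card_congr
      { toFun := fun x => ⟨f x, x.2⟩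
        invFun := fun x => ⟨f.symm x, by
          show f (f.symm x) ∈ T
          rw [f.apply_symm_apply]; exact x.2⟩
        left_inv := fun x => Subtype.ext (f.symm_apply_apply x)
        right_inv := fun x => Subtype.ext (f.apply_symm_apply x) }

/-! ### The direct product -/

section sup

variable {H : Type*} [Group H] (E L : Subgroup H)

/-- `E × L → E ⊔ L` -/
def toSup (hc : ∀ s ∈ E, ∀ l ∈ L, s * l = l * s) : E × L →* ↥(E ⊔ L) where
  toFun x := ⟨x.1 * x.2, mul_mem (mem_sup_left x.1.2) (mem_sup_right x.2.2)⟩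
  map_one' := Subtype.ext (by simp)
  map_mul' x y := Subtype.ext (by
    show (x.1 * y.1 : H) * (x.2 * y.2 : H) = x.1 * x.2 * (y.1 * y.2)
    have h := hc y.1 y.1.2 x.2 x.2.2
    calc (x.1 * y.1 : H) * (x.2 * y.2 : H) = x.1 * (y.1 * x.2) * y.2 := by group
      _ = x.1 * (x.2 * y.1) * y.2 := by rw [h]
      _ = _ := by group)

variable {E L}

theorem toSup_bij (hc : ∀ s ∈ E, ∀ l ∈ L, s * l = l * s) (hd : ∀ g ∈ E, g ∈ L → g = 1) (hL : L.Normal) :
    Function.Bijective (toSup E L hc) := by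
  constructor
  · rw [injective_iff_map_eq_one]
    rintro ⟨⟨s, hs⟩, ⟨l, hl⟩⟩ h
    have h1 : s * l = 1 := congrArg Subtype.val h
    have h2 : s = l⁻¹ := eq_inv_of_mul_eq_one_left h1
    have h3 : s = 1 := hd s hs (by rw [h2]; exact inv_mem hl)
    subst h3
    rw [one_mul] at h1
    subst h1
    rfl
  · rintro ⟨x, hx⟩
    obtain ⟨s, hs, l, hl, rfl⟩ := mem_sup_of_normal_right.1 hx
    exact ⟨(⟨s, hs⟩, ⟨l, hl⟩), rfl⟩

/-- `E ⊔ L ≃ E × L` -/
noncomputable def supE (hc : ∀ s ∈ E, ∀ l ∈ L, s * l = l * s) (hd : ∀ g ∈ E, g ∈ L → g = 1) (hL : L.Normal) :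
    ↥(E ⊔ L) ≃* E × L :=
  (MulEquiv.ofBijective (toSup E L hc) (toSup_bij hc hd hL)).symm

theorem supE_spec (hc : ∀ s ∈ E, ∀ l ∈ L, s * l = l * s) (hd : ∀ g ∈ E, g ∈ L → g = 1) (hL : L.Normal)
    (x : ↥(E ⊔ L)) : (x : H) = (supE hc hd hL x).1 * (supE hc hd hL x).2 := by
  have h := (MulEquiv.ofBijective (toSup E L hc) (toSup_bij hc hd hL)).apply_symm_apply x
  exact (congrArg Subtype.val h).symm

theorem supE_mk (hc : ∀ s ∈ E, ∀ l ∈ L, s * l = l * s) (hd : ∀ g ∈ E, g ∈ L → g = 1) (hL : L.Normal)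
    (x : E × L) : supE hc hd hL (toSup E L hc x) = x :=
  (MulEquiv.ofBijective (toSup E L hc) (toSup_bij hc hd hL)).symm_apply_apply x

end sup

/-! ### The output -/

/-- the parabolic system of `N = ⟨d,t⟩ × L` -/
structure XOut {H V : Type*} [Group H] [AddCommGroup V] [Module (ZMod 2) V] (ρ : H →* (V ≃ₗ[ZMod 2] V)) (a : V)
    (N : Subgroup H) {r : ℕ} (M₂ : Fin (r + 1) → Fin (r + 1) → ℕ) (q₂ : Fin (r + 1) → ℕ) (N₂ : ℕ)
    (T B : Subgroup N) (P : Unit ⊕ Fin (r + 1) → Subgroup N) : Prop where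
  sys : XSys T B P (MM (fun _ _ => 1) M₂) (Sum.elim (fun _ => 2) q₂)
  fixT : ∀ v, (∀ g ∈ T, ρ (g : H) v = v) → v = 0 ∨ v = a
  mov0 : ∃ x ∈ P (Sum.inl ()), ρ (x : H) a ≠ a
  mov1 : ∃ x ∈ P (Sum.inr 0), ρ (x : H) a ≠ a
  fix : ∀ j, j ≠ 0 → ∀ x ∈ P (Sum.inr j), ρ (x : H) a = a
  card : Nat.card T = 2 * N₂

variable {H V : Type*} [Group H] [AddCommGroup V] [Module (ZMod 2) V]
  {ρ : H →* (V ≃ₗ[ZMod 2] V)} {b : LinearMap.BilinForm (ZMod 2) V} {q : V → ZMod 2}
  {a : V} {D : Submodule (ZMod 2) V} {X : Subgroup H} {w : ℕ} {L : Subgroup H} {d t : H}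

variable (C : Cfg ρ b q a D X w) (S : Tri ρ X L d t)

section

include C S

/-- the group generated by the Siegel maps -/
theorem og (hN : L.Normal) (hq : IsQuasisimple L) (hZ : Odd (Nat.card (center L))) {Q : UU ρ t → ZMod 2}
    (hQ : QD (ρ₀ ρ d t) (gam ρ b d t) (⟨a, S.a_mem C⟩ : UU ρ t) (X.subgroupOf (HH d t)) (L.subgroupOf (HH d t)) Q) :
    OG (gam ρ b d t) Q ((L.subgroupOf (HH d t)).map (ρ₀ ρ d t)) where
  iso := by
    rintro _ ⟨m, _, rfl⟩ u v
    exact (S.ab C hN hq hZ).iso m u v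
  isq := by
    rintro _ ⟨m, _, rfl⟩ v
    exact hQ.inv m v
  mem := by
    intro u w hu hQu huw
    obtain ⟨l, hl, h⟩ := hQ.exists_siegel (S.ab C hN hq hZ) hu hQu huw
    exact ⟨_, ⟨l, hl, rfl⟩, h⟩
  gen := by
    rw [hQ.map_L (S.ab C hN hq hZ)]
    apply Subgroup.closure_mono
    rintro g ⟨u, w, _, h2, h3, h4⟩
    exact ⟨u, w, h2, h3, h4⟩

/-- `L ≃ Ω(U,Q)` -/
noncomputable def eL : L ≃* ↥((L.subgroupOf (HH d t)).map (ρ₀ ρ d t)) :=
  (subgroupOfEquivOfLe S.L_le).symm.trans ((L.subgroupOf (HH d t)).equivMapOfInjective _ (S.ρ₀_inj C))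

theorem eL_coe (l : L) : ((eL C S l : ↥((L.subgroupOf (HH d t)).map (ρ₀ ρ d t))) : UU ρ t ≃ₗ[ZMod 2] UU ρ t) =
    ρ₀ ρ d t ⟨l, S.L_le l.2⟩ := rfl

theorem eL_apply (l : L) (u : UU ρ t) : ((((((L.subgroupOf (HH d t)).map (ρ₀ ρ d t)).subtype.comp
    (eL C S).toMonoidHom) l) u : UU ρ t) : V) = ρ (l : H) u := rfl

omit C in
theorem hcomm {s : H} (hs : s ∈ closure {d, t}) {l : H} (hl : l ∈ L) : s * l = l * s :=
  S.closure_comm hs (S.L_le hl)

theorem hdis (hN : L.Normal) (hq : IsQuasisimple L) (hZ : Odd (Nat.card (center L))) {g : H}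
    (h1 : g ∈ closure {d, t}) (h2 : g ∈ L) : g = 1 := S.closure_inf C hN hq hZ h1 (S.L_le h2)

/-- `⟨d,t⟩ = S₃` -/
theorem isS3 (hN : L.Normal) (hq : IsQuasisimple L) (hZ : Odd (Nat.card (center L))) :
    IsS3 (⟨d, subset_closure (by simp)⟩ : ↥(closure {d, t})) ⟨t, subset_closure (by simp)⟩ := by
  have hd : (d : H) ∈ closure {d, t} := subset_closure (by simp)
  have ht : (t : H) ∈ closure {d, t} := subset_closure (by simp)
  refine isS3_of ?_ ?_ ?_ ?_
  · rw [← orderOf_coe]; exact S.d_ord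
  · rw [← orderOf_coe]; exact S.t_ord
  · exact Subtype.ext S.conj
  · rintro ⟨g, hg⟩
    have key : ∀ i j : ℤ, g = d ^ i * t ^ j → ∃ x ∈ zpowers (⟨d, hd⟩ : ↥(closure {d, t})),
        ∃ y ∈ zpowers (⟨t, ht⟩ : ↥(closure {d, t})), (⟨g, hg⟩ : ↥(closure {d, t})) = x * y := by
      intro i j h
      exact ⟨_, ⟨i, rfl⟩, _, ⟨j, rfl⟩, Subtype.ext h⟩
    rcases S.cent_L C hN hq hZ (g := g) (fun l hl => (hcomm S hg hl).symm) with h | h | h | h | h | h
    · exact key 0 0 (by rw [h]; simp)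
    · exact key 0 1 (by rw [h]; simp)
    · exact key 1 0 (by rw [h]; simp)
    · exact key 1 1 (by rw [h]; simp)
    · exact key (-1) 0 (by rw [h]; simp)
    · exact key (-1) 1 (by rw [h]; simp)

/-- **The system of `⟨d,t⟩ ⊔ L`.** -/
theorem exists_xout (hN : L.Normal) (hq : IsQuasisimple L) (hZ : Odd (Nat.card (center L))) {r : ℕ}
    {M₂ : Fin (r + 1) → Fin (r + 1) → ℕ} {q₂ : Fin (r + 1) → ℕ} {N₂ : ℕ}
    {T₀ B₀ : Subgroup ↥((L.subgroupOf (HH d t)).map (ρ₀ ρ d t))}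
    {P₀ : Fin (r + 1) → Subgroup ↥((L.subgroupOf (HH d t)).map (ρ₀ ρ d t))}
    (h : WOut ((L.subgroupOf (HH d t)).map (ρ₀ ρ d t)).subtype (⟨a, S.a_mem C⟩ : UU ρ t) (0 : Fin (r + 1)) M₂ q₂ N₂
      T₀ B₀ P₀) :
    ∃ T B P, XOut ρ a (closure {d, t} ⊔ L) M₂ q₂ N₂ T B P := by
  have hW := wout_comap (eL C S) h
  have h3 := isS3 C S hN hq hZ
  set f : ↥(closure {d, t} ⊔ L) ≃* ↥(closure {d, t}) × L :=
    supE (fun s hs l hl => hcomm S hs hl) (fun g h1 h2 => hdis C S hN hq hZ h1 h2) hN with hf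
  have hspec : ∀ x : ↥(closure {d, t} ⊔ L), (x : H) = (f x).1 * (f x).2 := fun x => supE_spec _ _ _ x
  have hmk : ∀ x : ↥(closure {d, t}) × L, ∃ y : ↥(closure {d, t} ⊔ L), f y = x ∧ (y : H) = x.1 * x.2 :=
    fun x => ⟨toSup _ _ (fun s hs l hl => hcomm S hs hl) x, supE_mk _ _ _ x, rfl⟩
  have hprod := prod h3.xsys hW.sys h3.xtr hW.tr
  have hmem : ∀ (K : Subgroup (↥(closure {d, t}) × L)) {y : ↥(closure {d, t} ⊔ L)} {x : ↥(closure {d, t}) × L},
      f y = x → x ∈ K → y ∈ K.comap f.toMonoidHom := by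
    rintro K y _ rfl h
    exact h
  refine ⟨_, _, _, comap f hprod, ?_, ?_, ?_, ?_, ?_⟩
  · -- fixed points
    intro v hv
    have ht : v ∈ UU ρ t := by
      obtain ⟨y, hy, hy'⟩ := hmk (⟨t, subset_closure (by simp)⟩, 1)
      have h1 := hv y (hmem _ hy (mem_prod.2 ⟨mem_zpowers _, one_mem _⟩))
      rw [hy'] at h1
      have e : (((⟨t, subset_closure (by simp)⟩ : ↥(closure {d, t})), (1 : L)).1 : H) *
          (((⟨t, subset_closure (by simp)⟩ : ↥(closure {d, t})), (1 : L)).2 : H) = t := by simp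
      rw [e] at h1
      exact h1
    have h1 := hW.cen ⟨v, ht⟩ (by
      intro l hl
      apply Subtype.ext
      rw [eL_apply]
      obtain ⟨y, hy, hy'⟩ := hmk (1, l)
      have h2 := hv y (hmem _ hy (mem_prod.2 ⟨one_mem _, hl⟩))
      rw [hy'] at h2
      have e : (((1 : ↥(closure {d, t})), l).1 : H) * (((1 : ↥(closure {d, t})), l).2 : H) = l := by simp
      rw [e] at h2
      exact h2)
    rcases h1 with h1 | h1
    · exact Or.inl (congrArg Subtype.val h1)
    · exact Or.inr (congrArg Subtype.val h1)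
  · -- `d` moves `a`
    obtain ⟨y, hy, hy'⟩ := hmk (⟨d, subset_closure (by simp)⟩, 1)
    refine ⟨y, hmem _ hy (mem_prod.2 ⟨mem_top _, one_mem _⟩), ?_⟩
    · rw [hy']
      have e : (((⟨d, subset_closure (by simp)⟩ : ↥(closure {d, t})), (1 : L)).1 : H) *
          (((⟨d, subset_closure (by simp)⟩ : ↥(closure {d, t})), (1 : L)).2 : H) = d := by simp
      rw [e]
      exact fun h0 => C.a_ne (S.d_fix a h0)
  · obtain ⟨l, hl, h1⟩ := hW.mov
    obtain ⟨y, hy, hy'⟩ := hmk (1, l)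
    refine ⟨y, hmem _ hy (mem_prod.2 ⟨one_mem _, hl⟩), ?_⟩
    · rw [hy']
      have e : (((1 : ↥(closure {d, t})), l).1 : H) * (((1 : ↥(closure {d, t})), l).2 : H) = l := by simp
      rw [e]
      exact fun h0 => h1 (Subtype.ext h0)
  · intro j hj x hx
    have hx' : f x ∈ (zpowers (⟨t, subset_closure (by simp)⟩ : ↥(closure {d, t}))).prod _ := hx
    obtain ⟨h1, h2⟩ := mem_prod.1 hx'
    have h4 := congrArg Subtype.val (hW.fix j hj (f x).2 h2)
    rw [eL_apply] at h4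
    have h5 : ρ ((f x).1 : H) a = a := by
      rcases h3.mem_B.1 h1 with h6 | h6
      · rw [h6]
        show ρ 1 a = a
        rw [map_one]; rfl
      · rw [h6]
        exact C.X_a S.t_mem
    have h4' : ρ ((f x).2 : H) a = a := h4
    rw [hspec x, C.ρ_mul, h4', h5]
  · have hc : Nat.card ↥(((zpowers (⟨t, subset_closure (by simp)⟩ : ↥(closure {d, t}))).prod
        (T₀.comap (eL C S).toMonoidHom)).comap f.toMonoidHom) =
        Nat.card ↥((zpowers (⟨t, subset_closure (by simp)⟩ : ↥(closure {d, t}))).prod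
        (T₀.comap (eL C S).toMonoidHom)) := by
      refine Nat.card_congr
        { toFun := fun x => ⟨f x, x.2⟩
          invFun := fun x => ⟨f.symm x, hmem _ (f.apply_symm_apply x) x.2⟩
          left_inv := fun x => Subtype.ext (f.symm_apply_apply x)
          right_inv := fun x => Subtype.ext (f.apply_symm_apply x) }
    rw [hc, Nat.card_congr (Subgroup.prodEquiv _ _).toEquiv, Nat.card_prod, h3.card_t, hW.card]

/-- **The system of `⟨d,t⟩ ⊔ L`: the two types.** -/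
theorem main_sys (hN : L.Normal) (hq : IsQuasisimple L) (hZ : Odd (Nat.card (center L))) :
    (∃ n : ℕ, 1 ≤ n ∧ w = 2 * (n + 2) ∧ ∃ T B P, XOut ρ a (closure {d, t} ⊔ L) (r := n + 1)
      (fun i j => Cfsg.Agent.Nodes.TypeD.M n i j) (fun _ => 2) (2 ^ ((n + 2) * (n + 1))) T B P) ∨
    (∃ m : ℕ, 1 ≤ m ∧ w = 2 * (m + 2) ∧ ∃ T B P, XOut ρ a (closure {d, t} ⊔ L) (r := m)
      (fun i j => CoxeterMatrix.B (m + 1) i j) (fun j => if (j : ℕ) = m then 4 else 2)
      (2 ^ ((m + 1) * m) * 4 ^ (m + 1)) T B P) := by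
  obtain ⟨Q, hQ⟩ := S.exists_QD C hN hq hZ
  have A := S.ab C hN hq hZ
  have hS := A.sy
  have hfin := A.finite
  have hog := og C S hN hq hZ hQ
  have hcard := S.card_U C
  obtain ⟨k, W, hWe, hcd, hV⟩ := exists_wframe hS hQ.isQ (a := (⟨a, S.a_mem C⟩ : UU ρ t)) A.a_ne (hQ.Q_a A)
  rw [hcard] at hcd
  rcases hV with hV | ⟨x, y, hV⟩
  · -- plus type
    left
    have h1 : Nat.card W.V0 = 1 := by rw [hV]; simp
    rw [h1, mul_one] at hcd
    have h2 : w = 2 * (k + 1) := Nat.pow_right_injective le_rfl hcd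
    have h5 := C.five
    obtain ⟨n, rfl⟩ : ∃ n, k = n + 1 := ⟨k - 1, by omega⟩
    have hn : 1 ≤ n := by omega
    obtain ⟨T₀, B₀, P₀, hW⟩ := out_D hS hQ.isQ (W := W) hog hn hV
    refine ⟨n, hn, by omega, ?_⟩
    have hW' : WOut ((L.subgroupOf (HH d t)).map (ρ₀ ρ d t)).subtype (⟨a, S.a_mem C⟩ : UU ρ t) (0 : Fin (n + 1 + 1))
      (fun i j => Cfsg.Agent.Nodes.TypeD.M n i j) (fun _ => 2) (2 ^ ((n + 2) * (n + 1))) T₀ B₀ P₀ := by
      rw [← hWe]; exact hW
    exact exists_xout C S hN hq hZ hW'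
  · -- minus type
    right
    have h1 : Nat.card W.V0 = 4 := card_aniso hQ.isQ hV
    have h0 : (4 : ℕ) = 2 ^ 2 := by norm_num
    rw [h1, h0, ← pow_add] at hcd
    have h2 : w = 2 * (k + 1) + 2 := Nat.pow_right_injective le_rfl hcd
    have h5 := C.five
    have hk : 1 ≤ k := by omega
    have hev : Even (Module.finrank (ZMod 2) (UU ρ t)) := by
      have h3 : Nat.card (UU ρ t) = 2 ^ Module.finrank (ZMod 2) (UU ρ t) := by
        rw [Module.natCard_eq_pow_finrank (K := ZMod 2) (V := UU ρ t), Nat.card_zmod]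
      rw [hcard] at h3
      have h4 : w = Module.finrank (ZMod 2) (UU ρ t) := Nat.pow_right_injective le_rfl h3
      rw [← h4, h2]
      exact ⟨k + 2, by ring⟩
    obtain ⟨T₀, B₀, P₀, hW⟩ := out_C hS hQ.isQ (W := W) hog hk hV hev
    refine ⟨k, hk, by omega, ?_⟩
    have hW' : WOut ((L.subgroupOf (HH d t)).map (ρ₀ ρ d t)).subtype (⟨a, S.a_mem C⟩ : UU ρ t) (0 : Fin (k + 1))
      (fun i j => CoxeterMatrix.B (k + 1) i j) (fun j => if (j : ℕ) = k then 4 else 2)
      (2 ^ ((k + 1) * k) * 4 ^ (k + 1)) T₀ B₀ P₀ := by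
      rw [← hWe]; exact hW
    exact exists_xout C S hN hq hZ hW'

end

end Cfsg.Agent.Omega.EH3.RowS.SysOf

end

section


/-!
# RowS, BACK (helper73), part 7: the diagrams

`sumM M` : the Coxeter matrix of an isolated node and `M`; `eO r : Option (Unit ⊕ Fin r) ≃ Fin (r + 2)`.
`typeD_ext`, `typeB_ext` : joining the new node with the isolated node and the node `0` of `D_{n+2}`, `B_{m+1}` gives
`D_{n+4}`, `B_{m+3}`.
-/

set_option autoImplicit false

namespace Cfsg.Agent.Omega.EH3.RowS.Diag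

open Cfsg.Agent.Omega.EH3Close Cfsg.Agent.ParSys.RootEpsBD

/-- an isolated node and `M` -/
def sumM {J : Type*} (M : CoxeterMatrix J) : CoxeterMatrix (Unit ⊕ J) where
  M := Matrix.of fun
    | .inl _, .inl _ => 1
    | .inl _, .inr _ => 2
    | .inr _, .inl _ => 2
    | .inr i, .inr j => M i j
  isSymm := by
    ext i j
    rcases i with _ | i <;> rcases j with _ | j <;> try rfl
    exact M.symmetric j i
  diagonal i := by
    rcases i with _ | i
    · rfl
    · exact M.diagonal i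
  off_diagonal i j hij := by
    rcases i with _ | i <;> rcases j with _ | j
    · exact absurd rfl hij
    · show 2 ≠ 1
      decide
    · show 2 ≠ 1
      decide
    · exact M.off_diagonal i j fun h => hij (by rw [h])

variable {J : Type*} {M : CoxeterMatrix J}

theorem sumM_inl_inl (i j : Unit) : sumM M (.inl i) (.inl j) = 1 := rfl
theorem sumM_inl_inr (i : Unit) (j : J) : sumM M (.inl i) (.inr j) = 2 := rfl
theorem sumM_inr_inl (i : J) (j : Unit) : sumM M (.inr i) (.inl j) = 2 := rfl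
theorem sumM_inr_inr (i j : J) : sumM M (.inr i) (.inr j) = M i j := rfl

/-- the numbering -/
def eO (r : ℕ) : Option (Unit ⊕ Fin r) ≃ Fin (r + 2) where
  toFun
    | none => 1
    | some (.inl _) => 0
    | some (.inr j) => ⟨j + 2, by omega⟩
  invFun i := if h : (i : ℕ) < 2 then (if (i : ℕ) = 0 then some (.inl ()) else none) else some (.inr ⟨i - 2, by omega⟩)
  left_inv o := by
    rcases o with _ | ⟨_ | j⟩
    · rfl
    · rfl
    · simp
  right_inv i := by
    dsimp only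
    by_cases h : (i : ℕ) < 2
    · rw [dif_pos h]
      by_cases h0 : (i : ℕ) = 0
      · rw [if_pos h0]; exact Fin.ext h0.symm
      · rw [if_neg h0]
        exact Fin.ext (by show 1 = (i : ℕ); omega)
    · rw [dif_neg h]
      exact Fin.ext (by show (i : ℕ) - 2 + 2 = (i : ℕ); omega)

theorem eO_none (r : ℕ) : ((eO r none : Fin (r + 2)) : ℕ) = 1 := rfl
theorem eO_inl (r : ℕ) (u : Unit) : ((eO r (some (.inl u)) : Fin (r + 2)) : ℕ) = 0 := rfl
theorem eO_inr (r : ℕ) (j : Fin r) : ((eO r (some (.inr j)) : Fin (r + 2)) : ℕ) = j + 2 := rfl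

/-- the new node is joined with the isolated node and with `0` -/
def jn (r : ℕ) : Finset (Unit ⊕ Fin (r + 1)) := {Sum.inl (), Sum.inr 0}

theorem mem_jn_inl (r : ℕ) (u : Unit) : (Sum.inl u : Unit ⊕ Fin (r + 1)) ∈ jn r := by
  unfold jn; simp

theorem mem_jn_inr (r : ℕ) (j : Fin (r + 1)) : (Sum.inr j : Unit ⊕ Fin (r + 1)) ∈ jn r ↔ (j : ℕ) = 0 := by
  rw [jn, Finset.mem_insert, Finset.mem_singleton, Sum.inr.injEq, Fin.ext_iff]
  constructor
  · rintro (h | h)
    · exact absurd h (by simp)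
    · exact h
  · exact fun h => Or.inr h

theorem typeD_ext (n : ℕ) (hn : 1 ≤ n) :
    TypeD (m := n + 2) ((extM (sumM (Nodes.TypeD.M n)) (jn (n + 1))).reindex (eO (n + 2))) := by
  intro i j hij
  obtain ⟨i, rfl⟩ := (eO (n + 2)).surjective i
  obtain ⟨j, rfl⟩ := (eO (n + 2)).surjective j
  have hij' : i ≠ j := fun h => hij (by rw [h])
  rw [CoxeterMatrix.reindex_apply, Equiv.symm_apply_apply, Equiv.symm_apply_apply]
  rcases i with _ | ⟨_ | i⟩ <;> rcases j with _ | ⟨_ | j⟩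
  · exact absurd rfl hij'
  · rw [extM_none_some, if_pos (mem_jn_inl _ _), eO_none, eO_inl]; simp
  · rw [extM_none_some, eO_none, eO_inr]
    simp only [mem_jn_inr]
    split_ifs <;> omega
  · rw [extM_some_none, if_pos (mem_jn_inl _ _), eO_none, eO_inl]; simp
  · exact absurd rfl hij'
  · rw [extM_some_some, sumM_inl_inr, eO_inl, eO_inr, if_neg (by omega)]
  · rw [extM_some_none, eO_none, eO_inr]
    simp only [mem_jn_inr]
    split_ifs <;> omega
  · rw [extM_some_some, sumM_inr_inl, eO_inl, eO_inr, if_neg (by omega)]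
  · have h1 : i ≠ j := fun h => hij' (by rw [h])
    rw [extM_some_some, sumM_inr_inr, eO_inr, eO_inr, Nodes.TypeD.M_apply, if_neg h1]
    have hi := i.2
    have hj := j.2
    refine if_congr ?_ rfl rfl
    simp only [Nodes.TypeD.Adj]
    omega

theorem B_apply (n : ℕ) (i j : Fin n) : CoxeterMatrix.B n i j = if i = j then 1
    else (if (i : ℕ) = n - 1 ∧ (j : ℕ) = n - 2 ∨ (j : ℕ) = n - 1 ∧ (i : ℕ) = n - 2 then 4
      else (if (j : ℕ) + 1 = i ∨ (i : ℕ) + 1 = j then 3 else 2)) := rfl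

theorem typeB_ext (m : ℕ) (hm : 1 ≤ m) :
    TypeB (m := m + 2) ((extM (sumM (CoxeterMatrix.B (m + 1))) (jn m)).reindex (eO (m + 1))) := by
  intro i j hij
  obtain ⟨i, rfl⟩ := (eO (m + 1)).surjective i
  obtain ⟨j, rfl⟩ := (eO (m + 1)).surjective j
  have hij' : i ≠ j := fun h => hij (by rw [h])
  rw [CoxeterMatrix.reindex_apply, Equiv.symm_apply_apply, Equiv.symm_apply_apply]
  rcases i with _ | ⟨_ | i⟩ <;> rcases j with _ | ⟨_ | j⟩
  · exact absurd rfl hij'
  · rw [extM_none_some, if_pos (mem_jn_inl _ _), eO_none, eO_inl, if_neg (by omega), if_pos (by omega)]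
  · rw [extM_none_some, eO_none, eO_inr]
    simp only [mem_jn_inr]
    split_ifs <;> omega
  · rw [extM_some_none, if_pos (mem_jn_inl _ _), eO_none, eO_inl, if_neg (by omega), if_pos (by omega)]
  · exact absurd rfl hij'
  · rw [extM_some_some, sumM_inl_inr, eO_inl, eO_inr, if_neg (by omega), if_neg (by omega)]
  · rw [extM_some_none, eO_none, eO_inr]
    simp only [mem_jn_inr]
    split_ifs <;> omega
  · rw [extM_some_some, sumM_inr_inl, eO_inl, eO_inr, if_neg (by omega), if_neg (by omega)]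
  · have h1 : i ≠ j := fun h => hij' (by rw [h])
    rw [extM_some_some, sumM_inr_inr, eO_inr, eO_inr, B_apply, if_neg h1]
    have hi := i.2
    have hj := j.2
    split_ifs <;> omega

end Cfsg.Agent.Omega.EH3.RowS.Diag

end

end

-- merged: Cfsg.Agent.Mrg.Omega.EH3.RowS.Known
section

/-!
# RowS, BACK (helper73), part 9: `A ⊔ M0 = ⊤` implies that `G` is known

`known_of_xout`; `rowS_of_top` : `TopS → Main.RowS K`, with
`TopS` : in the `S₃`-case `⟨A, M0⟩ = G`, `M0` the preimage of `⟨d,t⟩ × L` in `C_G(z)`.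
-/

set_option autoImplicit false

namespace Cfsg.Agent.Omega.EH3.RowS.Known

open Cfsg Subgroup Cfsg.Agent.ParSys Cfsg.Agent.Omega.ThmID Cfsg.Agent.Omega.EH3 Cfsg.Agent.Omega.EH3Close
  Cfsg.Agent.Omega.EH3Close.Glue Cfsg.Agent.Co2Type.Quad Cfsg.Agent.LargeExtra.Base
  Cfsg.Agent.Omega.EH3.RowS.SysOf Cfsg.Agent.Omega.EH3.RowS.Diag Cfsg.Agent.ParSys.FreeCount
open Cfsg.Agent.Omega.EH3.Main (Sit STriple)
open Cfsg.Agent.Omega.Frame (Ctx Cls All)

universe u

theorem known_of_eq_top {G : Type u} [Group G] [IsSimpleGroup G] (hna : ¬ IsMulCommutative G) {X : Subgroup G}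
    (hX : X = ⊤) (h : IsSimpleGroup X → IsKnownSimple' X) : IsKnownSimple' G := by
  have e : X ≃* G := (MulEquiv.subgroupCongr hX).trans Subgroup.topEquiv
  have hs : IsSimpleGroup X := OddHalf.Known.isSimple_congr e.symm inferInstance
  exact OddHalf.Known.isKnownSimple'_congr e (Exits.not_comm_congr e.symm hna) (h hs)

section

variable {G : Type u} [Group G] [Finite G] {Q A : Subgroup G} {z a : G} {w : ℕ}

theorem known_of_xout (S : Sit Q A z a w) {N : Subgroup S.pair.H} (hN : N.Normal)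
    (hodd : ∀ g : S.pair.H, Odd (orderOf g) → g ∈ N) (hX0 : S.X ≤ N) {r : ℕ} {M₂ : CoxeterMatrix (Fin (r + 1))}
    {q₂ : Fin (r + 1) → ℕ} {N₂ : ℕ} {T B : Subgroup N} {P : Unit ⊕ Fin (r + 1) → Subgroup N}
    (h : XOut S.ρ S.pair.va N (fun i j => M₂ i j) q₂ N₂ T B P) (htwo : ∀ j, 2 ≤ q₂ j) (hq0 : q₂ 0 = 2) {k : ℕ}
    (hQ : HasQ (extM (sumM M₂) (jn r)) (qq (Sum.elim (fun _ => 2) q₂)) k)
    (hcard : 2 ^ (2 * w + 1) * (2 * N₂) = k)
    (hconn : ∀ J : Set (Option (Unit ⊕ Fin (r + 1))), J.Nonempty → Jᶜ.Nonempty →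
      ∃ i ∈ J, ∃ j ∈ Jᶜ, extM (sumM M₂) (jn r) i j ≠ 2)
    (h3 : 3 ≤ Nat.card (Option (Unit ⊕ Fin (r + 1)))) (htop : A ⊔ MM S.pair N = ⊤) : IsKnownSimple' G := by
  have hsimple := S.ctx.simple
  have hs := XEnd.sys S.cfg hN hodd hX0 h.sys h.fixT (extM (sumM M₂) (jn r)).toCoxeterSystem
    (by rintro (_ | i) (_ | j) <;> rfl)
    (by
      rintro (_ | j)
      · right
        refine ⟨?_, rfl, h.mov0⟩
        rw [extM_none_some, if_pos (mem_jn_inl _ _)]
      · by_cases hj : j = 0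
        · right
          subst hj
          refine ⟨?_, hq0, h.mov1⟩
          rw [extM_none_some, if_pos ((mem_jn_inr _ _).2 rfl)]
        · left
          refine ⟨?_, h.fix j hj⟩
          rw [extM_none_some, if_neg (fun h1 => hj (Fin.ext ((mem_jn_inr _ _).1 h1)))])
    (by
      rintro (_ | j)
      · exact le_rfl
      · exact htwo j)
  refine known_of_eq_top S.ctx.nonComm htop fun hsX => ?_
  refine Exits.known_lie (FreeLie.isLie hQ hs ?_ h3 hconn)
  have hle : up (phi S.pair N) T ≤ A ⊔ MM S.pair N := (up_le _ _).trans le_sup_right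
  rw [Nat.card_congr (Subgroup.subgroupOfEquivOfLe hle).toEquiv, card_up, S.card_Q, h.card]
  exact hcard

end

/-- in the `S₃`-case `⟨A, M0⟩ = G` -/
def TopS : Prop :=
  ∀ (G : Type u) [Group G] [Finite G] (Q A : Subgroup G) (z a : G) (w : ℕ) (S : Sit Q A z a w)
    (L : Subgroup S.pair.H), L.Normal → IsQuasisimple L → Odd (Nat.card (center L)) →
    ∀ d t, STriple S.ρ S.X L d t → ∀ Sg : Subgroup G,
    Lev Q A z a Sg (MM S.pair (closure {d, t} ⊔ L)) → A ⊔ MM S.pair (closure {d, t} ⊔ L) = ⊤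

theorem tri {H V : Type u} [Group H] [AddCommGroup V] [Module (ZMod 2) V] {ρ : H →* (V ≃ₗ[ZMod 2] V)}
    {X L : Subgroup H} {d t : H} (h : Main.STriple ρ X L d t) : Tri ρ X L d t where
  t_mem := h.t_mem
  t_ord := h.t_sq
  d_ord := h.d_ord
  conj := h.conj
  t_cent := h.t_cent
  d_cent := h.d_cent
  d_fix := h.d_fix
  d_norm := h.d_norm

theorem card_opt (r : ℕ) : Nat.card (Option (Unit ⊕ Fin r)) = r + 2 := by
  rw [Nat.card_congr (eO r), Nat.card_eq_fintype_card, Fintype.card_fin]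

theorem num_D (n : ℕ) : 2 ^ (2 * (2 * (n + 2)) + 1) * (2 * 2 ^ ((n + 2) * (n + 1))) = 2 ^ ((n + 2 + 2) * (n + 2 + 1)) := by
  rw [← pow_succ', ← pow_add]
  congr 1
  ring

theorem num_B (m : ℕ) : 2 ^ (2 * (2 * (m + 2)) + 1) * (2 * (2 ^ ((m + 1) * m) * 4 ^ (m + 1))) =
    2 ^ ((m + 2 + 1) * (m + 2)) * 4 ^ (m + 2 + 1) := by
  have h : (4 : ℕ) = 2 ^ 2 := by norm_num
  rw [h, ← pow_mul, ← pow_mul, ← pow_add, ← pow_succ', ← pow_add, ← pow_add]
  congr 1
  ring

/-- **RowS from TopS** -/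
theorem rowS_of_top (ht : TopS.{u}) (K : Cls.{u}) : Main.RowS K := by
  rintro G _ _ _ Q A z a w S L hN hq hZ ⟨d, t, h⟩
  have C := S.cfg
  have St := tri h
  have hNn := NormE.sup_normal C St hN hq hZ
  have hodd : ∀ g : S.pair.H, Odd (orderOf g) → g ∈ closure {d, t} ⊔ L := fun g hg => St.odd_mem C hN hq hZ hg
  have hX0 := NormE.X_le_sup C St hN hq hZ
  rcases SysOf.main_sys C St hN hq hZ with ⟨n, hn, hw, T, B, P, hx⟩ | ⟨m, hm, hw, T, B, P, hx⟩
  · have htop := ht G Q A z a w S L hN hq hZ d t h _ (XEnd.lev hNn hodd hX0 hx.sys hx.fixT)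
    refine known_of_xout S hNn hodd hX0 (M₂ := Nodes.TypeD.M n) hx (fun _ => le_rfl) rfl
      (hasQ_D (eO (n + 2)) (typeD_ext n hn) (x := 2) ?_) ?_
      (conn_D (eO (n + 2)) (by omega) (typeD_ext n hn)) ?_ htop
    · rintro (_ | _ | _) <;> rfl
    · rw [hw]; exact num_D n
    · rw [card_opt]; omega
  · have htop := ht G Q A z a w S L hN hq hZ d t h _ (XEnd.lev hNn hodd hX0 hx.sys hx.fixT)
    refine known_of_xout S hNn hodd hX0 (M₂ := CoxeterMatrix.B (m + 1)) hx ?_ ?_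
      (hasQ_B (eO (m + 1)) (typeB_ext m hm) (x := 2) (y := 4) ?_) ?_
      (conn_B (eO (m + 1)) (typeB_ext m hm)) ?_ htop
    · intro j
      show 2 ≤ if (j : ℕ) = m then 4 else 2
      split_ifs <;> omega
    · show (if ((0 : Fin (m + 1)) : ℕ) = m then 4 else 2) = 2
      rw [if_neg (by rw [Fin.val_zero]; omega)]
    · rintro (_ | _ | j)
      · rw [eO_none, if_neg (by omega)]; rfl
      · rw [eO_inl, if_neg (by omega)]; rfl
      · rw [eO_inr]
        show (if (j : ℕ) = m then 4 else 2) = _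
        refine if_congr ?_ rfl rfl
        omega
    · rw [hw]; exact num_B m
    · rw [card_opt]; omega

end Cfsg.Agent.Omega.EH3.RowS.Known

end

-- merged: Cfsg.Agent.Omega.EH3.Orb
section

/-!
# EH3: two configurations of the same group are conjugate (helper754)

`Cfg.exists_map` : `C : Cfg ρ b q a D X w`, `C' : Cfg ρ b q a' D' X' w'` ⇒ `ρ h a = a'` for some `h`.
-/

set_option autoImplicit false

namespace Cfsg.Agent.Omega.EH3.Cfg

open Subgroup

variable {H V : Type*} [Group H] [AddCommGroup V] [Module (ZMod 2) V]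
  {ρ : H →* (V ≃ₗ[ZMod 2] V)} {b : LinearMap.BilinForm (ZMod 2) V} {q : V → ZMod 2}
  {a a' : V} {D D' : Submodule (ZMod 2) V} {X X' : Subgroup H} {w w' : ℕ}

/-- a Sylow 2-subgroup fixes `a`, a conjugate of it contains `X'`, and `C_V(X') = {0, a'}` -/
theorem exists_map (C : Cfg ρ b q a D X w) (C' : Cfg ρ b q a' D' X' w') : ∃ h, ρ h a = a' := by
  have hfin := C.finite_H
  have : Fact (Nat.Prime 2) := ⟨Nat.prime_two⟩
  obtain ⟨T, -, hT⟩ := C.exists_syl
  obtain ⟨T', hT', -⟩ := C'.exists_syl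
  obtain ⟨h, hh⟩ := MulAction.exists_smul_eq H T T'
  refine ⟨h, ?_⟩
  have key : ∀ x ∈ X', ρ x (ρ h a) = ρ h a := by
    intro x hx
    have h1 : x ∈ (T' : Subgroup H) := hT' hx
    rw [← hh, Sylow.coe_subgroup_smul, Subgroup.mem_pointwise_smul_iff_inv_smul_mem] at h1
    have h2 : h⁻¹ * x * h ∈ (T : Subgroup H) := by
      have e : (MulAut.conj h)⁻¹ • x = h⁻¹ * x * h := by
        rw [← map_inv, MulAut.smul_def, MulAut.conj_apply, inv_inv]
      rw [← e]; exact h1
    have h3 : ρ (h⁻¹ * x * h) a = a := hT h2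
    have e : x * h = h * (h⁻¹ * x * h) := by group
    rw [← C.ρ_mul, e, C.ρ_mul, h3]
  rcases C'.fix_X key with h1 | h1
  · exact absurd ((LinearEquiv.map_eq_zero_iff _).1 h1) C.a_ne
  · exact h1

end Cfsg.Agent.Omega.EH3.Cfg

end

-- merged: Cfsg.Agent.Mrg.Omega.EH3.Top
section

/-!
# EH3: the end `⟨A, M₀⟩ = G` (helper754)

* `exists_sylow` : `C_G(z)` contains a Sylow 2-subgroup of `G`;
* `sit_of_pair` : the situation `Main.Sit` from a pair `(z, a)` (the first half of `Main.leafEH3`);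
* `exists_conj` : two members `a`, `b ≠ z` of `z^G ∩ Q` are conjugate in `C_G(z)`;
* `eq_top` : `Sit`, helper886's `Lev Q A z a Sg M₀` and no `Far` pair imply `A ⊔ M₀ = ⊤` (`hB` = Bender).
-/

set_option autoImplicit false

namespace Cfsg.Agent.Omega.EH3.Top

open Cfsg Subgroup Cfsg.Agent.Co2Type.Quad Cfsg.Agent.LargeExtra Cfsg.Agent.LargeExtra.Base
open Cfsg.Agent.LargeExtra.SiegelOrbit (O2)
open Cfsg.Agent.LargeExtra.SiegFam.Inst (AllSg Irr)
open Cfsg.Agent.Omega.Frame (Ctx)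
open Cfsg.Agent.Omega.EH3.Main (Sit)
open Cfsg.Agent.Omega.EH3.CCTop (Far)

universe u

section

variable {G : Type u} [Group G] [Finite G] {Q A : Subgroup G} {z a : G}

/-- `z` is central in a Sylow 2-subgroup -/
theorem exists_sylow (h : Large Q z) : ∃ T : Sylow 2 G, (T : Subgroup G) ≤ centralizer ({z} : Set G) := by
  have : Fact (Nat.Prime 2) := ⟨Nat.prime_two⟩
  obtain ⟨T, hT⟩ := (isPGroup h).exists_le_sylow
  refine ⟨T, ?_⟩
  have hnt : Nontrivial T := ⟨⟨⟨z, hT h.z_mem⟩, 1, fun h1 => h.z_ne (congrArg Subtype.val h1)⟩⟩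
  have := T.isPGroup'.center_nontrivial
  obtain ⟨⟨⟨u, huT⟩, hu⟩, hu1⟩ := exists_ne (1 : center T)
  have hc : ∀ x ∈ (T : Subgroup G), x * u = u * x := fun x hx =>
    congrArg Subtype.val (mem_center_iff.1 hu ⟨x, hx⟩)
  have huQ : u ∈ Q := h.self u (hc z (hT h.z_mem)).symm fun x hx => (hc x (hT hx)).symm
  rcases h.cent u huQ (fun y hy => (hc y (hT hy)).symm) with h1 | h1
  · exact absurd (Subtype.ext (Subtype.ext h1)) hu1
  · intro x hx
    rw [mem_centralizer_singleton_iff, ← h1]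
    exact hc x hx

/-- the situation of a pair -/
theorem sit_of_pair (hG : Ctx G) {w : ℕ} (hw : 5 ≤ w) (p : Pair Q z A a) (hO : O2 p.lz)
    (hcQ : Nat.card Q = 2 ^ (2 * w + 1)) (hirr : IrrC p.lz) : Sit Q A z a w := by
  have hcV : Nat.card p.lz.V = 2 ^ (2 * w) := by
    have h1 := p.lz.card_eq
    rw [hcQ, pow_succ, mul_comm (2 ^ (2 * w))] at h1
    exact (Nat.eq_of_mul_eq_mul_left (by norm_num) h1).symm
  have hbig : 2 ^ 11 ≤ Nat.card Q := by
    rw [hcQ]
    exact Nat.pow_le_pow_right (by norm_num) (by omega)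
  -- `Irr p`
  have hI : Irr p := by
    intro R hR hinv
    rcases hirr R (fun c v hv => hinv _ ⟨c, rfl⟩ v hv) with h1 | h1
    · exact h1
    · exfalso
      apply p.va_ne
      apply p.lz.b_nondeg
      intro v
      have h2 := p.lz.q_add' p.va v
      rw [hR _ (h1 ▸ trivial), hR _ (h1 ▸ trivial), hR _ (h1 ▸ trivial), zero_add, zero_add] at h2
      exact h2.symm
  have hidx : ∀ N : Subgroup G, N.index ≠ 2 := by
    have := hG.simple
    exact fun N => WCIrr.index_ne_two (Start.exists_ne' hG) N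
  -- `|D̃| ≥ 4`
  have hfinD : Finite p.D := Finite.of_injective _ Subtype.val_injective
  have hD4 : 4 ≤ Nat.card p.D := by
    have h1 : Nat.card p.D ≠ 2 := fun h => TwoA.false_of_pair p hO hbig h
    obtain ⟨k, hk⟩ : ∃ k : ℕ, Nat.card p.D = 2 ^ k := by
      have hfd : Module.Finite (ZMod 2) p.D := Module.Finite.of_finite
      exact ⟨Module.finrank (ZMod 2) p.D, by
        rw [Module.natCard_eq_pow_finrank (K := ZMod 2) (V := p.D), Nat.card_zmod]⟩
    have h2 : 1 < Nat.card p.D := by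
      rw [Finite.one_lt_card_iff_nontrivial]
      exact ⟨⟨p.va, p.va_mem_D⟩, 0, fun h => p.va_ne (congrArg Subtype.val h)⟩
    rcases Nat.lt_or_ge k 2 with h3 | h3
    · interval_cases k
      · rw [hk] at h2; omega
      · exact absurd hk h1
    · rw [hk]
      calc 4 = 2 ^ 2 := by norm_num
        _ ≤ 2 ^ k := Nat.pow_le_pow_right (by norm_num) h3
  have hfr : 8 ≤ Module.finrank (ZMod 2) p.lz.V := by
    have hfd : Module.Finite (ZMod 2) p.lz.V := Module.Finite.of_finite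
    have h1 := Module.natCard_eq_pow_finrank (K := ZMod 2) (V := p.lz.V)
    rw [hcV, Nat.card_zmod] at h1
    have h2 := Nat.pow_right_injective (le_refl 2) h1
    have h3 : 2 * w = Module.finrank (ZMod 2) p.lz.V := h2
    omega
  have hA : ¬ AllSg p := fun hS => WideIrr.SgKill.false_of_allSg hidx p hfr hI hS hD4
  have hRR := TCL.pair_RR p hirr hA
  exact ⟨hG, hw, p, hO, hcQ, hirr, TCL.card_D p hirr hRR hcQ, TCL.noSg p hirr hRR⟩

end

variable {G : Type u} [Group G] [Finite G] {Q A : Subgroup G} {z a : G} {w : ℕ}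

/-- every pair `(z, b)` is in the same situation -/
theorem sit_conj (S : Sit Q A z a w) {g : G} (hin : g * z * g⁻¹ ∈ Q) (hne : g * z * g⁻¹ ≠ z) :
    Sit Q (Q.map (MulAut.conj g).toMonoidHom) z (g * z * g⁻¹) w :=
  sit_of_pair S.ctx S.five (pair_of_conj S.pair.lz hin hne) S.o2 S.card_Q S.irr

/-- **two members of `z^G ∩ Q - {z}` are conjugate in `C_G(z)`** -/
theorem exists_conj (S : Sit Q A z a w) {A' : Subgroup G} {b : G} (S' : Sit Q A' z b w) :
    ∃ c, c * z = z * c ∧ c * a * c⁻¹ = b := by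
  obtain ⟨⟨f, c, hc⟩, hf⟩ := Cfg.exists_map S.cfg S'.cfg
  have h1 : S.pair.lz.act c S.pair.va = S'.pair.va := by rw [hc]; exact hf
  have hcz : (c : G) * z = z * c := mem_centralizer_singleton_iff.1 c.2
  rw [Pair.va, Large.act_pr] at h1
  have h2 : (c : G) * a * (c : G)⁻¹ = b ∨ (c : G) * a * (c : G)⁻¹ = b * z := S.pair.lz.pr_eq_pr.1 h1
  rcases h2 with h2 | h2
  · exact ⟨c, hcz, h2⟩
  · obtain ⟨y, hy, h3⟩ := exists_not_comm S.pair.lz S.pair.a_mem S.pair.la.z_ne S.pair.ne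
    have hyz := S.pair.lz.comm_z y hy
    have h4 : y * a * y⁻¹ = a * z := by rw [h3, mul_assoc a y z, hyz]; group
    refine ⟨c * y, by rw [mul_assoc, hyz, ← mul_assoc, hcz, mul_assoc], ?_⟩
    calc (c : G) * y * a * ((c : G) * y)⁻¹ = c * (y * a * y⁻¹) * (c : G)⁻¹ := by group
      _ = (c * a * (c : G)⁻¹) * (c * z * (c : G)⁻¹) := by rw [h4]; group
      _ = b * z * (z * c * (c : G)⁻¹) := by rw [h2, hcz]
      _ = b * (z * z) := by group
      _ = b := by rw [S.pair.lz.z_sq, mul_one]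

/-- **THE END**: `⟨A, M₀⟩ = G` if there is no `Far` pair -/
theorem eq_top (S : Sit Q A z a w) {Sg M0 : Subgroup G} (e : ThmID.Lev Q A z a Sg M0)
    (hfar : ∀ g : G, ¬ Far Q z g)
    (hB : ∀ H : Subgroup G, IsStronglyEmbedded H →
      ∃ R : Subgroup G, Cfsg.Agent.StrongEmb.Split.IsSplit H R) : A ⊔ M0 = ⊤ := by
  have hs := S.ctx.simple
  have p := S.pair
  have h := p.lz
  obtain ⟨T, hT⟩ := exists_sylow h
  -- `Y` = the normaliser
  obtain ⟨Y, hY⟩ : ∃ Y, Y = normalizer ((A ⊔ M0 : Subgroup G) : Set G) := ⟨_, rfl⟩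
  have memY : ∀ g : G, (∀ x ∈ A ⊔ M0, g * x * g⁻¹ ∈ A ⊔ M0) → g ∈ Y := by
    intro g hg
    rw [hY]
    exact ThmID.mem_normalizer_of hg
  have hC : centralizer ({z} : Set G) ≤ Y := fun g hg =>
    memY g fun x hx => e.conj_G0 (mem_centralizer_singleton_iff.1 hg) hx
  have hadj : ∀ g : G, g * z * g⁻¹ ∈ Q → ∃ y ∈ Y, g * z * g⁻¹ = y * z * y⁻¹ := by
    intro g hin
    by_cases hne : g * z * g⁻¹ = z
    · exact ⟨1, one_mem _, by rw [hne]; group⟩
    obtain ⟨c, hcz, hc⟩ := exists_conj S (sit_conj S hin hne)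
    refine ⟨g, ?_, rfl⟩
    have h1 : c ∈ Y := hC (mem_centralizer_singleton_iff.2 hcz)
    have h2 : c⁻¹ * g ∈ Y := by
      refine memY _ fun x hx => e.conj_G0_V (Or.inr (Or.inl ?_)) hx
      calc (c⁻¹ * g) * z * (c⁻¹ * g)⁻¹ = c⁻¹ * (g * z * g⁻¹) * c := by group
        _ = a := by rw [← hc]; group
    have h3 := mul_mem h1 h2
    rwa [mul_inv_cancel_left] at h3
  obtain ⟨g, hg, -⟩ := p.isConj
  have h1 := CCTop.eq_top h hadj S.ctx.char2 T hT hC hfar (g := g) (by rw [hg]; exact p.a_mem)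
    (by rw [hg]; exact p.ne) hB
  have hn : (A ⊔ M0 : Subgroup G).Normal := by
    rw [← normalizer_eq_top_iff, ← hY, h1]
  rcases hn.eq_bot_or_eq_top with h2 | h2
  · exfalso
    apply h.z_ne
    have h3 : z ∈ A ⊔ M0 := (le_sup_left : A ≤ A ⊔ M0) p.z_mem
    rw [h2] at h3
    exact mem_bot.1 h3
  · exact h2

end Cfsg.Agent.Omega.EH3.Top

end

-- merged: Cfsg.Agent.Mrg.Omega.All.DNOne
section

/-!
# Row `D_n` of LEMMA CC: type I (#13336 (A), (C))

`s` acts on `V_r = N ⊗ U` as `1 ⊗ h`, `r` acts on `V_s` as `1 ⊗ h'`: contradiction.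
-/

set_option autoImplicit false

namespace Cfsg.Agent.Omega.All.DN

open Cfsg.Agent.Co2Type.Quad Cfsg.Agent.LargeExtra Cfsg.Agent.LargeExtra.CC Subgroup
open Cfsg.Agent.LargeExtra.KillSiegel

universe u v w

variable {G : Type u} [Group G] {Qr Qs : Subgroup G} {r s : G} {P : G → Prop}

/-- `s` as an element of `C(r)` -/
def cs (T : Two Qr Qs r s P) : centralizer ({r} : Set G) := ⟨s, mem_centralizer_singleton_iff.2 T.comm⟩

theorem h_eq (T : Two Qr Qs r s P) : T.h = T.lr.act (cs T) := rfl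

/-! ### general facts -/

/-- `X̃^⊥ ≤ X̃` if `q = 0` on `W` -/
theorem perp_Xt [Finite G] (T : Two Qr Qs r s P) (hq : ∀ w ∈ T.W, T.lr.q w = 0) {f : T.lr.V}
    (hf : ∀ v ∈ T.Xt, T.lr.b f v = 0) : f ∈ T.Xt := by
  have hWX : T.W ≤ T.Xt := fun w hw => T.mem_Xt_of_q hw (hq w hw)
  have heF : f ∈ T.F := T.mem_F_of fun w hw => by rw [T.lr.b_comm]; exact hf w (hWX hw)
  by_contra hcon
  apply hcon
  apply hWX
  apply T.mem_W_of
  intro v hv
  by_cases hvX : v ∈ T.Xt
  · rw [T.lr.b_comm]; exact hf v hvX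
  · have h1 := T.add_mem_Xt hv heF hvX hcon
    have h2 := hf _ h1
    rw [map_add, T.lr.b_self, add_zero, T.lr.b_comm] at h2
    exact h2

/-- **(A)** -/
theorem caseA [Finite G] (T : Two Qr Qs r s P) (hq : ∀ w ∈ T.W, T.lr.q w = 0) (hF : ¬ T.F ≤ T.Xt) {y y' : G}
    (hy : y ∈ Qs) (hy' : y' ∈ Qs) (hyr : y * r = r * y) (hyr' : y' * r = r * y') (hne : y * y' ≠ y' * y) :
    False := by
  have h0 : ∀ δ ∈ T.Dt, δ ∈ T.W → δ = 0 := by
    intro δ h1 h2
    by_contra h3
    exact hF (T.F_le_Xt h1 h2 h3)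
  have hpF : ∀ u, (∀ d ∈ T.Dt, T.lr.b u d = 0) → u ∈ T.F := fun u hu =>
    T.add_eq_zero.1 (h0 _ (T.perp_mem_Dt hq hy hy' hyr hyr' hne hu) ⟨u, rfl⟩)
  have hWD : T.W ≤ T.Dt := by
    intro w hw
    apply Perp.mem_of_perp T.lr
    intro v hv
    have := T.b_W_F hw (hpF v fun d hd => by rw [T.lr.b_comm]; exact hv d hd)
    rwa [T.lr.b_comm] at this
  obtain ⟨u, hu⟩ := T.W_ne
  exact hu (T.add_eq_zero.1 (h0 _ (hWD ⟨u, rfl⟩) ⟨u, rfl⟩))

/-- noncommuting elements of `X_s` from the form -/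
theorem exists_noncomm (T : Two Qr Qs r s P) {v w : T.symm.lr.V} (hv : v ∈ T.symm.Xt) (hw : w ∈ T.symm.Xt)
    (hb : T.symm.lr.b v w = 1) :
    ∃ y ∈ Qs, ∃ y' ∈ Qs, y * r = r * y ∧ y' * r = r * y' ∧ y * y' ≠ y' * y := by
  obtain ⟨y, rfl⟩ := T.symm.lr.pr_surjective v
  obtain ⟨y', rfl⟩ := T.symm.lr.pr_surjective w
  rw [T.symm.pr_mem_Xt] at hv hw
  refine ⟨y, y.2, y', y'.2, hv, hw, fun h => ?_⟩
  rw [(T.symm.lr.b_pr y y').2 h] at hb
  exact zero_ne_one hb

/-! ### type I -/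

section typeI

variable (T : Two Qr Qs r s P) {U : Type v} [AddCommGroup U] {e : Fin 3 → U → T.lr.V} (t : Ten T.lr e)
  (hs : t.sg (cs T) = 1)
include hs

theorem h_e (i : Fin 3) (u : U) : T.h (e i u) = e i (t.gg (cs T) u) := by
  rw [h_eq, t.act_e, hs]
  rfl

theorem hh_e (u : U) : t.gg (cs T) (t.gg (cs T) u) = u := by
  have h1 := T.hh (e 0 u)
  rw [h_e T t hs, h_e T t hs] at h1
  exact t.inj1 h1

theorem mem_F_e {i : Fin 3} {u : U} : e i u ∈ T.F ↔ t.gg (cs T) u = u := by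
  rw [T.mem_F, h_e T t hs]
  exact ⟨fun h => t.inj1 h, fun h => by rw [h]⟩

theorem q_W_zero : ∀ w ∈ T.W, T.lr.q w = 0 := by
  rintro _ ⟨u, rfl⟩
  obtain ⟨a, b, rfl⟩ := t.surj01 u
  have e1 : T.h (e 0 a + e 1 b) + (e 0 a + e 1 b) =
      e 0 (t.gg (cs T) a + a) + e 1 (t.gg (cs T) b + b) := by
    rw [map_add, h_e T t hs, h_e T t hs, t.add, t.add]; abel
  rw [e1, T.lr.q_add', t.q_e, t.q_e, zero_add, zero_add, t.b_ne (by decide), t.B_add_left, t.B_add_right,
    t.B_add_right, t.B_gg]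
  have h1 : t.B (t.gg (cs T) a) b = t.B a (t.gg (cs T) b) := by
    rw [← t.B_gg (cs T), hh_e T t hs]
  rw [h1]
  have : ∀ x y : ZMod 2, x + y + (y + x) = 0 := by decide
  exact this _ _

/-- the commutator space in coordinates: an element `e i u ∈ F - W` has a mate -/
theorem exists_mate_e [Finite G] {i : Fin 3} {u : U} (hu : t.gg (cs T) u = u) (hW : e i u ∉ T.W) :
    ∃ c, t.gg (cs T) c = c ∧ t.B u c = 1 := by
  by_contra hcon
  push Not at hcon
  apply hW
  apply T.mem_W_of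
  intro v hv
  obtain ⟨j, hj⟩ : ∃ j : Fin 3, i ≠ j := (by decide : ∀ i : Fin 3, ∃ j : Fin 3, i ≠ j) i
  obtain ⟨a, b, rfl⟩ := t.surj hj v
  rw [T.mem_F, map_add, h_e T t hs, h_e T t hs] at hv
  obtain ⟨-, hb⟩ := t.uniq hj hv
  rw [map_add, LinearMap.add_apply, t.b_same, zero_add, T.lr.b_comm, t.b_ne hj]
  have : ∀ x : ZMod 2, x ≠ 1 → x = 0 := by decide
  exact this _ (hcon b hb)

/-- `F ≠ Xt`: there are noncommuting elements in `X_r` -/
theorem exists_pair [Finite G] (hF : ¬ T.F ≤ T.Xt) : ∃ v ∈ T.Xt, ∃ w ∈ T.Xt, T.lr.b v w = 1 := by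
  have hq := q_W_zero T t hs
  have hWX : T.W ≤ T.Xt := fun w hw => T.mem_Xt_of_q hw (hq w hw)
  -- `a ∈ C_U(h) - [U, h]`, `c` a mate
  obtain ⟨a, c, ha, hc, hac⟩ : ∃ a c, t.gg (cs T) a = a ∧ t.gg (cs T) c = c ∧ t.B a c = 1 := by
    obtain ⟨v, hv, hvX⟩ := SetLike.not_le_iff_exists.1 hF
    obtain ⟨a, b, rfl⟩ := t.surj01 v
    have hv' := hv
    rw [T.mem_F, map_add, h_e T t hs, h_e T t hs] at hv'
    obtain ⟨ha, hb⟩ := t.uniq (by decide) hv'
    by_cases h1 : e 0 a ∈ T.W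
    · by_cases h2 : e 1 b ∈ T.W
      · exact absurd (hWX (T.W.add_mem h1 h2)) hvX
      · obtain ⟨c, hc, hbc⟩ := exists_mate_e T t hs hb h2
        exact ⟨b, c, hb, hc, hbc⟩
    · obtain ⟨c, hc, hac⟩ := exists_mate_e T t hs ha h1
      exact ⟨a, c, ha, hc, hac⟩
  have hFe : ∀ i u, t.gg (cs T) u = u → e i u ∈ T.F := fun i u hu => (mem_F_e T t hs).2 hu
  -- some `e i u ∈ Xt`
  have hex : ∀ u, t.gg (cs T) u = u → ∃ i, e i u ∈ T.Xt := by
    intro u hu
    by_cases h0 : e 0 u ∈ T.Xt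
    · exact ⟨0, h0⟩
    by_cases h1 : e 1 u ∈ T.Xt
    · exact ⟨1, h1⟩
    refine ⟨2, ?_⟩
    rw [← t.third (i := 0) (j := 1) (by decide) (by decide) (by decide)]
    exact T.add_mem_Xt (hFe 0 u hu) (hFe 1 u hu) h0 h1
  obtain ⟨i, hi⟩ := hex a ha
  obtain ⟨j, hj⟩ := hex c hc
  by_cases hij : i = j
  · subst hij
    obtain ⟨k, hk⟩ : ∃ k : Fin 3, i ≠ k := (by decide : ∀ i : Fin 3, ∃ k : Fin 3, i ≠ k) i
    by_cases h1 : e k a ∈ T.Xt
    · exact ⟨_, h1, _, hj, by rw [t.b_ne hk.symm, hac]⟩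
    by_cases h2 : e k c ∈ T.Xt
    · exact ⟨_, hi, _, h2, by rw [t.b_ne hk, hac]⟩
    have h3 := T.add_mem_Xt (hFe k a ha) (hFe k c hc) h1 h2
    rw [← t.add] at h3
    exact ⟨_, hi, _, h3, by rw [t.b_ne hk, t.B_add_right, t.B_self, zero_add, hac]⟩
  · exact ⟨_, hi, _, hj, by rw [t.b_ne hij, hac]⟩

end typeI

/-- **(C2)** -/
theorem caseC2 [Finite G] (T : Two Qr Qs r s P) {U : Type v} [AddCommGroup U] {e : Fin 3 → U → T.lr.V}
    (t : Ten T.lr e) {U' : Type w} [AddCommGroup U'] {e' : Fin 3 → U' → T.symm.lr.V} (t' : Ten T.symm.lr e')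
    (hs : t.sg (cs T) = 1) (hr : t'.sg (cs T.symm) = 1) (h1 : ¬ T.F ≤ T.Xt) (h2 : ¬ T.symm.F ≤ T.symm.Xt) :
    False := by
  obtain ⟨v, hv, w, hw, hb⟩ := exists_pair T.symm t' hr h2
  obtain ⟨y, hy, y', hy', k1, k2, k3⟩ := exists_noncomm T hv hw hb
  exact caseA T (q_W_zero T t hs) h1 hy hy' k1 k2 k3

end Cfsg.Agent.Omega.All.DN

end

-- merged: Cfsg.Agent.Mrg.Omega.All.DNOneB
section

section


/-!
# Row `D_n` of LEMMA CC: type I, (C1) of #13336
-/

set_option autoImplicit false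

namespace Cfsg.Agent.Omega.All.DN

open Cfsg.Agent.Co2Type.Quad Cfsg.Agent.LargeExtra Cfsg.Agent.LargeExtra.CC Subgroup
open Cfsg.Agent.LargeExtra.KillSiegel

universe u v w

variable {G : Type u} [Group G] {Qr Qs : Subgroup G} {r s : G} {P : G → Prop}

/-! ### small facts -/

theorem card_le_of_hom {A B : Type*} [AddGroup A] [AddGroup B] [Finite A] [Finite B] (f : A →+ B) :
    Nat.card A ≤ Nat.card B * Nat.card f.ker := by
  rw [AddSubgroup.card_eq_card_quotient_mul_card_addSubgroup f.ker]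
  exact Nat.mul_le_mul_right _ (Nat.card_le_card_of_injective _ (QuotientAddGroup.kerLift_injective f))

theorem card_range_mul {A : Type*} [AddGroup A] (f : A →+ A) :
    Nat.card A = Nat.card f.range * Nat.card f.ker := by
  rw [AddSubgroup.card_eq_card_quotient_mul_card_addSubgroup f.ker]
  congr 1
  exact Nat.card_congr (QuotientAddGroup.quotientKerEquivRange f).toEquiv

theorem three_le {A : Type*} [AddCommGroup A] [Finite A] {K : AddSubgroup A} {a b : A} (ha : a ∈ K) (hb : b ∈ K)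
    (h1 : a ≠ 0) (h2 : b ≠ 0) (h3 : a ≠ b) : 2 < Nat.card K := by
  classical
  have h4 : ({0, a, b} : Set A).ncard = 3 := by
    rw [Set.ncard_eq_toFinset_card']
    simp [h1.symm, h2.symm, h3]
  have h5 : ({0, a, b} : Set A).ncard ≤ (K : Set A).ncard := by
    apply Set.ncard_le_ncard _ (Set.toFinite _)
    rintro x (rfl | rfl | rfl)
    · exact K.zero_mem
    · exact ha
    · exact hb
  have h6 : (K : Set A).ncard = Nat.card K := rfl
  omega

theorem eq_of_card {A : Type*} [AddCommGroup A] [Finite A] {K L : AddSubgroup A} (h : K ≤ L)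
    (hL : Nat.card L ≤ 4) (hK : 2 < Nat.card K) : K = L := by
  obtain ⟨c, hc⟩ := AddSubgroup.card_dvd_of_le h
  have hpos : 0 < Nat.card L := Nat.card_pos
  have hc1 : c = 1 := by
    rcases c with - | c
    · omega
    · rcases c with - | c
      · rfl
      · exfalso
        have : Nat.card K * (c + 1 + 1) = Nat.card K * c + 2 * Nat.card K := by ring
        omega
  rw [hc1, mul_one] at hc
  exact AddSubgroup.eq_of_le_of_card_ge h hc.le

/-! ### the element of order 3 -/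

theorem cyc3 : ∀ ω : Equiv.Perm (Fin 3), ω ≠ 1 → ω * ω * ω = 1 → ∀ i, i ≠ ω i ∧ i ≠ ω (ω i) ∧ ω i ≠ ω (ω i) := by
  decide

theorem four_two : ∀ c : Equiv.Perm (Fin 3), c * c * (c * c) = 1 → Equiv.Perm.sign c = 1 → c = 1 := by decide

theorem comm4 (a b : Equiv.Perm (Fin 3)) (h : (a * b * a⁻¹ * b⁻¹) * (a * b * a⁻¹ * b⁻¹) *
    ((a * b * a⁻¹ * b⁻¹) * (a * b * a⁻¹ * b⁻¹)) = 1) : a * b * a⁻¹ * b⁻¹ = 1 := by
  refine four_two _ h ?_
  rw [map_mul, map_mul, map_mul, map_inv, map_inv, mul_right_comm _ _ (Equiv.Perm.sign a)⁻¹, mul_inv_cancel, one_mul,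
    mul_inv_cancel]

theorem sg_inv {Q : Subgroup G} {z : G} {h : Large Q z} {U : Type v} [AddCommGroup U] {e : Fin 3 → U → h.V}
    (t : Ten h e) (c : centralizer ({z} : Set G)) : t.sg c⁻¹ = (t.sg c)⁻¹ := by
  rw [eq_inv_iff_mul_eq_one, ← t.sg_mul, inv_mul_cancel, t.sg_one]

/-- `F ≤ Xt`: an element of order 3 acting as `ω ⊗ 1` on `V_r` commutes with `s`. -/
theorem exists_theta [Finite G] (T : Two Qr Qs r s P) {U : Type v} [AddCommGroup U] {e : Fin 3 → U → T.lr.V}
    (t : Ten T.lr e) (hs : t.sg (cs T) = 1) (hF : T.F ≤ T.Xt) :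
    ∃ θ : G, θ * θ * θ = 1 ∧ θ * s = s * θ ∧ ∃ h : θ * r = r * θ,
      t.sg ⟨θ, mem_centralizer_singleton_iff.2 h⟩ ≠ 1 ∧ ∀ u, t.gg ⟨θ, mem_centralizer_singleton_iff.2 h⟩ u = u := by
  obtain ⟨θ, h3, hω, hω3, hg⟩ := t.exists_th
  set ω := t.sg θ with hωdef
  have hcyc := cyc3 ω hω hω3
  set Θ := T.lr.act θ with hΘ
  have hΘe : ∀ i u, Θ (e i u) = e (ω i) u := fun i u => by rw [hΘ, t.act_e, hg]
  -- `v + Θ v + Θ² v = 0`
  have hsum : ∀ v, Θ (Θ v) + v = Θ v := by
    have h1 : ∀ i u, Θ (Θ (e i u)) + e i u = Θ (e i u) := by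
      intro i u
      obtain ⟨k1, k2, k3⟩ := hcyc i
      rw [hΘe, hΘe]
      exact t.third k2.symm k3.symm k1 u
    intro v
    obtain ⟨a, b, rfl⟩ := t.surj01 v
    rw [map_add, map_add, add_add_add_comm, h1, h1]
  have hcomm : ∀ v, T.h (Θ v) = Θ (T.h v) := by
    have h1 : ∀ i u, T.h (Θ (e i u)) = Θ (T.h (e i u)) := by
      intro i u
      rw [hΘe, h_e T t hs, h_e T t hs, hΘe]
    intro v
    obtain ⟨a, b, rfl⟩ := t.surj01 v
    rw [map_add, map_add, map_add, map_add, h1, h1]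
  have hθr : (θ : G) * r = r * θ := mem_centralizer_singleton_iff.1 θ.2
  -- `c = θ s θ⁻¹ s⁻¹`
  have hcQ : (θ * cs T * θ⁻¹ * (cs T)⁻¹ : centralizer ({r} : Set G)).1 ∈ Qr := by
    apply T.lr.mem_of_act
    have h1 : T.lr.act θ * T.lr.act (cs T) = T.lr.act (cs T) * T.lr.act θ := by
      ext v
      exact (hcomm v).symm
    rw [map_mul, map_mul, map_mul, map_inv, map_inv, h1]
    group
  have hcQ' : (θ : G) * s * (θ : G)⁻¹ * s⁻¹ ∈ Qr := hcQ
  let c : Qr := ⟨(θ : G) * s * (θ : G)⁻¹ * s⁻¹, hcQ'⟩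
  -- `c̃ ∈ W`
  have hΘinv : ∀ v, v ∈ T.F → T.lr.act θ⁻¹ v ∈ T.F := by
    intro v hv
    have h1 : Θ (T.lr.act θ⁻¹ v) = v := by
      rw [hΘ]
      have : T.lr.act (θ * θ⁻¹) v = v := by rw [mul_inv_cancel, map_one]; rfl
      rwa [map_mul] at this
    rw [T.mem_F]
    apply Θ.injective
    rw [← hcomm, h1, T.mem_F.1 hv]
  have hcW : T.lr.pr c ∈ T.W := by
    apply T.mem_W_of
    intro v hv
    have h1 := hΘinv v hv
    obtain ⟨g, rfl⟩ := T.lr.pr_surjective v
    have k1 := (T.pr_mem_Xt g).1 (hF hv)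
    have k2 := hF h1
    rw [T.lr.act_pr, T.pr_mem_Xt] at k2
    have k3 : ((θ⁻¹ : centralizer ({r} : Set G)) : G) * g * ((θ⁻¹ : centralizer ({r} : Set G)) : G)⁻¹ * s =
        s * (((θ⁻¹ : centralizer ({r} : Set G)) : G) * g * ((θ⁻¹ : centralizer ({r} : Set G)) : G)⁻¹) := k2
    have k4 : (θ : G)⁻¹ * g * θ * s = s * ((θ : G)⁻¹ * g * θ) := by
      have e1 : ((θ⁻¹ : centralizer ({r} : Set G)) : G) = (θ : G)⁻¹ := rfl
      rw [e1, inv_inv] at k3
      exact k3
    rw [T.lr.b_pr]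
    show (g : G) * ((θ : G) * s * (θ : G)⁻¹ * s⁻¹) = (θ : G) * s * (θ : G)⁻¹ * s⁻¹ * g
    have k5 : (g : G) * ((θ : G) * s * (θ : G)⁻¹) = (θ : G) * s * (θ : G)⁻¹ * g := by
      calc (g : G) * ((θ : G) * s * (θ : G)⁻¹) = θ * ((θ : G)⁻¹ * g * θ * s) * (θ : G)⁻¹ := by group
        _ = θ * (s * ((θ : G)⁻¹ * g * θ)) * (θ : G)⁻¹ := by rw [k4]
        _ = (θ : G) * s * (θ : G)⁻¹ * g := by group
    have k6 : (g : G) * s⁻¹ = s⁻¹ * g := by
      rw [eq_inv_mul_iff_mul_eq, ← mul_assoc, ← k1, mul_inv_cancel_right]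
    calc (g : G) * ((θ : G) * s * (θ : G)⁻¹ * s⁻¹) = (g * ((θ : G) * s * (θ : G)⁻¹)) * s⁻¹ := by group
      _ = (θ : G) * s * (θ : G)⁻¹ * (g * s⁻¹) := by rw [k5]; group
      _ = (θ : G) * s * (θ : G)⁻¹ * s⁻¹ * g := by rw [k6]; group
  -- `x = θ c θ⁻¹`
  let x : Qr := T.lr.conjQ θ c
  have hx : T.lr.pr x = Θ (T.lr.pr c) := (T.lr.act_pr θ c).symm
  have hxW : T.lr.pr x ∈ T.W := by
    obtain ⟨u, hu⟩ := hcW
    exact ⟨Θ u, by rw [hx, ← hu, map_add, hcomm]⟩
  obtain ⟨y, hy⟩ := hxW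
  obtain ⟨y, rfl⟩ := T.lr.pr_surjective y
  -- `θ` commutes with `x s`
  have hrs : r * s = s * r := T.comm.symm
  have hfix : (θ : G) * (x * s) = x * s * θ := by
    have h1 : T.lr.pr (T.lr.conjQ θ x * c) = T.lr.pr x := by
      rw [T.lr.pr_mul, ← T.lr.act_pr, hx]
      exact hsum _
    rw [T.lr.pr_eq_pr] at h1
    have e1 : (θ : G) * (x * s) * (θ : G)⁻¹ = ((T.lr.conjQ θ x * c : Qr) : G) * s := by
      show (θ : G) * (x * s) * (θ : G)⁻¹ = (θ : G) * x * (θ : G)⁻¹ * ((θ : G) * s * (θ : G)⁻¹ * s⁻¹) * s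
      group
    rcases h1 with h1 | h1
    · rw [h1] at e1
      exact mul_inv_eq_iff_eq_mul.1 e1
    · exfalso
      rw [h1] at e1
      have e1' : (θ : G) * (x * s) * (θ : G)⁻¹ = x * s * r := by
        rw [e1, mul_assoc (x : G), hrs, ← mul_assoc]
      set a := (x : G) * s with ha
      have e2 : (θ : G) * a = a * r * θ := mul_inv_eq_iff_eq_mul.1 e1'
      have e3 : (θ : G) * θ * θ = 1 := congrArg Subtype.val h3
      have e4 : (θ : G) * θ * θ * a = a * (r * r) * r * ((θ : G) * θ * θ) := by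
        calc (θ : G) * θ * θ * a = θ * (θ * (θ * a)) := by group
          _ = θ * (θ * (a * r * θ)) := by rw [e2]
          _ = θ * ((θ * a) * r * θ) := by group
          _ = θ * (a * r * (θ * r) * θ) := by rw [e2]; group
          _ = θ * (a * r * (r * θ) * θ) := by rw [hθr]
          _ = (θ * a) * (r * r) * θ * θ := by group
          _ = a * r * θ * (r * r) * θ * θ := by rw [e2]
          _ = a * r * (θ * (r * r)) * θ * θ := by group
          _ = a * (r * r) * r * ((θ : G) * θ * θ) := by rw [T.lr.z_sq]; group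
      rw [e3, T.lr.z_sq, one_mul, mul_one, mul_one] at e4
      exact T.lr.z_ne (left_eq_mul.1 e4)
  have hyc : (θ : G) * (y * s * (y : G)⁻¹) = y * s * (y : G)⁻¹ * θ := by
    rcases T.comm_cases y x hy with h1 | h1
    · rw [h1]; exact hfix
    · rw [h1, mul_assoc (x : G), hrs, ← mul_assoc (x : G)]
      calc (θ : G) * (x * s * r) = (θ * (x * s)) * r := by group
        _ = x * s * (θ * r) := by rw [hfix]; group
        _ = x * s * r * θ := by rw [hθr]; group
  have hyr : (y : G) * r = r * y := T.lr.comm_z y y.2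
  have hyr' : (y : G)⁻¹ * r = r * (y : G)⁻¹ := by
    rw [inv_mul_eq_iff_eq_mul, ← mul_assoc, hyr, mul_inv_cancel_right]
  have hθ'r : ((y : G)⁻¹ * θ * y) * r = r * ((y : G)⁻¹ * θ * y) := by
    calc ((y : G)⁻¹ * θ * y) * r = (y : G)⁻¹ * (θ * (y * r)) := by group
      _ = (y : G)⁻¹ * (θ * r) * y := by rw [hyr]; group
      _ = ((y : G)⁻¹ * r) * θ * y := by rw [hθr]; group
      _ = r * ((y : G)⁻¹ * θ * y) := by rw [hyr']; group
  have hact : T.lr.act ⟨(y : G)⁻¹ * θ * y, mem_centralizer_singleton_iff.2 hθ'r⟩ = Θ := by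
    have e1 : (⟨(y : G)⁻¹ * θ * y, mem_centralizer_singleton_iff.2 hθ'r⟩ : centralizer ({r} : Set G)) =
        (⟨y, mem_centralizer_singleton_iff.2 hyr⟩ : centralizer ({r} : Set G))⁻¹ * θ *
          ⟨y, mem_centralizer_singleton_iff.2 hyr⟩ := rfl
    rw [e1, map_mul, map_mul, map_inv, T.lr.act_mem ⟨y, _⟩ y.2, inv_one, one_mul, mul_one]
  obtain ⟨k1, k2⟩ := t.act_uniq (f := Θ) (fun i u => by rw [← hact, t.act_e]) (fun i u => t.act_e θ i u)
  refine ⟨(y : G)⁻¹ * θ * y, ?_, ?_, hθ'r, ?_, ?_⟩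
  · have e3 : (θ : G) * θ * θ = 1 := congrArg Subtype.val h3
    calc (y : G)⁻¹ * θ * y * ((y : G)⁻¹ * θ * y) * ((y : G)⁻¹ * θ * y) = (y : G)⁻¹ * (θ * θ * θ) * y := by group
      _ = 1 := by rw [e3]; group
  · calc (y : G)⁻¹ * θ * y * s = (y : G)⁻¹ * (θ * (y * s * (y : G)⁻¹)) * y := by group
      _ = s * ((y : G)⁻¹ * θ * y) := by rw [hyc]; group
  · rw [k1]; exact hω
  · intro u
    rw [k2]; exact hg u

/-! ### the contradiction -/

section theta

variable [Finite G] (T : Two Qr Qs r s P) {U : Type v} [AddCommGroup U] {e : Fin 3 → U → T.lr.V}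
  (t : Ten T.lr e) {θ : G} (h3 : θ * θ * θ = 1) (hθs : θ * s = s * θ) (hθr : θ * r = r * θ)
  (hg : ∀ u, t.gg ⟨θ, mem_centralizer_singleton_iff.2 hθr⟩ u = u)

/-- `θ` on `V_s` -/
noncomputable def th' (T : Two Qr Qs r s P) {θ : G} (hθs : θ * s = s * θ) : T.symm.lr.V ≃ₗ[ZMod 2] T.symm.lr.V :=
  T.symm.lr.act ⟨θ, mem_centralizer_singleton_iff.2 hθs⟩

include hθs hg in
/-- `[X_s, θ] ≤ D` -/
theorem comm_th {y : G} (hy : y ∈ Qs) (hyr : y * r = r * y) : θ * y * θ⁻¹ * y⁻¹ ∈ Qr ∧ θ * y * θ⁻¹ * y⁻¹ ∈ Qs := by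
  have h1 : θ * y * θ⁻¹ * y⁻¹ ∈ Qs := Qs.mul_mem (T.ls.conj_mem θ hθs y hy) (Qs.inv_mem hy)
  refine ⟨?_, h1⟩
  set th : centralizer ({r} : Set G) := ⟨θ, mem_centralizer_singleton_iff.2 hθr⟩ with hth
  set yy : centralizer ({r} : Set G) := ⟨y, mem_centralizer_singleton_iff.2 hyr⟩ with hyy
  have h4 : (th * yy * th⁻¹ * yy⁻¹) * (th * yy * th⁻¹ * yy⁻¹) * ((th * yy * th⁻¹ * yy⁻¹) * (th * yy * th⁻¹ * yy⁻¹)) = 1 := by
    apply Subtype.ext
    show (θ * y * θ⁻¹ * y⁻¹) * (θ * y * θ⁻¹ * y⁻¹) * ((θ * y * θ⁻¹ * y⁻¹) * (θ * y * θ⁻¹ * y⁻¹)) = 1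
    rcases T.ls.sq _ h1 with h | h
    · rw [h, one_mul]
    · rw [h, T.ls.z_sq]
  have h5 : t.sg (th * yy * th⁻¹ * yy⁻¹) = t.sg th * t.sg yy * (t.sg th)⁻¹ * (t.sg yy)⁻¹ := by
    rw [t.sg_mul, t.sg_mul, t.sg_mul, sg_inv, sg_inv]
  have h6 : t.sg (th * yy * th⁻¹ * yy⁻¹) = 1 := by
    rw [h5]
    apply comm4
    rw [← h5, ← t.sg_mul, ← t.sg_mul, h4, t.sg_one]
  have h7 : ∀ u, t.gg (th * yy * th⁻¹ * yy⁻¹) u = u := by
    intro u
    have hgi : ∀ u, t.gg th⁻¹ u = u := fun u => by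
      conv_lhs => rw [← hg u]
      exact t.gg_inv_gg th u
    rw [t.gg_mul, t.gg_mul, t.gg_mul, hgi, hg, t.gg_gg_inv]
  exact T.lr.mem_of_act _ (t.act_eq_one h6 h7)

include hg in
theorem th_Xt {v : T.symm.lr.V} (hv : v ∈ T.symm.Xt) : th' T hθs v + v ∈ T.symm.Dt := by
  obtain ⟨y, rfl⟩ := T.symm.lr.pr_surjective v
  rw [T.symm.pr_mem_Xt] at hv
  obtain ⟨k1, k2⟩ := comm_th T t hθs hθr hg y.2 hv
  refine ⟨⟨θ * y * θ⁻¹ * (y : G)⁻¹, k2⟩, k1, ?_⟩
  have e1 : (⟨θ * y * θ⁻¹ * (y : G)⁻¹, k2⟩ : Qs) =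
      T.symm.lr.conjQ ⟨θ, mem_centralizer_singleton_iff.2 hθs⟩ y * y⁻¹ := rfl
  rw [e1, T.symm.lr.pr_mul, T.symm.lr.pr_inv, T.symm.lr.neg_eq, th', T.symm.lr.act_pr]

include hθr in
theorem th_Dt {v : T.symm.lr.V} (hv : v ∈ T.symm.Dt) : th' T hθs v ∈ T.symm.Dt := by
  obtain ⟨y, hy, rfl⟩ := hv
  rw [th', T.symm.lr.act_pr]
  exact ⟨_, T.lr.conj_mem θ hθr y hy, rfl⟩

include hθr in
theorem th_mem_Xt {v : T.symm.lr.V} (hv : v ∈ T.symm.Xt) : th' T hθs v ∈ T.symm.Xt := by
  obtain ⟨y, rfl⟩ := T.symm.lr.pr_surjective v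
  rw [T.symm.pr_mem_Xt] at hv
  rw [th', T.symm.lr.act_pr, T.symm.pr_mem_Xt]
  show θ * (y : G) * θ⁻¹ * r = r * (θ * y * θ⁻¹)
  have h1 : θ⁻¹ * r = r * θ⁻¹ := by
    rw [inv_mul_eq_iff_eq_mul, ← mul_assoc, hθr, mul_inv_cancel_right]
  calc θ * (y : G) * θ⁻¹ * r = θ * y * (θ⁻¹ * r) := by group
    _ = θ * (y * r) * θ⁻¹ := by rw [h1]; group
    _ = (θ * r) * y * θ⁻¹ := by rw [hv]; group
    _ = r * (θ * y * θ⁻¹) := by rw [hθr]; group

include h3 in
theorem th_three (v : T.symm.lr.V) : th' T hθs (th' T hθs (th' T hθs v)) = v := by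
  have h1 : (⟨θ, mem_centralizer_singleton_iff.2 hθs⟩ : centralizer ({s} : Set G)) *
      ⟨θ, mem_centralizer_singleton_iff.2 hθs⟩ * ⟨θ, mem_centralizer_singleton_iff.2 hθs⟩ = 1 := Subtype.ext h3
  have h2 : T.symm.lr.act ((⟨θ, mem_centralizer_singleton_iff.2 hθs⟩ : centralizer ({s} : Set G)) *
      ⟨θ, mem_centralizer_singleton_iff.2 hθs⟩ * ⟨θ, mem_centralizer_singleton_iff.2 hθs⟩) v = v := by
    rw [h1, map_one]; rfl
  rw [map_mul, map_mul] at h2
  exact h2

include h3 hg in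
/-- `[D̃^⊥, θ] ≤ D̃` -/
theorem th_perp (hq : ∀ w ∈ T.symm.W, T.symm.lr.q w = 0) {u : T.symm.lr.V}
    (hu : ∀ d ∈ T.symm.Dt, T.symm.lr.b u d = 0) : th' T hθs u + u ∈ T.symm.Dt := by
  have h1 : th' T hθs u + u ∈ T.symm.Xt := by
    apply perp_Xt T.symm hq
    intro v hv
    -- `v = θ v'`, `v' = θ² v`
    have e1 := th_three T h3 hθs v
    have hv1 := th_mem_Xt T hθs hθr hv
    have hv2 := th_mem_Xt T hθs hθr hv1
    set v' := th' T hθs (th' T hθs v) with hv'
    have h2 : T.symm.lr.b (th' T hθs u) (th' T hθs v') = T.symm.lr.b u v' := T.symm.lr.b_act _ _ _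
    have h3 := hu _ (th_Xt T t hθs hθr hg hv2)
    rw [e1] at h2 h3
    rw [map_add, LinearMap.add_apply, h2, ← map_add, add_comm]
    exact h3
  have h2 := th_Dt T hθs hθr (th_Xt T t hθs hθr hg h1)
  have e : th' T hθs (th' T hθs (th' T hθs u + u) + (th' T hθs u + u)) = th' T hθs u + u := by
    simp only [map_add, th_three T h3 hθs]
    have : u + th' T hθs (th' T hθs u) + (th' T hθs (th' T hθs u) + th' T hθs u) =
      th' T hθs u + u + (th' T hθs (th' T hθs u) + th' T hθs (th' T hθs u)) := by abel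
    rw [this, T.symm.lr.add_self, add_zero]
  rwa [e] at h2

include h3 hg in
/-- `|V_s| ≤ 16 |C_{V_s}(θ)|` -/
theorem card_V_le (hq : ∀ w ∈ T.symm.W, T.symm.lr.q w = 0) :
    Nat.card T.symm.lr.V ≤ 16 * Nat.card {v : T.symm.lr.V // th' T hθs v = v} := by
  classical
  have h4 := Dt.card_Dt_le T.symm
  have h5 := Perp.card_perp T.symm.lr T.symm.Dt
  have hper : ∀ u : T.symm.lr.b.orthogonal T.symm.Dt, th' T hθs u + u ∈ T.symm.Dt := fun u =>
    th_perp T t h3 hθs hθr hg hq fun d hd => by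
      rw [T.symm.lr.b_comm]; exact (Perp.mem_perp T.symm.lr _).1 u.2 d hd
  let f : T.symm.lr.b.orthogonal T.symm.Dt →+ T.symm.Dt :=
    { toFun := fun u => ⟨th' T hθs u + u, hper u⟩
      map_zero' := by
        apply Subtype.ext
        show th' T hθs 0 + 0 = 0
        rw [map_zero, add_zero]
      map_add' := fun u u' => by
        apply Subtype.ext
        show th' T hθs (u + u') + (u + u') = th' T hθs u + u + (th' T hθs u' + u')
        rw [map_add]; abel }
  have h6 := card_le_of_hom f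
  have h7 : Nat.card f.ker ≤ Nat.card {v : T.symm.lr.V // th' T hθs v = v} := by
    refine Nat.card_le_card_of_injective
      (fun x : f.ker => (⟨((x : T.symm.lr.b.orthogonal T.symm.Dt) : T.symm.lr.V), ?_⟩ :
        {v : T.symm.lr.V // th' T hθs v = v})) ?_
    · have := congrArg (fun d : T.symm.Dt => (d : T.symm.lr.V)) x.2
      exact T.symm.add_eq_zero.1 this
    · intro x y hxy
      exact Subtype.ext (Subtype.ext (congrArg (fun v : {v : T.symm.lr.V // th' T hθs v = v} => (v : T.symm.lr.V)) hxy))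
  calc Nat.card T.symm.lr.V = Nat.card T.symm.Dt * Nat.card (T.symm.lr.b.orthogonal T.symm.Dt) := h5.symm
    _ ≤ Nat.card T.symm.Dt * (Nat.card T.symm.Dt * Nat.card f.ker) := Nat.mul_le_mul_left _ h6
    _ ≤ 4 * (4 * Nat.card f.ker) := Nat.mul_le_mul h4 (Nat.mul_le_mul_right _ h4)
    _ = 16 * Nat.card f.ker := by ring
    _ ≤ _ := Nat.mul_le_mul_left _ h7

include h3 hg in
/-- `θ` acts on `V_s` with trivial component in `Sym(3)` -/
theorem sg_th {U' : Type w} [AddCommGroup U'] {e' : Fin 3 → U' → T.symm.lr.V} (t' : Ten T.symm.lr e')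
    (hq : ∀ w ∈ T.symm.W, T.symm.lr.q w = 0) (hU' : 16 < Nat.card U') :
    t'.sg ⟨θ, mem_centralizer_singleton_iff.2 hθs⟩ = 1 := by
  by_contra hne
  have := t'.finite_U
  set c : centralizer ({s} : Set G) := ⟨θ, mem_centralizer_singleton_iff.2 hθs⟩ with hc
  have hc3 : c * c * c = 1 := Subtype.ext h3
  have hσ3 : t'.sg c * t'.sg c * t'.sg c = 1 := by rw [← t'.sg_mul, ← t'.sg_mul, hc3, t'.sg_one]
  have hcyc := cyc3 _ hne hσ3
  have h1 := card_V_le T t h3 hθs hθr hg hq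
  obtain ⟨k1, k2, k3⟩ := hcyc 0
  have h2 : ∀ v : {v : T.symm.lr.V // th' T hθs v = v}, ∃ b,
      (v : T.symm.lr.V) = e' 0 (t'.gg c b) + e' (t'.sg c 0) b := by
    rintro ⟨v, hv⟩
    obtain ⟨a, b, rfl⟩ := t'.surj k1 v
    refine ⟨b, ?_⟩
    have e1 : th' T hθs (e' 0 a + e' (t'.sg c 0) b) =
        e' 0 (t'.gg c b) + e' (t'.sg c 0) (t'.gg c a + t'.gg c b) := by
      rw [th', map_add, t'.act_e, t'.act_e, ← hc, t'.add, ← t'.third k1 k2 k3]
      abel
    rw [e1] at hv
    rw [(t'.uniq k1 hv).1]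
  choose φ hφ using h2
  have h3' : Nat.card {v : T.symm.lr.V // th' T hθs v = v} ≤ Nat.card U' :=
    Nat.card_le_card_of_injective φ fun v w hvw => Subtype.ext (by rw [hφ v, hφ w, hvw])
  rw [t'.card_V] at h1
  have h4 : Nat.card U' * Nat.card U' ≤ 16 * Nat.card U' := h1.trans (Nat.mul_le_mul_left _ h3')
  have h5 := Nat.le_of_mul_le_mul_right h4 (by omega)
  omega

include h3 hθs hg in
/-- **(C1)** -/
theorem false_of_th {U' : Type w} [AddCommGroup U'] {e' : Fin 3 → U' → T.symm.lr.V} (t' : Ten T.symm.lr e')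
    (hr : t'.sg (cs T.symm) = 1) (hU' : 16 < Nat.card U') (h1 : θ ≠ 1) : False := by
  have hq := q_W_zero T.symm t' hr
  have hσ := sg_th T t h3 hθs hθr hg t' hq hU'
  have := t'.finite_U
  set c : centralizer ({s} : Set G) := ⟨θ, mem_centralizer_singleton_iff.2 hθs⟩ with hc
  have hc3 : c * c * c = 1 := Subtype.ext h3
  have hg3 : ∀ u, t'.gg c (t'.gg c (t'.gg c u)) = u := fun u => by
    rw [← t'.gg_mul, ← t'.gg_mul, hc3, t'.gg_one]
  have hΘe : ∀ i u, th' T hθs (e' i u) = e' i (t'.gg c u) := fun i u => by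
    rw [th', t'.act_e, ← hc, hσ]; rfl
  -- `f u = g u + u`
  let f : U' →+ U' :=
    { toFun := fun u => t'.gg c u + u
      map_zero' := by rw [t'.gg_zero, add_zero]
      map_add' := fun u u' => by rw [t'.gg_add]; abel }
  have hker : ∀ u, u ∈ f.ker ↔ t'.gg c u = u := fun u => t'.add_eq_zero
  -- `|P| ≤ 4`
  have hP4 : Nat.card f.range ≤ 4 := by
    have k1 := card_V_le T t h3 hθs hθr hg hq
    have k2 : Nat.card {v : T.symm.lr.V // th' T hθs v = v} ≤ Nat.card (f.ker × f.ker) := by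
      have k3 : ∀ v : {v : T.symm.lr.V // th' T hθs v = v}, ∃ p : f.ker × f.ker,
          (v : T.symm.lr.V) = e' 0 p.1 + e' 1 p.2 := by
        rintro ⟨v, hv⟩
        obtain ⟨a, b, rfl⟩ := t'.surj01 v
        rw [map_add, hΘe, hΘe] at hv
        obtain ⟨ha, hb⟩ := t'.uniq (by decide) hv
        exact ⟨(⟨a, (hker a).2 ha⟩, ⟨b, (hker b).2 hb⟩), rfl⟩
      choose φ hφ using k3
      exact Nat.card_le_card_of_injective φ fun v w hvw => Subtype.ext (by rw [hφ v, hφ w, hvw])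
    rw [Nat.card_prod] at k2
    rw [t'.card_V] at k1
    have k4 := card_range_mul f
    set K := Nat.card f.ker with hK
    set R := Nat.card f.range with hR
    have hKpos : 0 < K := Nat.card_pos
    rw [k4] at k1
    have k5 : (R * R) * (K * K) ≤ 16 * (K * K) := by
      calc (R * R) * (K * K) = R * K * (R * K) := by ring
        _ ≤ 16 * Nat.card {v : T.symm.lr.V // th' T hθs v = v} := k1
        _ ≤ 16 * (K * K) := Nat.mul_le_mul_left _ k2
    have k6 := Nat.le_of_mul_le_mul_right k5 (Nat.mul_pos hKpos hKpos)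
    by_contra hcon
    have : 5 * 5 ≤ R * R := Nat.mul_le_mul (by omega) (by omega)
    omega
  -- a nonzero element of `P`
  obtain ⟨u0, hu0⟩ : ∃ u, t'.gg c u ≠ u := by
    by_contra hcon
    push Not at hcon
    have k1 : θ ∈ Qs := T.ls.mem_of_act c (t'.act_eq_one hσ hcon)
    have k2 : θ * θ * (θ * θ) = 1 := by
      rcases T.ls.sq θ k1 with h | h
      · rw [h, one_mul]
      · rw [h, T.ls.z_sq]
    apply h1
    calc θ = (θ * θ * θ)⁻¹ * (θ * θ * (θ * θ)) := by group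
      _ = 1 := by rw [h3, k2]; group
  -- `p + g p + g² p = 0` on `P`
  have hsum : ∀ p ∈ f.range, p + t'.gg c p = t'.gg c (t'.gg c p) := by
    rintro _ ⟨u, rfl⟩
    show (t'.gg c u + u) + t'.gg c (t'.gg c u + u) = t'.gg c (t'.gg c (t'.gg c u + u))
    rw [t'.gg_add, t'.gg_add, hg3]
    have : t'.gg c u + u + (t'.gg c (t'.gg c u) + t'.gg c u) =
      u + t'.gg c (t'.gg c u) + (t'.gg c u + t'.gg c u) := by abel
    rw [this, t'.add_self, add_zero]
  have hgP : ∀ p ∈ f.range, t'.gg c p ∈ f.range := by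
    rintro _ ⟨u, rfl⟩
    exact ⟨t'.gg c u, (t'.gg_add c _ _).symm⟩
  have hfp : ∀ p ∈ f.range, p ≠ 0 → t'.gg c p ≠ p := by
    intro p hp hp0 he
    have k1 := hsum p hp
    rw [he, he, t'.add_self] at k1
    exact hp0 k1.symm
  have hg0 : ∀ p, p ≠ 0 → t'.gg c p ≠ 0 := fun p hp h => hp (t'.gg_inj c (h.trans (t'.gg_zero c).symm))
  set hr' := t'.gg (cs T.symm) with hhr
  have hrr := hh_e T.symm t' hr
  have hcomm : ∀ u, hr' (t'.gg c u) = t'.gg c (hr' u) := by
    intro u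
    rw [hhr, ← t'.gg_mul, ← t'.gg_mul]
    congr 1
    exact Subtype.ext hθr.symm
  -- `r` is trivial on `P`
  have hrP : ∀ p ∈ f.range, hr' p = p := by
    intro p hp
    by_contra hne
    -- the fixed points of `r` on `P`
    let K : AddSubgroup U' :=
      { carrier := {x | x ∈ f.range ∧ hr' x = x}
        zero_mem' := ⟨f.range.zero_mem, t'.gg_zero _⟩
        add_mem' := by
          rintro x y ⟨hx, hx'⟩ ⟨hy, hy'⟩
          exact ⟨f.range.add_mem hx hy, by rw [hhr, t'.gg_add, ← hhr, hx', hy']⟩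
        neg_mem' := by
          rintro x ⟨hx, hx'⟩
          exact ⟨f.range.neg_mem hx, by rw [t'.neg_eq]; exact hx'⟩ }
    have hrP' : ∀ x ∈ f.range, hr' x ∈ f.range := by
      rintro _ ⟨u, rfl⟩
      refine ⟨hr' u, ?_⟩
      show t'.gg c (hr' u) + hr' u = hr' (t'.gg c u + u)
      rw [hhr, t'.gg_add, ← hhr, hcomm]
    have k1 : hr' p + p ∈ K := by
      refine ⟨f.range.add_mem (hrP' p hp) hp, ?_⟩
      rw [hhr, t'.gg_add, hrr, add_comm]
    have k0 : hr' p + p ≠ 0 := fun h => hne (t'.add_eq_zero.1 h)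
    have k2 : t'.gg c (hr' p + p) ∈ K := ⟨hgP _ k1.1, by rw [hcomm, k1.2]⟩
    have k3 := three_le k1 k2 k0 (hg0 _ k0) (hfp _ k1.1 k0).symm
    have k4 : K = f.range := eq_of_card (fun x hx => hx.1) hP4 k3
    rw [← k4] at hp
    exact hne hp.2
  -- `e' i p ∈ X̃`
  have hX : ∀ i, ∀ p ∈ f.range, e' i p ∈ T.symm.Xt := by
    intro i p hp
    by_contra hcon
    have hgt : ∀ p, t'.gg c p ∈ f.range → e' i (t'.gg c p) ∈ T.symm.Xt → e' i p ∈ T.symm.Xt := by
      intro p _ hx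
      have k1 := th_mem_Xt T hθs hθr (th_mem_Xt T hθs hθr hx)
      rwa [hΘe, hΘe, hg3] at k1
    have k1 : e' i (t'.gg c p) ∉ T.symm.Xt := fun h => hcon (hgt p (hgP p hp) h)
    have k2 := T.symm.add_mem_Xt ((mem_F_e T.symm t' hr).2 (hrP p hp))
      ((mem_F_e T.symm t' hr).2 (hrP _ (hgP p hp))) hcon k1
    rw [← t'.add, hsum p hp] at k2
    exact hcon (hgt p (hgP p hp) (hgt _ (hgP _ (hgP p hp)) k2))
  -- `e' i p ∈ D̃`
  have hD : ∀ i, ∀ p ∈ f.range, e' i p ∈ T.symm.Dt := by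
    intro i p hp
    have k1 := th_Xt T t hθs hθr hg (hX i p hp)
    rw [hΘe, ← t'.add, add_comm, hsum p hp] at k1
    have k2 := th_Dt T hθs hθr k1
    rwa [hΘe, hg3] at k2
  -- too many elements
  have hfin : Nat.card (f.range × f.range) ≤ Nat.card T.symm.Dt := by
    refine Nat.card_le_card_of_injective (fun p : f.range × f.range =>
      (⟨e' 0 p.1 + e' 1 p.2, T.symm.Dt.add_mem (hD 0 _ p.1.2) (hD 1 _ p.2.2)⟩ : T.symm.Dt)) ?_
    rintro ⟨a, b⟩ ⟨a', b'⟩ hab
    have k1 := congrArg (fun d : T.symm.Dt => (d : T.symm.lr.V)) hab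
    obtain ⟨k2, k3⟩ := t'.uniq (by decide) k1
    exact Prod.ext (Subtype.ext k2) (Subtype.ext k3)
  have hP2 : 2 < Nat.card f.range :=
    three_le (K := f.range) (a := t'.gg c u0 + u0) (b := t'.gg c (t'.gg c u0 + u0)) ⟨u0, rfl⟩ (hgP _ ⟨u0, rfl⟩)
      (fun h => hu0 (t'.add_eq_zero.1 h)) (hg0 _ fun h => hu0 (t'.add_eq_zero.1 h))
      (hfp _ ⟨u0, rfl⟩ fun h => hu0 (t'.add_eq_zero.1 h)).symm
  rw [Nat.card_prod] at hfin
  have h4 := Dt.card_Dt_le T.symm
  have : 3 * 3 ≤ Nat.card f.range * Nat.card f.range := Nat.mul_le_mul hP2 hP2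
  omega

end theta

/-- **Type I is impossible.** -/
theorem typeI [Finite G] (T : Two Qr Qs r s P) {U : Type v} [AddCommGroup U] {e : Fin 3 → U → T.lr.V}
    (t : Ten T.lr e) {U' : Type w} [AddCommGroup U'] {e' : Fin 3 → U' → T.symm.lr.V} (t' : Ten T.symm.lr e')
    (hs : t.sg (cs T) = 1) (hr : t'.sg (cs T.symm) = 1) (hU : 16 < Nat.card U) (hU' : 16 < Nat.card U') :
    False := by
  by_cases h1 : T.F ≤ T.Xt
  · obtain ⟨θ, k1, k2, k3, k4, k5⟩ := exists_theta T t hs h1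
    refine false_of_th T t k1 k2 k3 k5 t' hr hU' ?_
    rintro rfl
    apply k4
    exact t.sg_one
  by_cases h2 : T.symm.F ≤ T.symm.Xt
  · obtain ⟨θ, k1, k2, k3, k4, k5⟩ := exists_theta T.symm t' hr h2
    refine false_of_th T.symm t' k1 k2 k3 k5 t hs hU ?_
    rintro rfl
    apply k4
    exact t'.sg_one
  · exact caseC2 T t t' hs hr h1 h2

end Cfsg.Agent.Omega.All.DN

end

section


/-!
# Row `D_n` of LEMMA CC is dead (#13336 helper298, #13367 helper146; type II helper862)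

`r`, `s` commuting conjugates of `z` in different components, `V_r = N ⊗ U`, `V_s = N' ⊗ U'` (`Ten`), `|U| ≥ 64`:
contradiction.
-/

set_option autoImplicit false

namespace Cfsg.Agent.Omega.All.DN

open Cfsg.Agent.Co2Type.Quad Cfsg.Agent.LargeExtra Cfsg.Agent.LargeExtra.CC Subgroup

universe u v

variable {G : Type u} [Group G] {Qr Qs : Subgroup G} {r s : G} {P : G → Prop}

/-- **THEOREM DN** -/
theorem dn [Finite G] (T : Two Qr Qs r s P) {U : Type v} [AddCommGroup U] {e : Fin 3 → U → T.lr.V}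
    (t : Ten T.lr e) {U' : Type v} [AddCommGroup U'] {e' : Fin 3 → U' → T.ls.V} (t' : Ten T.ls e')
    (hU : 64 ≤ Nat.card U) (hU' : 64 ≤ Nat.card U') : False := by
  have h1 : t.sg (cs T) = 1 := DNTwo.typeII T t t' hU'
  have h2 : t'.sg (cs T.symm) = 1 := DNTwo.typeII T.symm t' t hU
  exact typeI T t (e' := e') t' h1 h2 (by omega) (by omega)

end Cfsg.Agent.Omega.All.DN

end

section


/-!
# Transport of `Ten` to the conjugates of `z`
-/

set_option autoImplicit false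

namespace Cfsg.Agent.Omega.All.DN

open Cfsg.Agent.Co2Type.Quad Cfsg.Agent.LargeExtra Cfsg.Agent.LargeExtra.CC Subgroup

universe u v

variable {G : Type u} [Group G] {Q Q' : Subgroup G} {z z' : G}

/-- conjugation `Q → Q'` -/
def cjQ {g : G} (hQ : ∀ x, x ∈ Q → g * x * g⁻¹ ∈ Q') (x : Q) : Q' := ⟨g * x * g⁻¹, hQ x x.2⟩

theorem pr_cjQ_congr (h : Large Q z) (h' : Large Q' z') {g : G} (hz : g * z * g⁻¹ = z')
    (hQ : ∀ x, x ∈ Q → g * x * g⁻¹ ∈ Q') {x y : Q} (hxy : h.pr x = h.pr y) :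
    h'.pr (cjQ hQ x) = h'.pr (cjQ hQ y) := by
  rw [h.pr_eq_pr] at hxy
  rw [h'.pr_eq_pr]
  rcases hxy with h1 | h1
  · left
    show g * (x : G) * g⁻¹ = g * (y : G) * g⁻¹
    rw [h1]
  · right
    show g * (x : G) * g⁻¹ = g * (y : G) * g⁻¹ * z'
    rw [h1, ← hz]; group

/-- the induced map `V → V'` -/
noncomputable def cjV (h : Large Q z) (h' : Large Q' z') {g : G} (hQ : ∀ x, x ∈ Q → g * x * g⁻¹ ∈ Q') (v : h.V) :
    h'.V := h'.pr (cjQ hQ (Function.surjInv h.pr_surjective v))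

section

variable (h : Large Q z) (h' : Large Q' z') {g : G} (hz : g * z * g⁻¹ = z')
  (hQ : ∀ x, x ∈ Q → g * x * g⁻¹ ∈ Q') (hQ' : ∀ x, g * x * g⁻¹ ∈ Q' → x ∈ Q)

include hz in
theorem cjV_pr (x : Q) : cjV h h' hQ (h.pr x) = h'.pr (cjQ hQ x) :=
  pr_cjQ_congr h h' hz hQ (Function.surjInv_eq h.pr_surjective _)

include hz in
theorem cjV_add (v w : h.V) : cjV h h' hQ (v + w) = cjV h h' hQ v + cjV h h' hQ w := by
  obtain ⟨x, rfl⟩ := h.pr_surjective v
  obtain ⟨y, rfl⟩ := h.pr_surjective w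
  rw [← h.pr_mul, cjV_pr h h' hz, cjV_pr h h' hz, cjV_pr h h' hz, ← h'.pr_mul]
  congr 1
  apply Subtype.ext
  show g * ((x : G) * y) * g⁻¹ = g * x * g⁻¹ * (g * y * g⁻¹)
  group

include hz in
theorem cjV_eq_zero {v : h.V} (hv : cjV h h' hQ v = 0) : v = 0 := by
  obtain ⟨x, rfl⟩ := h.pr_surjective v
  rw [cjV_pr h h' hz, h'.pr_eq_zero] at hv
  rw [h.pr_eq_zero]
  rcases hv with h1 | h1
  · left
    have h2 : g * (x : G) * g⁻¹ = 1 := h1
    calc (x : G) = g⁻¹ * (g * x * g⁻¹) * g := by group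
      _ = 1 := by rw [h2]; group
  · right
    have h2 : g * (x : G) * g⁻¹ = z' := h1
    calc (x : G) = g⁻¹ * (g * x * g⁻¹) * g := by group
      _ = z := by rw [h2, ← hz]; group

include hz hQ' in
theorem cjV_surj (v : h'.V) : ∃ w, cjV h h' hQ w = v := by
  obtain ⟨x, rfl⟩ := h'.pr_surjective v
  have hx : g⁻¹ * (x : G) * g ∈ Q := hQ' _ (by
    have e : g * (g⁻¹ * (x : G) * g) * g⁻¹ = x := by group
    rw [e]; exact x.2)
  refine ⟨h.pr ⟨_, hx⟩, ?_⟩
  rw [cjV_pr h h' hz]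
  congr 1
  apply Subtype.ext
  show g * (g⁻¹ * (x : G) * g) * g⁻¹ = x
  group

include hz in
theorem q_cjV (v : h.V) : h'.q (cjV h h' hQ v) = h.q v := by
  obtain ⟨x, rfl⟩ := h.pr_surjective v
  rw [cjV_pr h h' hz]
  rcases h.sq x x.2 with h1 | h1
  · rw [h.q_eq_zero.2 h1, h'.q_eq_zero]
    show g * (x : G) * g⁻¹ * (g * x * g⁻¹) = 1
    calc g * (x : G) * g⁻¹ * (g * x * g⁻¹) = g * (x * x) * g⁻¹ := by group
      _ = 1 := by rw [h1]; group
  · rw [h.q_eq_one.2 h1, h'.q_eq_one]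
    show g * (x : G) * g⁻¹ * (g * x * g⁻¹) = z'
    calc g * (x : G) * g⁻¹ * (g * x * g⁻¹) = g * (x * x) * g⁻¹ := by group
      _ = z' := by rw [h1, hz]

include hz in
theorem act_cjV {c : centralizer ({z} : Set G)} {c' : centralizer ({z'} : Set G)} (hc : (c' : G) = g * c * g⁻¹)
    (v : h.V) : h'.act c' (cjV h h' hQ v) = cjV h h' hQ (h.act c v) := by
  obtain ⟨x, rfl⟩ := h.pr_surjective v
  rw [cjV_pr h h' hz, h.act_pr, h'.act_pr, cjV_pr h h' hz]
  congr 1
  apply Subtype.ext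
  show (c' : G) * (g * (x : G) * g⁻¹) * (c' : G)⁻¹ = g * (c * x * (c : G)⁻¹) * g⁻¹
  rw [hc]; group

end

/-- **transport of the tensor structure** -/
theorem Ten.conj {h : Large Q z} {U : Type v} [AddCommGroup U] {e : Fin 3 → U → h.V} (t : Ten h e) (h' : Large Q' z')
    {g : G} (hz : g * z * g⁻¹ = z') (hQ : ∀ x, x ∈ Q → g * x * g⁻¹ ∈ Q') (hQ' : ∀ x, g * x * g⁻¹ ∈ Q' → x ∈ Q) :
    Ten h' (fun i u => cjV h h' hQ (e i u)) where
  add := fun i u u' => by rw [t.add, cjV_add h h' hz]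
  sum := fun u => by
    rw [← cjV_add h h' hz, ← cjV_add h h' hz, t.sum]
    have := cjV_add h h' hz hQ 0 0
    rw [add_zero] at this
    exact left_eq_add.1 this
  inj01 := fun a b hab => by
    rw [← cjV_add h h' hz] at hab
    exact t.inj01 a b (cjV_eq_zero h h' hz hQ hab)
  surj01 := fun v => by
    obtain ⟨w, rfl⟩ := cjV_surj h h' hz hQ hQ' v
    obtain ⟨a, b, rfl⟩ := t.surj01 w
    exact ⟨a, b, cjV_add h h' hz hQ _ _⟩
  q_e := fun i u => by rw [q_cjV h h' hz, t.q_e]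
  act_ex := fun c' => by
    have hc' : (c' : G) * z' = z' * c' := mem_centralizer_singleton_iff.1 c'.2
    have hc : g⁻¹ * (c' : G) * g ∈ centralizer ({z} : Set G) := by
      rw [mem_centralizer_singleton_iff]
      calc g⁻¹ * (c' : G) * g * z = g⁻¹ * (c' * (g * z * g⁻¹)) * g := by group
        _ = g⁻¹ * (g * z * g⁻¹ * c') * g := by rw [hz, hc']
        _ = z * (g⁻¹ * (c' : G) * g) := by group
    obtain ⟨σ, f, h1⟩ := t.act_ex ⟨_, hc⟩
    refine ⟨σ, f, fun i u => ?_⟩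
    rw [act_cjV h h' hz hQ (c := ⟨_, hc⟩) (by show (c' : G) = g * (g⁻¹ * (c' : G) * g) * g⁻¹; group), h1]
  th_ex := by
    obtain ⟨c, σ, h1, h2, h3⟩ := t.th_ex
    have hcz : (c : G) * z = z * c := mem_centralizer_singleton_iff.1 c.2
    have hc : g * (c : G) * g⁻¹ ∈ centralizer ({z'} : Set G) := by
      rw [mem_centralizer_singleton_iff, ← hz]
      calc g * (c : G) * g⁻¹ * (g * z * g⁻¹) = g * (c * z) * g⁻¹ := by group
        _ = g * z * g⁻¹ * (g * (c : G) * g⁻¹) := by rw [hcz]; group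
    exact ⟨⟨_, hc⟩, σ, h1, h2, fun i u => by rw [act_cjV h h' hz hQ (c := c) rfl, h3]⟩
  nt := t.nt

/-- **THEOREM DN**, all conjugates of `z`: `Q_x` = the large extraspecial subgroup of `x`, `g_x` conjugates `(z, Q)` to
`(r, Q_r)` and `(s, Q_s)`. -/
theorem dn_conj [Finite G] {h : Large Q z} {U : Type v} [AddCommGroup U] {e : Fin 3 → U → h.V} (t : Ten h e)
    (hU : 64 ≤ Nat.card U) {Qr Qs : Subgroup G} {r s : G} {P : G → Prop} (T : Two Qr Qs r s P) {g k : G}
    (hr : g * z * g⁻¹ = r) (hQr : ∀ x, x ∈ Q → g * x * g⁻¹ ∈ Qr) (hQr' : ∀ x, g * x * g⁻¹ ∈ Qr → x ∈ Q)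
    (hs : k * z * k⁻¹ = s) (hQs : ∀ x, x ∈ Q → k * x * k⁻¹ ∈ Qs) (hQs' : ∀ x, k * x * k⁻¹ ∈ Qs → x ∈ Q) : False :=
  dn T (t.conj T.lr hr hQr hQr') (t.conj T.ls hs hQs hQs') hU hU

end Cfsg.Agent.Omega.All.DN

end

end

-- merged: Cfsg.Agent.Mrg.Omega.EH3.RowS.Far
section

/-!
# EH3, row S: the tensor structure `Ten` (helper754)

* `Tri.card_ge` : `64 ≤ |U|`;
* `ee` : `n_i ⊗ u`; `Tri.exists_perm` : `ρ h (n_i ⊗ u) = n_{σ i} ⊗ g u`;
* `Tri.ten` : helper165's `All.DN.Ten` for a pair `(z, a)` with `C : Cfg ..`, `S : Tri ..`.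
-/

set_option autoImplicit false

namespace Cfsg.Agent.Omega.EH3.RowS

open Subgroup

section

variable {H V : Type*} [Group H] [AddCommGroup V] [Module (ZMod 2) V]

/-- `n_i ⊗ u` -/
def ee (ρ : H →* (V ≃ₗ[ZMod 2] V)) (d t : H) (i : Fin 3) (u : UU ρ t) : V :=
  if i = 0 then (u : V) else if i = 1 then ρ d u else u + ρ d u

variable {ρ : H →* (V ≃ₗ[ZMod 2] V)} {d t : H}

theorem ee_zero (u : UU ρ t) : ee ρ d t 0 u = u := rfl

theorem ee_one (u : UU ρ t) : ee ρ d t 1 u = ρ d u := rfl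

theorem ee_two (u : UU ρ t) : ee ρ d t 2 u = u + ρ d u := rfl

/-- the 3-cycle `0 ↦ 1 ↦ 2 ↦ 0` -/
def cyc : Equiv.Perm (Fin 3) := finRotate 3

end

namespace Tri

variable {H V : Type*} [Group H] [AddCommGroup V] [Module (ZMod 2) V]
  {ρ : H →* (V ≃ₗ[ZMod 2] V)} {b : LinearMap.BilinForm (ZMod 2) V} {q : V → ZMod 2}
  {a : V} {D : Submodule (ZMod 2) V} {X : Subgroup H} {w : ℕ} {L : Subgroup H} {d t : H}

variable (C : Cfg ρ b q a D X w) (S : Tri ρ X L d t)
include C S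

/-- `w` is even -/
theorem exists_half (hN : L.Normal) (hq : IsQuasisimple L) (hZ : Odd (Nat.card (center L))) : ∃ k, w = 2 * k := by
  obtain ⟨Q, hQ⟩ := S.exists_QD C hN hq hZ
  have A := S.ab C hN hq hZ
  have hS := A.sy
  have hfin := A.finite
  have hcard := S.card_U C
  obtain ⟨k, W, hWe, hcd, hV⟩ := WF.exists_wframe hS hQ.isQ (a := (⟨a, S.a_mem C⟩ : UU ρ t)) A.a_ne (hQ.Q_a A)
  rw [hcard] at hcd
  rcases hV with hV | ⟨x, y, hV⟩
  · have h1 : Nat.card W.V0 = 1 := by rw [hV]; simp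
    rw [h1, mul_one] at hcd
    exact ⟨_, Nat.pow_right_injective le_rfl hcd⟩
  · have h1 : Nat.card W.V0 = 4 := WF.card_aniso hQ.isQ hV
    have h0 : (4 : ℕ) = 2 ^ 2 := by norm_num
    rw [h1, h0, ← pow_add] at hcd
    have h2 : w = 2 * (k + 1) + 2 := Nat.pow_right_injective le_rfl hcd
    exact ⟨k + 2, by omega⟩

theorem card_ge (hN : L.Normal) (hq : IsQuasisimple L) (hZ : Odd (Nat.card (center L))) :
    64 ≤ Nat.card (UU ρ t) := by
  obtain ⟨k, hk⟩ := S.exists_half C hN hq hZ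
  have h5 := C.five
  rw [S.card_U C]
  calc 64 = 2 ^ 6 := by norm_num
    _ ≤ 2 ^ w := Nat.pow_le_pow_right (by norm_num) (by omega)

theorem d_ee (i : Fin 3) (u : UU ρ t) : ρ d (ee ρ d t i u) = ee ρ d t (cyc i) u := by
  fin_cases i
  · rfl
  · exact S.om C u
  · show ρ d ((u : V) + ρ d u) = u
    rw [map_add, S.om C, ← add_assoc, add_comm (ρ d (u : V)), add_assoc, C.add_self, add_zero]

theorem t_ee (i : Fin 3) (u : UU ρ t) : ρ t (ee ρ d t i u) = ee ρ d t (Equiv.swap 1 2 i) u := by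
  have h1 : ρ t (u : V) = u := u.2
  fin_cases i
  · exact h1
  · show ρ t (ρ d (u : V)) = u + ρ d u
    rw [S.t_om C, h1]
  · show ρ t ((u : V) + ρ d u) = ρ d u
    rw [map_add, S.t_om C, h1, ← add_assoc, C.add_self, zero_add]

theorem exists_perm_closure {s : H} (hs : s ∈ closure {d, t}) :
    ∃ σ : Equiv.Perm (Fin 3), ∀ i u, ρ s (ee ρ d t i u) = ee ρ d t (σ i) u := by
  induction hs using closure_induction with
  | mem x hx =>
    rcases hx with rfl | hx
    · exact ⟨cyc, S.d_ee C⟩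
    · rw [Set.mem_singleton_iff] at hx
      subst hx
      exact ⟨Equiv.swap 1 2, S.t_ee C⟩
  | one => exact ⟨1, fun i u => C.ρ_one _⟩
  | mul x y _ _ h1 h2 =>
    obtain ⟨σ, h1⟩ := h1
    obtain ⟨τ, h2⟩ := h2
    exact ⟨σ * τ, fun i u => by rw [C.ρ_mul, h2, h1]; rfl⟩
  | inv x _ h1 =>
    obtain ⟨σ, h1⟩ := h1
    refine ⟨σ.symm, fun i u => ?_⟩
    have h2 := h1 (σ.symm i) u
    rw [Equiv.apply_symm_apply] at h2
    rw [← h2, C.ρ_inv_apply]

theorem exists_perm (hN : L.Normal) (hq : IsQuasisimple L) (hZ : Odd (Nat.card (center L))) (h : H) :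
    ∃ (σ : Equiv.Perm (Fin 3)) (g : UU ρ t → UU ρ t), ∀ i u, ρ h (ee ρ d t i u) = ee ρ d t (σ i) (g u) := by
  obtain ⟨s, hs, k, hk, rfl⟩ := S.exists_split C hN hq hZ h
  obtain ⟨σ, h1⟩ := S.exists_perm_closure C hs
  refine ⟨σ, fun u => ⟨ρ k u, inv_U hk u.2⟩, fun i u => ?_⟩
  rw [C.ρ_mul, ← h1]
  congr 1
  fin_cases i
  · rfl
  · exact comm_om hk _
  · show ρ k ((u : V) + ρ d u) = ρ k u + ρ d (ρ k u)
    rw [map_add, comm_om hk]

theorem q_ee (hN : L.Normal) (hq : IsQuasisimple L) (i : Fin 3) (u : UU ρ t) : q (ee ρ d t i u) = 0 := by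
  have h0 := S.q_U_zero C hN hq u.2
  fin_cases i
  · exact h0
  · show q (ρ d (u : V)) = 0
    rw [C.q_inv]; exact h0
  · show q ((u : V) + ρ d u) = 0
    rw [← S.om C, C.q_inv, C.q_inv]; exact h0

end Tri

open Cfsg.Agent.Co2Type.Quad Cfsg.Agent.LargeExtra Cfsg.Agent.LargeExtra.Base
open Cfsg.Agent.Omega.All.DN (Ten)

variable {G : Type*} [Group G] {Q A : Subgroup G} {z a : G}

/-- **the tensor structure** -/
theorem ten (p : Pair Q z A a) {w : ℕ}
    (C : Cfg (p.H.subtype : p.H →* (p.lz.V ≃ₗ[ZMod 2] p.lz.V)) p.lz.b p.lz.q p.va p.D (p.X.subgroupOf p.H) w)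
    {L : Subgroup p.H} {d t : p.H}
    (S : Tri (p.H.subtype : p.H →* (p.lz.V ≃ₗ[ZMod 2] p.lz.V)) (p.X.subgroupOf p.H) L d t)
    (hN : L.Normal) (hq : IsQuasisimple L) (hZ : Odd (Nat.card (center L))) :
    Ten p.lz (ee (p.H.subtype : p.H →* (p.lz.V ≃ₗ[ZMod 2] p.lz.V)) d t) where
  add := by
    intro i u u'
    fin_cases i
    · rfl
    · exact map_add _ _ _
    · show ((u : p.lz.V) + u') + p.H.subtype d ((u : p.lz.V) + u') = _ + _
      rw [map_add]
      show ((u : p.lz.V) + u') + (p.H.subtype d u + p.H.subtype d u') =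
        ((u : p.lz.V) + p.H.subtype d u) + (u' + p.H.subtype d u')
      abel
  sum := by
    intro u
    show (u : p.lz.V) + p.H.subtype d u + (u + p.H.subtype d u) = 0
    exact C.add_self _
  inj01 := by
    intro x y hxy
    obtain ⟨h1, h2⟩ := S.dec_zero C x.2 y.2 hxy
    exact ⟨Subtype.ext h1, Subtype.ext h2⟩
  surj01 := by
    intro v
    obtain ⟨u, hu, u', hu', h⟩ := S.dec C v
    exact ⟨⟨u, hu⟩, ⟨u', hu'⟩, h⟩
  q_e := fun i u => S.q_ee C hN hq i u
  act_ex := fun c => S.exists_perm C hN hq hZ ⟨p.lz.act c, ⟨c, rfl⟩⟩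
  th_ex := by
    obtain ⟨c, hc⟩ := d.2
    refine ⟨c, cyc, by decide, by decide, fun i u => ?_⟩
    rw [hc]
    exact S.d_ee C i u
  nt := ⟨⟨p.va, S.a_mem C⟩, fun h => C.a_ne (congrArg Subtype.val h)⟩

end Cfsg.Agent.Omega.EH3.RowS

end

-- merged: Cfsg.Agent.Mrg.Omega.EH3.RowS.Top
section

/-!
# EH3, row S: `⟨A, M₀⟩ = G` (helper754)

* `tri` : `Main.STriple → Tri`;
* `not_far` : in the `S₃`-case there is no `Far` pair (row `D_n` of LEMMA CC, helper165);
* `top_of_lev` : `A ⊔ M₀ = ⊤` (`hB` = Bender, `EH3.Top.eq_top`).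
-/

set_option autoImplicit false

namespace Cfsg.Agent.Omega.EH3.RowS.Top

open Cfsg Subgroup Cfsg.Agent.Co2Type.Quad Cfsg.Agent.LargeExtra Cfsg.Agent.LargeExtra.Base

universe u

theorem tri {H V : Type u} [Group H] [AddCommGroup V] [Module (ZMod 2) V] {ρ : H →* (V ≃ₗ[ZMod 2] V)}
    {X L : Subgroup H} {d t : H} (h : Main.STriple ρ X L d t) : Tri ρ X L d t :=
  ⟨h.t_mem, h.t_sq, h.d_ord, h.conj, h.t_cent, h.d_cent, h.d_fix, h.d_norm⟩

variable {G : Type u} [Group G] [Finite G] {Q A : Subgroup G} {z a : G} {w : ℕ}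

/-- no `Far` pair -/
theorem not_far (S : Main.Sit Q A z a w) {L : Subgroup S.pair.H} (hN : L.Normal) (hq : IsQuasisimple L)
    (hZ : Odd (Nat.card (center L))) {d t : S.pair.H} (T : Main.STriple S.ρ S.X L d t) (g : G) :
    ¬ CCTop.Far Q z g := by
  intro hf
  refine All.DN.dn_conj (ten S.pair S.cfg (tri T) hN hq hZ) ((tri T).card_ge S.cfg hN hq hZ)
    (hf.two S.pair.lz) (g := 1) (k := g) (by group) (fun x hx => ?_) (fun x hx => ?_) rfl
    (fun x hx => ⟨x, hx, rfl⟩) (fun x hx => ?_)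
  · rwa [one_mul, inv_one, mul_one]
  · rwa [one_mul, inv_one, mul_one] at hx
  · have h1 := CCTop.mem_map_conj.1 hx
    have e : g⁻¹ * (g * x * g⁻¹) * g = x := by group
    rwa [e] at h1

/-- **`⟨A, M₀⟩ = G`** -/
theorem top_of_lev (S : Main.Sit Q A z a w) {L : Subgroup S.pair.H} (hN : L.Normal) (hq : IsQuasisimple L)
    (hZ : Odd (Nat.card (center L))) {d t : S.pair.H} (T : Main.STriple S.ρ S.X L d t)
    {Sg M0 : Subgroup G} (e : ThmID.Lev Q A z a Sg M0)
    (hB : ∀ H : Subgroup G, IsStronglyEmbedded H →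
      ∃ R : Subgroup G, Cfsg.Agent.StrongEmb.Split.IsSplit H R) : A ⊔ M0 = ⊤ :=
  Top.eq_top S e (not_far S hN hq hZ T) hB

end Cfsg.Agent.Omega.EH3.RowS.Top

end

-- merged: Cfsg.Agent.Mrg.Omega.EH3.Bender
section

/-!
# EH3: Bender's theorem in `Ctx` (helper754)
-/

set_option autoImplicit false

namespace Cfsg.Agent.Omega.EH3.Bender

open Cfsg
open Cfsg.Agent.Omega.Frame (Ctx)

universe u

/-- the input `hB` of `EH3.Top.eq_top` -/
theorem hB {G : Type u} [Group G] [Finite G] (hG : Ctx G) (H : Subgroup G) (hH : IsStronglyEmbedded H) :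
    ∃ R : Subgroup G, Cfsg.Agent.StrongEmb.Split.IsSplit H R := by
  have := hG.simple
  obtain ⟨R, hR, -⟩ := Cfsg.Agent.StrongEmb.Strong.exists_isSplit (by
    by_contra hcon
    push Not at hcon
    exact hG.nonComm ⟨⟨hcon⟩⟩) H hH
  exact ⟨R, hR⟩

end Cfsg.Agent.Omega.EH3.Bender

end

-- merged: Cfsg.Agent.Mrg.Omega.EH3.RowS.Assemble
section

/-!
# EH3: the `S₃`-case `Main.RowS` (helper888, helper754, helper73)
-/

set_option autoImplicit false

namespace Cfsg.Agent.Omega.EH3.RowS.Assemble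

open Cfsg
open Cfsg.Agent.Omega.Frame (Cls All)

universe u

/-- in the `S₃`-case `⟨A, M0⟩ = G` -/
theorem topS : Known.TopS.{u} :=
  fun _ _ _ _ _ _ _ _ S _ hN hq hZ _ _ T _ e => Top.top_of_lev S hN hq hZ T e (Bender.hB S.ctx)

/-- **The `S₃`-case** -/
theorem rowS (K : Cls.{u}) : Main.RowS K := Known.rowS_of_top topS K

/-- the `S₃`-case for all groups -/
theorem rowS_all : Main.RowS.{u} All := rowS All

end Cfsg.Agent.Omega.EH3.RowS.Assemble

end
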