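import Cfsg.Agent.Omega.EH3.Cfg
import Cfsg.Agent.Mrg.Omega.W5.NearTI
import Cfsg.Agent.Lib.ComponentSolvable
import Mathlib.LinearAlgebra.BilinearForm.Orthogonal
import Mathlib.LinearAlgebra.Dual.Lemmas
import Mathlib.Data.ZMod.Basic
import Mathlib.Tactic
import Mathlib.GroupTheory.Commutator.Basic

-- merged: Cfsg.Agent.Omega.EH3.RowS.Form
section

/-!
# EH3, the `S₃ × Ω_w(2)`-row: the quadratic form (helper888)

`SCfg ρ B a X w` : the finite group `H` acts faithfully and irreducibly on the symplectic space `(U, B)` of order `2^w`,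
`w ≥ 5`, over `ZMod 2`; `X ≤ H` is normal in the stabiliser of `a ≠ 0`, `[a^⊥, X] ≤ ⟨a⟩`, `X` induces on `a^⊥` all
transvections `u ↦ u + B(u, s) a` (`s ∈ a^⊥`), and `X` is faithful on `a^⊥`.

THEOREM (`SCfg.exists_form`). There is a quadratic form `f` on `U` with polar form `B`, invariant under `H`, whose
singular vectors `≠ 0` are the elements of `a^H`, and `H` contains all Siegel elements of `f`.
-/

set_option autoImplicit false

namespace Cfsg.Agent.Omega.EH3.RowS

/-- the symplectic configuration -/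
structure SCfg {H U : Type*} [Group H] [AddCommGroup U] [Module (ZMod 2) U]
    (ρ : H →* (U ≃ₗ[ZMod 2] U)) (B : LinearMap.BilinForm (ZMod 2) U)
    (a : U) (X : Subgroup H) (w : ℕ) : Prop where
  five : 5 ≤ w
  card_U : Nat.card U = 2 ^ w
  B_self : ∀ v, B v v = 0
  nondeg : ∀ v, (∀ u, B v u = 0) → v = 0
  B_inv : ∀ h u v, B (ρ h u) (ρ h v) = B u v
  irr : ∀ W : Submodule (ZMod 2) U, (∀ h, ∀ v ∈ W, ρ h v ∈ W) → W = ⊥ ∨ W = ⊤
  a_ne : a ≠ 0
  X_norm : ∀ h, ρ h a = a → ∀ x ∈ X, h * x * h⁻¹ ∈ X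
  X_a : ∀ x ∈ X, ρ x a = a
  X_perp : ∀ x ∈ X, ∀ u, B a u = 0 → ρ x u = u ∨ ρ x u = u + a
  X_all : ∀ s, B a s = 0 → ∃ x ∈ X, ∀ u, B a u = 0 → ρ x u = u + B u s • a
  X_semi : ∀ x ∈ X, (∀ u, B a u = 0 → ρ x u = u) → x = 1

/-- quadratic form with polar form `B` -/
def QF {U : Type*} [AddCommGroup U] [Module (ZMod 2) U] (B : LinearMap.BilinForm (ZMod 2) U)
    (f : U → ZMod 2) : Prop := ∀ u v, f (u + v) = f u + f v + B u v

/-- invariance under `X` -/
def Inv {H U : Type*} [Group H] [AddCommGroup U] [Module (ZMod 2) U]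
    (ρ : H →* (U ≃ₗ[ZMod 2] U)) (X : Subgroup H) (f : U → ZMod 2) : Prop :=
  ∀ x ∈ X, ∀ u, f (ρ x u) = f u

namespace SCfg

variable {H U : Type*} [Group H] [AddCommGroup U] [Module (ZMod 2) U]
  {ρ : H →* (U ≃ₗ[ZMod 2] U)} {B : LinearMap.BilinForm (ZMod 2) U}
  {a : U} {X : Subgroup H} {w : ℕ}

theorem finite_U (C : SCfg ρ B a X w) : Finite U :=
  Nat.finite_of_card_ne_zero (by rw [C.card_U]; positivity)

theorem add_self (_C : SCfg ρ B a X w) (v : U) : v + v = 0 := by
  have : v + v = (2 : ZMod 2) • v := by rw [two_smul]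
  rw [this, show (2 : ZMod 2) = 0 from rfl, zero_smul]

theorem add_add_self (C : SCfg ρ B a X w) (x y : U) : x + y + y = x := by
  rw [add_assoc, C.add_self, add_zero]

theorem add_eq_zero (C : SCfg ρ B a X w) {x y : U} : x + y = 0 ↔ x = y := by
  constructor
  · intro h
    have := C.add_add_self x y
    rw [h, zero_add] at this
    exact this.symm
  · rintro rfl; exact C.add_self x

theorem B_comm (C : SCfg ρ B a X w) (u v : U) : B u v = B v u := by
  have h := C.B_self (u + v)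
  rw [map_add, map_add, LinearMap.add_apply, LinearMap.add_apply, C.B_self, C.B_self, zero_add,
    add_zero] at h
  exact (CharTwo.add_eq_zero.1 h).symm

theorem ρ_mul (_C : SCfg ρ B a X w) (g h : H) (v : U) : ρ (g * h) v = ρ g (ρ h v) := by
  rw [map_mul]; rfl

theorem ρ_one (_C : SCfg ρ B a X w) (v : U) : ρ 1 v = v := by
  rw [map_one]; rfl

theorem ρ_inv_apply (C : SCfg ρ B a X w) (g : H) (v : U) : ρ g⁻¹ (ρ g v) = v := by
  rw [← C.ρ_mul, inv_mul_cancel, C.ρ_one]

theorem ρ_apply_inv (C : SCfg ρ B a X w) (g : H) (v : U) : ρ g (ρ g⁻¹ v) = v := by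
  rw [← C.ρ_mul, mul_inv_cancel, C.ρ_one]

/-- the conjugate configuration -/
theorem conj (C : SCfg ρ B a X w) (g : H) :
    SCfg ρ B (ρ g a) (X.map (MulAut.conj g).toMonoidHom) w where
  five := C.five
  card_U := C.card_U
  B_self := C.B_self
  nondeg := C.nondeg
  B_inv := C.B_inv
  irr := C.irr
  a_ne := fun h => C.a_ne (by
    have := C.ρ_inv_apply g a
    rw [h, map_zero] at this
    exact this.symm)
  X_norm := by
    rintro h hh _ ⟨x, hx, rfl⟩
    refine ⟨(g⁻¹ * h * g) * x * (g⁻¹ * h * g)⁻¹, C.X_norm _ ?_ x hx, ?_⟩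
    · rw [C.ρ_mul, C.ρ_mul, hh, C.ρ_inv_apply]
    · simp only [MulEquiv.coe_toMonoidHom, MulAut.conj_apply]; group
  X_a := by
    rintro _ ⟨x, hx, rfl⟩
    simp only [MulEquiv.coe_toMonoidHom, MulAut.conj_apply]
    rw [C.ρ_mul, C.ρ_mul, C.ρ_inv_apply, C.X_a x hx]
  X_perp := by
    rintro _ ⟨x, hx, rfl⟩ u hu
    simp only [MulEquiv.coe_toMonoidHom, MulAut.conj_apply]
    rw [C.ρ_mul, C.ρ_mul]
    have h1 : B a (ρ g⁻¹ u) = 0 := by
      rw [← C.B_inv g, C.ρ_apply_inv]; exact hu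
    rcases C.X_perp x hx _ h1 with h | h
    · left; rw [h, C.ρ_apply_inv]
    · right; rw [h, map_add, C.ρ_apply_inv]
  X_all := by
    intro s hs
    have h1 : B a (ρ g⁻¹ s) = 0 := by
      rw [← C.B_inv g, C.ρ_apply_inv]; exact hs
    obtain ⟨x, hx, h⟩ := C.X_all _ h1
    refine ⟨_, ⟨x, hx, rfl⟩, fun u hu => ?_⟩
    simp only [MulEquiv.coe_toMonoidHom, MulAut.conj_apply]
    rw [C.ρ_mul, C.ρ_mul, h _ (by rw [← C.B_inv g, C.ρ_apply_inv]; exact hu), map_add, map_smul,
      C.ρ_apply_inv, C.B_inv]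
  X_semi := by
    rintro _ ⟨x, hx, rfl⟩ h
    simp only [MulEquiv.coe_toMonoidHom, MulAut.conj_apply] at h ⊢
    have h1 : x = 1 := C.X_semi x hx (fun u hu => by
      have h2 := h (ρ g u) (by rw [C.B_inv]; exact hu)
      rw [C.ρ_mul, C.ρ_mul, C.ρ_inv_apply] at h2
      exact (ρ g).injective h2)
    rw [h1]; group

/-- a vector off `e^⊥` -/
theorem exists_off (C : SCfg ρ B a X w) {e : U} (he : e ≠ 0) : ∃ c, B e c = 1 := by
  by_contra hcon
  push Not at hcon
  apply he
  apply C.nondeg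
  intro u
  rcases zmod_two (B e u) with h | h
  · exact h
  · exact absurd h (hcon u)

theorem eq_of_perp (C : SCfg ρ B a X w) {e d : U} (h : ∀ v, B e v = 0 → B d v = 0) :
    d = 0 ∨ d = e := by
  by_contra hne
  push Not at hne
  obtain ⟨h0, ha⟩ := hne
  obtain ⟨u, hu⟩ := C.exists_off h0
  have haw : B e u = 1 := zmod_two_ne fun h1 => by
    have := h u h1
    rw [hu] at this
    exact one_ne_zero this
  apply ha
  have key : d + e = 0 := by
    apply C.nondeg
    intro v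
    rw [map_add, LinearMap.add_apply]
    rcases zmod_two (B e v) with h1 | h1
    · rw [h v h1, h1, add_zero]
    · have h2 : B e (v + u) = 0 := by
        rw [map_add, h1, haw]; decide
      have h3 := h _ h2
      rw [map_add, hu] at h3
      have h4 : B d v = 1 := by
        have : ∀ x : ZMod 2, x + 1 = 0 → x = 1 := by decide
        exact this _ h3
      rw [h4, h1]; decide
  exact C.add_eq_zero.1 key

theorem exists_sep (C : SCfg ρ B a X w) {e d : U} (h0 : d ≠ 0) (h1 : d ≠ e) :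
    ∃ v, B e v = 0 ∧ B d v = 1 := by
  by_contra hcon
  push Not at hcon
  rcases C.eq_of_perp (e := e) (d := d) (fun v hv => by
    rcases zmod_two (B d v) with h | h
    · exact h
    · exact absurd h (hcon v hv)) with h | h
  · exact h0 h
  · exact h1 h

/-- three functionals have a common zero different from `0` and a given vector -/
theorem exists_ker (C : SCfg ρ B a X w) (l₁ l₂ l₃ : U →ₗ[ZMod 2] ZMod 2) (k : U) :
    ∃ u, u ≠ 0 ∧ u ≠ k ∧ l₁ u = 0 ∧ l₂ u = 0 ∧ l₃ u = 0 := by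
  classical
  have := C.finite_U
  let L : U →ₗ[ZMod 2] (ZMod 2 × ZMod 2 × ZMod 2) := l₁.prod (l₂.prod l₃)
  have h1 : Nat.card U = Nat.card (LinearMap.ker L) * Nat.card (LinearMap.range L) := by
    have h2 := (LinearMap.quotKerEquivRange L).toEquiv
    rw [← Nat.card_congr h2]
    exact Submodule.card_eq_card_quotient_mul_card (LinearMap.ker L)
  have h2 : Nat.card (LinearMap.range L) ≤ 8 := by
    have := Nat.card_le_card_of_injective (fun x : LinearMap.range L => (x : ZMod 2 × ZMod 2 × ZMod 2))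
      Subtype.val_injective
    rw [Nat.card_prod, Nat.card_prod, Nat.card_zmod] at this
    exact this
  have h3 : 4 ≤ Nat.card (LinearMap.ker L) := by
    by_contra hlt
    push Not at hlt
    have h4 : Nat.card U < 4 * 8 := by
      rw [h1]
      calc Nat.card (LinearMap.ker L) * Nat.card (LinearMap.range L)
          ≤ 3 * 8 := Nat.mul_le_mul (by omega) h2
        _ < 4 * 8 := by norm_num
    rw [C.card_U] at h4
    have h5 : 2 ^ 5 ≤ 2 ^ w := Nat.pow_le_pow_right (by norm_num) C.five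
    omega
  by_contra hcon
  push Not at hcon
  have h4 : ((LinearMap.ker L : Submodule (ZMod 2) U) : Set U) ⊆ {0, k} := by
    intro u hu
    have hu' : L u = 0 := hu
    have e1 : l₁ u = 0 := congrArg Prod.fst hu'
    have e2 : l₂ u = 0 := congrArg (fun p => p.2.1) hu'
    have e3 : l₃ u = 0 := congrArg (fun p => p.2.2) hu'
    by_cases hu0 : u = 0
    · left; exact hu0
    · right
      by_contra hk
      exact hcon u hu0 hk e1 e2 e3
  have h5 := Set.ncard_le_ncard h4 (Set.toFinite _)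
  have h6 : ({0, k} : Set U).ncard ≤ 2 := Set.ncard_insert_le _ _ |>.trans (by
    rw [Set.ncard_singleton])
  have h7 : ((LinearMap.ker L : Submodule (ZMod 2) U) : Set U).ncard = Nat.card (LinearMap.ker L) := rfl
  omega

/-! ### the form of an element of `X` -/

theorem B_a_ρ (C : SCfg ρ B a X w) {g : H} (hg : ρ g a = a) (v : U) : B a (ρ g v) = B a v := by
  nth_rewrite 1 [← hg]
  exact C.B_inv g a v

/-- `ρ x u = u + B(u, [c, x]) a` on `a^⊥` -/
theorem X_form (C : SCfg ρ B a X w) {c : U} (hc : B a c = 1) {x : H} (hx : x ∈ X) {u : U}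
    (hu : B a u = 0) : ρ x u = u + B u (ρ x c + c) • a := by
  have h1 := C.B_inv x u c
  have hxa := C.X_a x hx
  have h2 : B a (ρ x c) = 1 := by rw [C.B_a_ρ hxa, hc]
  rcases C.X_perp x hx u hu with h | h
  · rw [h] at h1
    rw [h, map_add, h1, CharTwo.add_self_eq_zero, zero_smul, add_zero]
  · rw [h, map_add, LinearMap.add_apply, h2] at h1
    have h3 : B u (ρ x c + c) = 1 := by
      rw [map_add, ← h1]
      generalize B u (ρ x c) = k
      revert k; decide
    rw [h, h3, one_smul]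

/-- `[c, x] = s + k a` if `x` acts on `a^⊥` through `s` -/
theorem X_off (C : SCfg ρ B a X w) {c : U} (hc : B a c = 1) {x : H} (hx : x ∈ X) {s : U}
    (h : ∀ u, B a u = 0 → ρ x u = u + B u s • a) : ∃ k : ZMod 2, ρ x c = c + s + k • a := by
  have h1 : ∀ u, B a u = 0 → B (ρ x c + c + s) u = 0 := by
    intro u hu
    have h2 := h u hu
    rw [C.X_form hc hx hu] at h2
    have h3 : B u (ρ x c + c) • a = B u s • a := add_left_cancel h2
    have h4 : B u (ρ x c + c) = B u s := by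
      rcases zmod_two (B u (ρ x c + c)) with e1 | e1 <;> rcases zmod_two (B u s) with e2 | e2
      · rw [e1, e2]
      · rw [e1, e2, zero_smul, one_smul] at h3; exact absurd h3.symm C.a_ne
      · rw [e1, e2, zero_smul, one_smul] at h3; exact absurd h3 C.a_ne
      · rw [e1, e2]
    rw [C.B_comm, map_add, h4, CharTwo.add_self_eq_zero]
  rcases C.eq_of_perp h1 with h2 | h2
  · refine ⟨0, ?_⟩
    have : ρ x c = ρ x c + c + s + (c + s) := by
      have : ρ x c + c + s + (c + s) = ρ x c + ((c + c) + (s + s)) := by abel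
      rw [this, C.add_self, C.add_self, add_zero, add_zero]
    rw [this, h2, zero_smul, add_zero, zero_add]
  · refine ⟨1, ?_⟩
    have : ρ x c = ρ x c + c + s + (c + s) := by
      have : ρ x c + c + s + (c + s) = ρ x c + ((c + c) + (s + s)) := by abel
      rw [this, C.add_self, C.add_self, add_zero, add_zero]
    rw [this, h2, one_smul]
    abel

/-- uniqueness: elements of `X` with the same action on `a^⊥` are equal -/
theorem X_uniq (C : SCfg ρ B a X w) {x y : H} (hx : x ∈ X) (hy : y ∈ X)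
    (h : ∀ u, B a u = 0 → ρ x u = ρ y u) : x = y := by
  have h1 : y⁻¹ * x = 1 := C.X_semi _ (X.mul_mem (X.inv_mem hy) hx) (fun u hu => by
    rw [C.ρ_mul, h u hu, C.ρ_inv_apply])
  exact (inv_mul_eq_one.1 h1).symm

/-! ### existence of an invariant form -/

open Classical in
/-- the element of `X` belonging to `s` -/
noncomputable def xi (C : SCfg ρ B a X w) (s : U) : H :=
  if h : B a s = 0 then (C.X_all s h).choose else 1

theorem xi_mem (C : SCfg ρ B a X w) (s : U) : C.xi s ∈ X := by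
  unfold xi
  split_ifs with h
  · exact (C.X_all s h).choose_spec.1
  · exact X.one_mem

theorem xi_spec (C : SCfg ρ B a X w) {s : U} (hs : B a s = 0) {u : U} (hu : B a u = 0) :
    ρ (C.xi s) u = u + B u s • a := by
  unfold xi
  rw [dif_pos hs]
  exact (C.X_all s hs).choose_spec.2 u hu

theorem xi_add (C : SCfg ρ B a X w) {s t : U} (hs : B a s = 0) (ht : B a t = 0) :
    C.xi (s + t) = C.xi s * C.xi t := by
  apply C.X_uniq (C.xi_mem _) (X.mul_mem (C.xi_mem _) (C.xi_mem _))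
  intro u hu
  have hst : B a (s + t) = 0 := by rw [map_add, hs, ht, add_zero]
  rw [C.xi_spec hst hu, C.ρ_mul, C.xi_spec ht hu, map_add (ρ (C.xi s)), map_smul,
    C.xi_spec hs hu, C.X_a _ (C.xi_mem _), map_add (B u), add_smul]
  abel

theorem xi_a (C : SCfg ρ B a X w) : C.xi a = 1 := by
  apply C.X_semi _ (C.xi_mem _)
  intro u hu
  rw [C.xi_spec (C.B_self a) hu, C.B_comm, hu, zero_smul, add_zero]

/-- `φ(s) = B(c, xi(s) c)` -/
noncomputable def ph (C : SCfg ρ B a X w) (c s : U) : ZMod 2 := B c (ρ (C.xi s) c)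

theorem ph_add (C : SCfg ρ B a X w) {c : U} (hc : B a c = 1) {s t : U} (hs : B a s = 0)
    (ht : B a t = 0) : C.ph c (s + t) = C.ph c s + C.ph c t + B s t := by
  unfold ph
  rw [C.xi_add hs ht, C.ρ_mul]
  obtain ⟨k, hk⟩ := C.X_off hc (C.xi_mem s) (fun u hu => C.xi_spec hs hu)
  obtain ⟨l, hl⟩ := C.X_off hc (C.xi_mem t) (fun u hu => C.xi_spec ht hu)
  have hca : B c a = 1 := by rw [C.B_comm]; exact hc
  have h1 : B t s = B s t := C.B_comm t s
  rw [hl, map_add (ρ (C.xi s)), map_add (ρ (C.xi s)), map_smul (ρ (C.xi s)),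
    C.X_a _ (C.xi_mem s), hk, C.xi_spec hs ht]
  simp only [map_add, map_smul, C.B_self, hca, h1, smul_eq_mul, mul_one]
  ring

theorem ph_a (C : SCfg ρ B a X w) (c : U) : C.ph c a = 0 := by
  unfold ph
  rw [C.xi_a, C.ρ_one, C.B_self]

theorem mem_xi (C : SCfg ρ B a X w) {x : H} (hx : x ∈ X) {c : U} (hc : B a c = 1) :
    B a (ρ x c + c) = 0 ∧ x = C.xi (ρ x c + c) := by
  have h0 : B a (ρ x c + c) = 0 := by
    rw [map_add, C.B_a_ρ (C.X_a x hx), CharTwo.add_self_eq_zero]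
  refine ⟨h0, C.X_uniq hx (C.xi_mem _) fun u hu => ?_⟩
  rw [C.xi_spec h0 hu, C.X_form hc hx hu]

/-- `f` is invariant if it is on `a^⊥` and on `c` -/
theorem inv_of (C : SCfg ρ B a X w) {f : U → ZMod 2} (hf : QF B f) {c : U} (hc : B a c = 1)
    {x : H} (h1 : ∀ u, B a u = 0 → f (ρ x u) = f u) (h2 : f (ρ x c) = f c) (u : U) :
    f (ρ x u) = f u := by
  rcases zmod_two (B a u) with h | h
  · exact h1 u h
  · have h3 : B a (u + c) = 0 := by rw [map_add, h, hc]; decide
    have e : u = (u + c) + c := by rw [add_assoc, C.add_self, add_zero]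
    rw [e, map_add, hf, hf, h1 _ h3, h2, C.B_inv]

theorem qf_zero (_C : SCfg ρ B a X w) {f : U → ZMod 2} (hf : QF B f) : f 0 = 0 := by
  have h := hf 0 0
  rw [add_zero, map_zero, add_zero] at h
  generalize f 0 = k at h
  revert k; decide

theorem qf_smul (C : SCfg ρ B a X w) {f : U → ZMod 2} (hf : QF B f) (k : ZMod 2) (u : U) :
    f (k • u) = k * f u := by
  rcases zmod_two k with h | h
  · rw [h, zero_smul, zero_mul, C.qf_zero hf]
  · rw [h, one_smul, one_mul]

/-- **existence** -/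
theorem exists_inv (C : SCfg ρ B a X w) {c : U} (hc : B a c = 1) :
    ∃ f : U → ZMod 2, QF B f ∧ Inv ρ X f ∧ f a = 0 ∧ f c = 0 := by
  have hca : B c a = 1 := by rw [C.B_comm]; exact hc
  have hoff : ∀ u, B a (u + B a u • c) = 0 := by
    intro u
    rw [map_add, map_smul, hc, smul_eq_mul, mul_one, CharTwo.add_self_eq_zero]
  have hph0 : C.ph c 0 = 0 := by
    have h := C.ph_add hc (s := 0) (t := 0) (map_zero _) (map_zero _)
    rw [add_zero, map_zero, add_zero] at h
    generalize C.ph c 0 = k at h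
    revert k; decide
  let f : U → ZMod 2 := fun u => C.ph c (u + B a u • c) + B a u * B c u
  have hf : QF B f := by
    intro u v
    show C.ph c (u + v + B a (u + v) • c) + B a (u + v) * B c (u + v) =
      (C.ph c (u + B a u • c) + B a u * B c u) + (C.ph c (v + B a v • c) + B a v * B c v) + B u v
    have e : u + v + B a (u + v) • c = (u + B a u • c) + (v + B a v • c) := by
      rw [map_add, add_smul]; abel
    rw [e, C.ph_add hc (hoff u) (hoff v)]
    have e2 : B (u + B a u • c) (v + B a v • c) = B u v + B a v * B c u + B a u * B c v := by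
      simp only [map_add, LinearMap.add_apply, map_smul, LinearMap.smul_apply, C.B_self,
        smul_eq_mul, mul_zero, add_zero]
      rw [C.B_comm u c]
      ring
    rw [e2, map_add, map_add]
    generalize C.ph c (u + B a u • c) = α
    generalize C.ph c (v + B a v • c) = β
    generalize B u v = γ
    generalize B a u = p
    generalize B a v = r
    generalize B c u = s
    generalize B c v = t
    revert α β γ p r s t; decide
  have hfa : f a = 0 := by
    show C.ph c (a + B a a • c) + B a a * B c a = 0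
    rw [C.B_self, zero_smul, add_zero, zero_mul, add_zero, C.ph_a]
  have hfp : ∀ s, B a s = 0 → f s = C.ph c s := by
    intro s hs
    show C.ph c (s + B a s • c) + B a s * B c s = _
    rw [hs, zero_smul, add_zero, zero_mul, add_zero]
  refine ⟨f, hf, ?_, hfa, ?_⟩
  · intro x hx
    obtain ⟨h0, h1⟩ := C.mem_xi hx hc
    refine C.inv_of hf hc (fun u hu => ?_) ?_
    · rw [C.X_form hc hx hu, hf, C.qf_smul hf, hfa, map_smul, C.B_comm u a, hu, smul_zero,
        mul_zero, add_zero, add_zero]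
    · have e : ρ x c = c + (ρ x c + c) := by
        rw [add_comm c, C.add_add_self]
      have h2 : f (ρ x c + c) = B c (ρ x c + c) := by
        rw [hfp _ h0, ph, ← h1, map_add, C.B_self, add_zero]
      rw [e, hf, h2, add_assoc, CharTwo.add_self_eq_zero, add_zero]
  · show C.ph c (c + B a c • c) + B a c * B c c = 0
    rw [hc, one_smul, C.add_self, C.B_self, mul_zero, add_zero, hph0]

/-! ### properties of invariant forms -/

/-- `f a = 0` -/
theorem f_a (C : SCfg ρ B a X w) {f : U → ZMod 2} (hf : QF B f) (hi : Inv ρ X f) : f a = 0 := by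
  obtain ⟨c, hc⟩ := C.exists_off C.a_ne
  obtain ⟨s, hs0, hsa, hs, -, -⟩ := C.exists_ker (B a) (B a) (B a) a
  obtain ⟨u, hu, hsu⟩ := C.exists_sep hs0 hsa
  obtain ⟨x, hx, h⟩ := C.X_all s hs
  have h1 := hi x hx u
  rw [h u hu, C.B_comm, hsu, one_smul, hf, C.B_comm u a, hu, add_zero] at h1
  exact left_eq_add.1 h1.symm

/-- **the Siegel elements at `a`** -/
theorem siegel (C : SCfg ρ B a X w) {f : U → ZMod 2} (hf : QF B f) (hi : Inv ρ X f) {s : U}
    (hs : B a s = 0) : ∃ x ∈ X, (∀ u, B a u = 0 → ρ x u = u + B u s • a) ∧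
      ∀ v, ρ x v = v + B v s • a + B v a • s + (f s * B v a) • a := by
  obtain ⟨x, hx, h⟩ := C.X_all s hs
  refine ⟨x, hx, h, ?_⟩
  have hoff : ∀ c, B a c = 1 → ρ x c = c + s + (f s + B c s) • a := by
    intro c hc
    have hca : B c a = 1 := by rw [C.B_comm]; exact hc
    obtain ⟨k, hk⟩ := C.X_off hc hx h
    have h1 := hi x hx c
    have h2 : k = f s + B c s := by
      rw [hk, hf, hf, C.qf_smul hf, C.f_a hf hi] at h1
      simp only [map_smul, map_add, LinearMap.add_apply, hca, C.B_comm s a, hs, smul_eq_mul, mul_zero,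
        add_zero, mul_one] at h1
      generalize f c = p at h1
      generalize f s = r at h1 ⊢
      generalize B c s = t at h1 ⊢
      clear hk
      revert p r t k; decide
    rw [hk, h2]
  intro v
  rcases zmod_two (B a v) with hv | hv
  · rw [h v hv, C.B_comm v a, hv, zero_smul, mul_zero, zero_smul, add_zero, add_zero]
  · rw [hoff v hv, C.B_comm v a, hv, one_smul, mul_one, add_smul]
    abel

/-- elements of `X` are Siegel elements -/
theorem siegel_of_mem (C : SCfg ρ B a X w) {f : U → ZMod 2} (hf : QF B f) (hi : Inv ρ X f)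
    {x : H} (hx : x ∈ X) : ∃ s, B a s = 0 ∧
      ∀ v, ρ x v = v + B v s • a + B v a • s + (f s * B v a) • a := by
  obtain ⟨c, hc⟩ := C.exists_off C.a_ne
  obtain ⟨h0, -⟩ := C.mem_xi hx hc
  obtain ⟨y, hy, h1, h2⟩ := C.siegel hf hi h0
  have h3 : x = y := C.X_uniq hx hy fun u hu => by rw [C.X_form hc hx hu, h1 u hu]
  refine ⟨_, h0, ?_⟩
  rw [h3]; rw [h3] at h2; exact h2

/-- two invariant forms agree on `a^⊥` -/
theorem agree (C : SCfg ρ B a X w) {f g : U → ZMod 2} (hf : QF B f) (hi : Inv ρ X f)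
    (hg : QF B g) (hj : Inv ρ X g) {s : U} (hs : B a s = 0) : f s = g s := by
  obtain ⟨c, hc⟩ := C.exists_off C.a_ne
  have hca : B c a = 1 := by rw [C.B_comm]; exact hc
  obtain ⟨x, hx, h1, h2⟩ := C.siegel hf hi hs
  obtain ⟨y, hy, h3, h4⟩ := C.siegel hg hj hs
  have h5 : x = y := C.X_uniq hx hy fun u hu => by rw [h1 u hu, h3 u hu]
  have h6 := h2 c
  rw [h5, h4 c, hca, mul_one, mul_one] at h6
  have h7 := add_left_cancel h6
  rcases zmod_two (f s) with e1 | e1 <;> rcases zmod_two (g s) with e2 | e2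
  · rw [e1, e2]
  · rw [e1, e2, zero_smul, one_smul] at h7; exact absurd h7 C.a_ne
  · rw [e1, e2, zero_smul, one_smul] at h7; exact absurd h7.symm C.a_ne
  · rw [e1, e2]

/-- two invariant forms: equal, or `g = f + B(a, ·)` -/
theorem agree_off (C : SCfg ρ B a X w) {f g : U → ZMod 2} (hf : QF B f) (hi : Inv ρ X f)
    (hg : QF B g) (hj : Inv ρ X g) {c : U} (hc : B a c = 1) (u : U) :
    g u = f u + B a u * (f c + g c) := by
  rcases zmod_two (B a u) with h | h
  · rw [C.agree hf hi hg hj h, h, zero_mul, add_zero]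
  · have h3 : B a (u + c) = 0 := by rw [map_add, h, hc]; decide
    have h1 := C.agree hf hi hg hj h3
    rw [hf, hg] at h1
    rw [h, one_mul]
    generalize f u = p at h1 ⊢
    generalize f c = r at h1 ⊢
    generalize g u = p' at h1 ⊢
    generalize g c = r' at h1 ⊢
    generalize B u c = k at h1
    revert p r p' r' k; decide

/-- `f` is invariant on `a^⊥` under the stabiliser of `a` -/
theorem stab_inv (C : SCfg ρ B a X w) {f : U → ZMod 2} (hf : QF B f) (hi : Inv ρ X f)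
    {g : H} (hg : ρ g a = a) {s : U} (hs : B a s = 0) : f (ρ g s) = f s := by
  have h1 : QF B (fun u => f (ρ g u)) := by
    intro u v
    show f (ρ g (u + v)) = f (ρ g u) + f (ρ g v) + B u v
    rw [map_add, hf, C.B_inv]
  have h2 : Inv ρ X (fun u => f (ρ g u)) := by
    intro x hx u
    show f (ρ g (ρ x u)) = f (ρ g u)
    have h3 := hi _ (C.X_norm g hg x hx) (ρ g u)
    rw [← C.ρ_mul, show g * x * g⁻¹ * g = g * x by group, C.ρ_mul] at h3
    exact h3
  exact C.agree h1 h2 hf hi hs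

/-! ### the main lemma -/

/-- the element `z (y z)²` -/
theorem tau_tau {Y : Subgroup H} (C : SCfg ρ B a X w) {c : U} (C' : SCfg ρ B c Y w)
    (hc : B a c = 1) {f g : U → ZMod 2} (hf : QF B f) (hi : Inv ρ X f) (hg : QF B g)
    (hj : Inv ρ Y g) {s : U} (has : B a s = 0) (hcs : B c s = 0) (hfs : f s = 0) (hgs : g s = 1) :
    ∃ h : H, ∀ v, ρ h v = v + B v s • s + B v c • c := by
  obtain ⟨y, -, -, hy⟩ := C.siegel hf hi has
  obtain ⟨z, -, -, hz⟩ := C'.siegel hg hj hcs
  have hca : B c a = 1 := by rw [C.B_comm]; exact hc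
  have hsa : B s a = 0 := by rw [C.B_comm]; exact has
  have hsc : B s c = 0 := by rw [C.B_comm]; exact hcs
  -- `y`, `z` on `v + α a + β s + γ c`
  have hy' : ∀ (v : U) (α β γ : ZMod 2), ρ y (v + α • a + β • s + γ • c) =
      v + (α + B v s) • a + (β + B v a + γ) • s + γ • c := by
    intro v α β γ
    rw [hy]
    simp only [map_add, LinearMap.add_apply, map_smul, LinearMap.smul_apply, C.B_self, hca, has,
      hcs, hsa, smul_eq_mul, mul_zero, add_zero, mul_one, hfs, zero_mul, zero_smul]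
    module
  have hz' : ∀ (v : U) (α β γ : ZMod 2), ρ z (v + α • a + β • s + γ • c) =
      v + α • a + (β + B v c + α) • s + (γ + B v s + B v c + α) • c := by
    intro v α β γ
    rw [hz]
    simp only [map_add, LinearMap.add_apply, map_smul, LinearMap.smul_apply, C.B_self, hc, has,
      hcs, hsc, smul_eq_mul, mul_zero, add_zero, mul_one, hgs, one_mul]
    module
  refine ⟨z * (y * (z * (y * z))), fun v => ?_⟩
  have e0 : v = v + (0 : ZMod 2) • a + (0 : ZMod 2) • s + (0 : ZMod 2) • c := by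
    simp only [zero_smul, add_zero]
  rw [C.ρ_mul, C.ρ_mul, C.ρ_mul, C.ρ_mul]
  nth_rewrite 1 [e0]
  rw [hz', hy', hz', hy', hz']
  have e1 : (0 : ZMod 2) + B v s + B v s = 0 := by
    generalize B v s = p; revert p; decide
  have e2 : (0 : ZMod 2) + B v c + 0 + B v a + (0 + B v s + B v c + 0) + B v c + (0 + B v s) +
      B v a + (0 + B v s + B v c + 0 + B v s + B v c + (0 + B v s)) + B v c + (0 + B v s + B v s) =
      B v s := by
    generalize B v s = p; generalize B v c = r; generalize B v a = t; revert p r t; decide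
  have e3 : (0 : ZMod 2) + B v s + B v c + 0 + B v s + B v c + (0 + B v s) + B v s + B v c +
      (0 + B v s + B v s) = B v c := by
    generalize B v s = p; generalize B v c = r; revert p r; decide
  rw [e2, e3, e1, zero_smul, add_zero]

/-- two elements `s₁ ≠ s₂` of the same kind: contradiction -/
theorem no_two {Y : Subgroup H} (C : SCfg ρ B a X w) {c : U} (C' : SCfg ρ B c Y w)
    (hc : B a c = 1) {f g : U → ZMod 2} (hf : QF B f) (hi : Inv ρ X f) (hg : QF B g)
    (hj : Inv ρ Y g) {s t : U} (has : B a s = 0) (hcs : B c s = 0) (hfs : f s = 0) (hgs : g s = 1)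
    (hat : B a t = 0) (hct : B c t = 0) (hft : f t = 0) (hgt : g t = 1) : s = t := by
  by_contra hst
  obtain ⟨h₁, e₁⟩ := C.tau_tau C' hc hf hi hg hj has hcs hfs hgs
  obtain ⟨h₂, e₂⟩ := C.tau_tau C' hc hf hi hg hj hat hct hft hgt
  have hca : B c a = 1 := by rw [C.B_comm]; exact hc
  have hs0 : s ≠ 0 := by
    rintro rfl
    rw [C.qf_zero hg] at hgs
    exact zero_ne_one hgs
  -- `r ∈ ⟨a, c⟩^⊥` with `B(r, s) = 1`, `B(r, t) = 0`
  obtain ⟨r, hrt, hrs⟩ := C.exists_sep (e := t) (d := s) hs0 hst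
  let r' : U := r + B c r • a + B a r • c
  have ha' : B a r' = 0 := by
    show B a (r + B c r • a + B a r • c) = 0
    simp only [map_add, map_smul, C.B_self, hc, smul_eq_mul, mul_zero, add_zero, mul_one]
    exact CharTwo.add_self_eq_zero _
  have hc' : B c r' = 0 := by
    show B c (r + B c r • a + B a r • c) = 0
    simp only [map_add, map_smul, C.B_self, hca, smul_eq_mul, mul_zero, add_zero, mul_one]
    exact CharTwo.add_self_eq_zero _
  have hrs' : B r' s = 1 := by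
    show B (r + B c r • a + B a r • c) s = 1
    simp only [map_add, LinearMap.add_apply, map_smul, LinearMap.smul_apply, has, hcs, smul_eq_mul,
      mul_zero, add_zero]
    rw [C.B_comm]; exact hrs
  have hrt' : B r' t = 0 := by
    show B (r + B c r • a + B a r • c) t = 0
    simp only [map_add, LinearMap.add_apply, map_smul, LinearMap.smul_apply, hat, hct, smul_eq_mul,
      mul_zero, add_zero]
    rw [C.B_comm]; exact hrt
  have h1 : ρ (h₁ * h₂) a = a := by
    rw [C.ρ_mul, e₂, hat, zero_smul, add_zero, hc, one_smul, map_add, e₁ a, e₁ c, has, hcs, hc,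
      C.B_self, zero_smul, zero_smul, one_smul, add_zero, add_zero, add_zero, C.add_add_self]
  have h2 : ρ (h₁ * h₂) r' = r' + s := by
    rw [C.ρ_mul, e₂, hrt', zero_smul, add_zero, C.B_comm r' c, hc', zero_smul, add_zero, e₁, hrs',
      one_smul, C.B_comm r' c, hc', zero_smul, add_zero]
  have h3 := C.stab_inv hf hi h1 ha'
  rw [h2, hf, hfs, hrs', add_zero] at h3
  exact one_ne_zero (add_eq_left.1 h3)

/-- **MAIN LEMMA** -/
theorem main {Y : Subgroup H} (C : SCfg ρ B a X w) {c : U} (C' : SCfg ρ B c Y w)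
    (hc : B a c = 1) {f g : U → ZMod 2} (hf : QF B f) (hi : Inv ρ X f) (hfc : f c = 0) (hg : QF B g)
    (hj : Inv ρ Y g) (hga : g a = 0) (u : U) : f u = g u := by
  have hca : B c a = 1 := by rw [C.B_comm]; exact hc
  have hfa := C.f_a hf hi
  have hgc := C'.f_a hg hj
  let L : U →ₗ[ZMod 2] ZMod 2 :=
    { toFun := fun v => f v + g v
      map_add' := by
        intro x y
        rw [hf, hg]
        generalize f x = p; generalize f y = r; generalize g x = p'; generalize g y = r'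
        generalize B x y = k
        revert p r p' r' k; decide
      map_smul' := by
        intro k x
        rw [C.qf_smul hf, C.qf_smul hg, RingHom.id_apply, smul_eq_mul]; ring }
  have hL : ∀ v, L v = f v + g v := fun _ => rfl
  by_contra hne
  -- `s₀`
  have hLu : L u = 1 := by
    rw [hL]
    revert hne
    generalize f u = p; generalize g u = r
    revert p r; decide
  let s : U := u + B c u • a + B a u • c
  have ha' : B a s = 0 := by
    show B a (u + B c u • a + B a u • c) = 0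
    simp only [map_add, map_smul, C.B_self, hc, smul_eq_mul, mul_zero, add_zero, mul_one]
    exact CharTwo.add_self_eq_zero _
  have hc' : B c s = 0 := by
    show B c (u + B c u • a + B a u • c) = 0
    simp only [map_add, map_smul, C.B_self, hca, smul_eq_mul, mul_zero, add_zero, mul_one]
    exact CharTwo.add_self_eq_zero _
  have hLs : L s = 1 := by
    show L (u + B c u • a + B a u • c) = 1
    rw [map_add, map_add, map_smul, map_smul, hL a, hL c, hfa, hfc, hga, hgc, hLu]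
    simp
  obtain ⟨k, hk0, -, hka, hkc, hkL⟩ := C.exists_ker (B a) (B c) L 0
  obtain ⟨l, hl0, hlk, hla, hlc, hlL⟩ := C.exists_ker (B a) (B c) L k
  have key : ∀ s t, B a s = 0 → B c s = 0 → B a t = 0 → B c t = 0 → L s = 1 → L t = 1 →
      f s = f t → s = t := by
    intro s t h1 h2 h3 h4 h5 h6 h7
    rw [hL] at h5 h6
    rcases zmod_two (f s) with h | h
    · have e1 : g s = 1 := by rw [h, zero_add] at h5; exact h5
      have e2 : g t = 1 := by rw [← h7, h, zero_add] at h6; exact h6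
      exact C.no_two C' hc hf hi hg hj h1 h2 h e1 h3 h4 (h7 ▸ h) e2
    · have e1 : g s = 0 := by
        rw [h] at h5
        generalize g s = p at h5; revert p; decide
      have e2 : g t = 0 := by
        rw [← h7, h] at h6
        generalize g t = p at h6; revert p; decide
      exact C'.no_two C hca hg hj hf hi h2 h1 e1 h h4 h3 e2 (h7 ▸ h)
  have hsk : s ≠ s + k := fun h => hk0 (left_eq_add.1 h)
  have hsl : s ≠ s + l := fun h => hl0 (left_eq_add.1 h)
  have hkl : s + k ≠ s + l := fun h => hlk (add_left_cancel h).symm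
  have b1 : B a (s + k) = 0 := by rw [map_add, ha', hka, add_zero]
  have b2 : B c (s + k) = 0 := by rw [map_add, hc', hkc, add_zero]
  have b3 : B a (s + l) = 0 := by rw [map_add, ha', hla, add_zero]
  have b4 : B c (s + l) = 0 := by rw [map_add, hc', hlc, add_zero]
  have b5 : L (s + k) = 1 := by rw [map_add, hLs, hkL, add_zero]
  have b6 : L (s + l) = 1 := by rw [map_add, hLs, hlL, add_zero]
  rcases zmod_two (f s) with h1 | h1 <;> rcases zmod_two (f (s + k)) with h2 | h2 <;>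
    rcases zmod_two (f (s + l)) with h3 | h3
  · exact hsk (key _ _ ha' hc' b1 b2 hLs b5 (h1.trans h2.symm))
  · exact hsk (key _ _ ha' hc' b1 b2 hLs b5 (h1.trans h2.symm))
  · exact hsl (key _ _ ha' hc' b3 b4 hLs b6 (h1.trans h3.symm))
  · exact hkl (key _ _ b1 b2 b3 b4 b5 b6 (h2.trans h3.symm))
  · exact hkl (key _ _ b1 b2 b3 b4 b5 b6 (h2.trans h3.symm))
  · exact hsl (key _ _ ha' hc' b3 b4 hLs b6 (h1.trans h3.symm))
  · exact hsk (key _ _ ha' hc' b1 b2 hLs b5 (h1.trans h2.symm))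
  · exact hsk (key _ _ ha' hc' b1 b2 hLs b5 (h1.trans h2.symm))

end SCfg

end Cfsg.Agent.Omega.EH3.RowS

end

-- merged: Cfsg.Agent.Omega.EH3.RowS.FormTwo
section

/-!
# EH3, the `S₃ × Ω_w(2)`-row: the invariant quadratic form (helper888)

* `vanish` : the form `f` invariant under `X` (at `a`) and `Y` (at `c`, `B a c = 1`) vanishes at every point `e`
  which carries a configuration;
* `exists_form` : the theorem.
-/

set_option autoImplicit false

namespace Cfsg.Agent.Omega.EH3.RowS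

/-- the output -/
structure Form {H U : Type*} [Group H] [AddCommGroup U] [Module (ZMod 2) U]
    (ρ : H →* (U ≃ₗ[ZMod 2] U)) (B : LinearMap.BilinForm (ZMod 2) U)
    (a : U) (f : U → ZMod 2) : Prop where
  qf : ∀ u v, f (u + v) = f u + f v + B u v
  inv : ∀ h u, f (ρ h u) = f u
  f_a : f a = 0
  trans : ∀ u, u ≠ 0 → f u = 0 → ∃ h, ρ h a = u
  siegel : ∀ u s, f u = 0 → B u s = 0 →
    ∃ h, ∀ v, ρ h v = v + B v s • u + B v u • s + (f s * B v u) • u

namespace SCfg

variable {H U : Type*} [Group H] [AddCommGroup U] [Module (ZMod 2) U]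
  {ρ : H →* (U ≃ₗ[ZMod 2] U)} {B : LinearMap.BilinForm (ZMod 2) U}
  {a : U} {X : Subgroup H} {w : ℕ}

/-- the form of an opposite pair -/
theorem pair {Y : Subgroup H} (C : SCfg ρ B a X w) {c : U} (C' : SCfg ρ B c Y w)
    (hc : B a c = 1) : ∃ f : U → ZMod 2, QF B f ∧ Inv ρ X f ∧ Inv ρ Y f ∧ f a = 0 ∧ f c = 0 := by
  have hca : B c a = 1 := by rw [C.B_comm]; exact hc
  obtain ⟨f, hf, hi, hfa, hfc⟩ := C.exists_inv hc
  obtain ⟨g, hg, hj, hgc, hga⟩ := C'.exists_inv hca
  have h : f = g := funext (C.main C' hc hf hi hfc hg hj hga)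
  exact ⟨f, hf, hi, h ▸ hj, hfa, hfc⟩

/-- singular vectors off `a^⊥` -/
theorem sing_off (C : SCfg ρ B a X w) {c : U} (hc : B a c = 1) {f : U → ZMod 2} (hf : QF B f)
    (hi : Inv ρ X f) (hfc : f c = 0) {u : U} (hu : B a u = 1) (hfu : f u = 0) :
    ∃ x ∈ X, ρ x c = u := by
  have h0 : B a (c + u) = 0 := by rw [map_add, hc, hu]; decide
  obtain ⟨x, hx, -, h⟩ := C.siegel hf hi h0
  refine ⟨x, hx, ?_⟩
  have h1 : f (c + u) = B c u := by rw [hf, hfc, hfu, zero_add, zero_add]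
  have hca : B c a = 1 := by rw [C.B_comm]; exact hc
  rw [h, h1, hca, map_add (B c), C.B_self, zero_add, mul_one, one_smul]
  have : c + B c u • a + (c + u) + B c u • a = u + (c + c) + (B c u • a + B c u • a) := by abel
  rw [this, C.add_self, C.add_self, add_zero, add_zero]

theorem inv_conj (C : SCfg ρ B a X w) {Y : Subgroup H} {f : U → ZMod 2} (hi : Inv ρ X f)
    (hj : Inv ρ Y f) {x : H} (hx : x ∈ X) : Inv ρ (Y.map (MulAut.conj x).toMonoidHom) f := by
  rintro _ ⟨y, hy, rfl⟩ u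
  simp only [MulEquiv.coe_toMonoidHom, MulAut.conj_apply]
  rw [C.ρ_mul, C.ρ_mul, hi x hx, hj y hy, hi _ (X.inv_mem hx)]

/-- points off `a^⊥` are singular -/
theorem off_vanish {Y Z : Subgroup H} (C : SCfg ρ B a X w) {c e : U} (C' : SCfg ρ B c Y w)
    (hc : B a c = 1) {f : U → ZMod 2} (hf : QF B f) (hi : Inv ρ X f) (hj : Inv ρ Y f)
    (hfc : f c = 0) (E : SCfg ρ B e Z w) (he : B a e = 1) : f e = 0 := by
  by_contra hne
  have hfe : f e = 1 := zmod_two_ne hne
  have hfa := C.f_a hf hi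
  have hea : B e a = 1 := by rw [C.B_comm]; exact he
  -- the point `c₁ = e + a`
  have h1 : f (e + a) = 0 := by rw [hf, hfe, hfa, hea]; decide
  have h2 : B a (e + a) = 1 := by rw [map_add, he, C.B_self, add_zero]
  obtain ⟨x, hx, hxc⟩ := C.sing_off hc hf hi hfc h2 h1
  have C₁ := C'.conj x
  rw [hxc] at C₁
  have hj₁ := C.inv_conj hi hj hx
  generalize Y.map (MulAut.conj x).toMonoidHom = Y₁ at C₁ hj₁
  generalize hc₁ : e + a = c₁ at h1 h2 C₁ hxc
  have he₁ : e = c₁ + a := by rw [← hc₁, C.add_add_self]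
  -- a singular vector `s ≠ 0` in `⟨a, c₁⟩^⊥`
  obtain ⟨k, hk0, -, hka, hkc, -⟩ := C.exists_ker (B a) (B c₁) (B a) 0
  obtain ⟨l, hl0, hlk, hla, hlc, hlk'⟩ := C.exists_ker (B a) (B c₁) (B k) k
  have hs : ∃ s, s ≠ 0 ∧ B a s = 0 ∧ B c₁ s = 0 ∧ f s = 0 := by
    rcases zmod_two (f k) with h3 | h3
    · exact ⟨k, hk0, hka, hkc, h3⟩
    · rcases zmod_two (f l) with h4 | h4
      · exact ⟨l, hl0, hla, hlc, h4⟩
      · refine ⟨k + l, fun h => hlk (C.add_eq_zero.1 h).symm, ?_, ?_, ?_⟩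
        · rw [map_add, hka, hla, add_zero]
        · rw [map_add, hkc, hlc, add_zero]
        · rw [hf, h3, h4, hlk']; decide
  obtain ⟨s, hs0, has, hcs, hfs⟩ := hs
  obtain ⟨y, hy, -, hy'⟩ := C.siegel hf hi has
  have hc1a : B c₁ a = 1 := by rw [C.B_comm]; exact h2
  have hyc : ρ y c₁ = c₁ + s := by
    rw [hy', hcs, hfs, hc1a, zero_smul, one_smul, zero_mul, zero_smul, add_zero, add_zero]
  have C₂ := C₁.conj y
  rw [hyc] at C₂
  have hj₂ := C.inv_conj hi hj₁ hy
  have hce : B (c₁ + s) e = 1 := by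
    rw [he₁, map_add, map_add B, LinearMap.add_apply, LinearMap.add_apply, C.B_self, hc1a,
      C.B_comm s c₁, hcs, C.B_comm s a, has]
    decide
  obtain ⟨g, hg, hgi, hgz, -, hge⟩ := C.pair E he
  obtain ⟨g', hg', hgi', hgz', -, hge'⟩ := C₂.pair E hce
  have key : ∀ v, B e v = 0 → B (a + (c₁ + s)) v = 0 := by
    intro v hv
    have e1 := C.agree_off hf hi hg hgi he v
    have e2 := C₂.agree_off hf hj₂ hg' hgi' hce v
    rw [hfe, hge, add_zero, mul_one] at e1
    rw [hfe, hge', add_zero, mul_one] at e2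
    have e3 := E.agree hg hgz hg' hgz' hv
    rw [e1, e2] at e3
    rw [map_add, LinearMap.add_apply, add_left_cancel e3, CharTwo.add_self_eq_zero]
  rcases C.eq_of_perp key with h3 | h3
  · have h4 := congrArg (B a) h3
    rw [map_add, map_add (B a), map_zero, C.B_self, h2, has] at h4
    revert h4; decide
  · apply hs0
    rw [he₁] at h3
    have : s = a + (c₁ + s) + (c₁ + a) := by
      have : a + (c₁ + s) + (c₁ + a) = s + ((a + a) + (c₁ + c₁)) := by abel
      rw [this, C.add_self, C.add_self, add_zero, add_zero]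
    rw [this, h3, C.add_self]

/-- **all points are singular** -/
theorem vanish {Y Z : Subgroup H} (C : SCfg ρ B a X w) {c e : U} (C' : SCfg ρ B c Y w)
    (hc : B a c = 1) {f : U → ZMod 2} (hf : QF B f) (hi : Inv ρ X f) (hj : Inv ρ Y f)
    (hfc : f c = 0) (E : SCfg ρ B e Z w) : f e = 0 := by
  have hca : B c a = 1 := by rw [C.B_comm]; exact hc
  have hfa := C.f_a hf hi
  rcases zmod_two (B a e) with h1 | h1
  · rcases zmod_two (B c e) with h2 | h2
    · obtain ⟨s, hs⟩ := C.exists_off E.a_ne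
      let r : U := s + B c s • a + B a s • c
      have ha' : B a r = 0 := by
        show B a (s + B c s • a + B a s • c) = 0
        simp only [map_add, map_smul, C.B_self, hc, smul_eq_mul, mul_zero, add_zero, mul_one]
        exact CharTwo.add_self_eq_zero _
      have hc' : B c r = 0 := by
        show B c (s + B c s • a + B a s • c) = 0
        simp only [map_add, map_smul, C.B_self, hca, smul_eq_mul, mul_zero, add_zero, mul_one]
        exact CharTwo.add_self_eq_zero _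
      have her : B e r = 1 := by
        show B e (s + B c s • a + B a s • c) = 1
        simp only [map_add, map_smul, C.B_comm e a, C.B_comm e c, h1, h2, smul_eq_mul, mul_zero,
          add_zero, hs]
      obtain ⟨y, hy, -, hy'⟩ := C.siegel hf hi ha'
      have hyc : ρ y c = c + r + f r • a := by
        rw [hy', hc', hca, zero_smul, one_smul, mul_one, add_zero]
      have C₂ := C'.conj y
      have hj₂ := C.inv_conj hi hj hy
      have g1 : B (ρ y c) a = 1 := by
        rw [hyc, map_add, map_add, LinearMap.add_apply, LinearMap.add_apply, map_smul,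
          LinearMap.smul_apply, C.B_self, hca, C.B_comm r a, ha', smul_zero, add_zero, add_zero]
      have g2 : B (ρ y c) e = 1 := by
        rw [hyc, map_add, map_add, LinearMap.add_apply, LinearMap.add_apply, map_smul,
          LinearMap.smul_apply, h2, h1, C.B_comm r e, her, smul_zero, add_zero, zero_add]
      exact C₂.off_vanish C g1 hf hj₂ hi hfa E g2
    · exact C'.off_vanish C hca hf hj hi hfa E h2
  · exact C.off_vanish C' hc hf hi hj hfc E h1

/-- an opposite point -/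
theorem exists_opp (C : SCfg ρ B a X w) : ∃ h, B a (ρ h a) = 1 := by
  by_contra hcon
  push Not at hcon
  let W : Submodule (ZMod 2) U :=
    { carrier := {u | ∀ h, B a (ρ h u) = 0}
      zero_mem' := fun h => by rw [map_zero, map_zero]
      add_mem' := fun {u v} hu hv h => by rw [map_add, map_add, hu h, hv h, add_zero]
      smul_mem' := fun k u hu h => by rw [map_smul, map_smul, hu h, smul_zero] }
  rcases C.irr W (fun h v hv g => by rw [← C.ρ_mul]; exact hv _) with h1 | h1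
  · have h2 : a ∈ W := fun h => by
      rcases zmod_two (B a (ρ h a)) with h3 | h3
      · exact h3
      · exact absurd h3 (hcon h)
    rw [h1, Submodule.mem_bot] at h2
    exact C.a_ne h2
  · apply C.a_ne
    apply C.nondeg
    intro u
    have h2 : u ∈ W := by rw [h1]; trivial
    have h3 := h2 1
    rwa [C.ρ_one] at h3

/-- an additive function vanishing on the orbit of `a` is zero -/
theorem add_vanish (C : SCfg ρ B a X w) (L : U →ₗ[ZMod 2] ZMod 2) (hL : ∀ h, L (ρ h a) = 0)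
    (u : U) : L u = 0 := by
  let W : Submodule (ZMod 2) U :=
    { carrier := {u | ∀ h, L (ρ h u) = 0}
      zero_mem' := fun h => by rw [map_zero, map_zero]
      add_mem' := fun {u v} hu hv h => by rw [map_add, map_add, hu h, hv h, add_zero]
      smul_mem' := fun k u hu h => by rw [map_smul, map_smul, hu h, smul_zero] }
  rcases C.irr W (fun h v hv g => by rw [← C.ρ_mul]; exact hv _) with h1 | h1
  · have h2 : a ∈ W := hL
    rw [h1, Submodule.mem_bot] at h2
    exact absurd h2 C.a_ne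
  · have h2 : u ∈ W := by rw [h1]; trivial
    have h3 := h2 1
    rwa [C.ρ_one] at h3

/-- **THEOREM** -/
theorem exists_form (C : SCfg ρ B a X w) : ∃ f : U → ZMod 2, Form ρ B a f := by
  obtain ⟨h₀, hc⟩ := C.exists_opp
  have C' := C.conj h₀
  obtain ⟨f, hf, hi, hj, hfa, hfc⟩ := C.pair C' hc
  have hO : ∀ h, f (ρ h a) = 0 := fun h => C.vanish C' hc hf hi hj hfc (C.conj h)
  have hinv : ∀ h u, f (ρ h u) = f u := by
    intro h u
    let L : U →ₗ[ZMod 2] ZMod 2 :=
      { toFun := fun v => f (ρ h v) + f v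
        map_add' := by
          intro x y
          rw [map_add, hf, hf, C.B_inv]
          generalize f (ρ h x) = p; generalize f (ρ h y) = r; generalize f x = p'
          generalize f y = r'; generalize B x y = k
          revert p r p' r' k; decide
        map_smul' := by
          intro k x
          rw [map_smul, C.qf_smul hf, C.qf_smul hf, RingHom.id_apply, smul_eq_mul]; ring }
    have h1 := C.add_vanish L (fun g => by
      show f (ρ h (ρ g a)) + f (ρ g a) = 0
      rw [← C.ρ_mul, hO, hO, add_zero]) u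
    exact CharTwo.add_eq_zero.1 h1
  have hInv : ∀ Z : Subgroup H, Inv ρ Z f := fun Z x _ u => hinv x u
  have hoff : ∀ h u, f u = 0 → B (ρ h a) u = 1 → ∃ g, ρ g a = u := by
    intro h u hfu hu
    have C₁ := C.conj h
    obtain ⟨g, hg⟩ := C₁.exists_opp
    obtain ⟨x, -, hx⟩ := C₁.sing_off hg hf (hInv _) (by rw [hinv, hinv]; exact hfa) hu hfu
    exact ⟨x * (g * h), by rw [C.ρ_mul, C.ρ_mul]; exact hx⟩
  have htr : ∀ u, u ≠ 0 → f u = 0 → ∃ h, ρ h a = u := by
    intro u hu0 hfu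
    rcases zmod_two (B a u) with h | h
    · by_cases hua : u = a
      · exact ⟨1, by rw [C.ρ_one, hua]⟩
      obtain ⟨s, has, hus⟩ := C.exists_sep hu0 hua
      obtain ⟨s', has', hus'⟩ : ∃ s', B a s' = 0 ∧ B u (ρ h₀ a) + B u s' = 1 := by
        rcases zmod_two (B u (ρ h₀ a)) with h1 | h1
        · exact ⟨s, has, by rw [h1, hus, zero_add]⟩
        · exact ⟨0, by rw [map_zero], by rw [h1, map_zero, add_zero]⟩
      obtain ⟨y, hy, -, hy'⟩ := C.siegel hf hi has'
      refine hoff (y * h₀) u hfu ?_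
      rw [C.ρ_mul, hy']
      simp only [map_add, LinearMap.add_apply, map_smul, LinearMap.smul_apply, h, smul_eq_mul,
        mul_zero, add_zero]
      rw [C.B_comm _ a, hc, one_mul, C.B_comm _ u, C.B_comm s' u]
      exact hus'
    · exact hoff 1 u hfu (by rw [C.ρ_one]; exact h)
  refine ⟨f, hf, hinv, hfa, htr, fun u s hfu hus => ?_⟩
  by_cases hu0 : u = 0
  · refine ⟨1, fun v => ?_⟩
    rw [C.ρ_one, hu0, map_zero, zero_smul, smul_zero, smul_zero, add_zero, add_zero, add_zero]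
  obtain ⟨h, rfl⟩ := htr u hu0 hfu
  obtain ⟨x, -, -, hx⟩ := (C.conj h).siegel hf (hInv _) hus
  exact ⟨x, hx⟩

end SCfg

end Cfsg.Agent.Omega.EH3.RowS

end

-- merged: Cfsg.Agent.Mrg.Omega.EH3.RowS.Tensor
section

section


/-!
# EH3, the `S₃ × Ω_w(2)`-row: the tensor structure (helper888)

`Tri ρ X L d t` : an involution `t ∈ X` and `d` of order 3 inverted by `t`, `⟨d⟩` normal in `H`, `ρ d` without fixed
points, `t`, `d` centralise `L`.  `U = C_V(t)`, `V = U ⊕ ρ(d) U`, `gam u v = b u (ρ d v)` on `U`, `H₀ = C_H({d, t})`.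
-/

set_option autoImplicit false

namespace Cfsg.Agent.Omega.EH3.RowS

open Subgroup
open scoped commutatorElement

/-- the `S₃`-case (universe polymorphic version of `Main.STriple`) -/
structure Tri {H V : Type*} [Group H] [AddCommGroup V] [Module (ZMod 2) V] (ρ : H →* (V ≃ₗ[ZMod 2] V))
    (X L : Subgroup H) (d t : H) : Prop where
  t_mem : t ∈ X
  t_ord : orderOf t = 2
  d_ord : orderOf d = 3
  conj : t * d * t⁻¹ = d⁻¹
  t_cent : ∀ l ∈ L, t * l = l * t
  d_cent : ∀ l ∈ L, d * l = l * d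
  d_fix : ∀ v, ρ d v = v → v = 0
  d_norm : (zpowers d).Normal

/-- `C_V(t)` -/
def UU {H V : Type*} [Group H] [AddCommGroup V] [Module (ZMod 2) V] (ρ : H →* (V ≃ₗ[ZMod 2] V))
    (t : H) : Submodule (ZMod 2) V where
  carrier := {v | ρ t v = v}
  zero_mem' := map_zero _
  add_mem' := fun {u v} hu hv => by
    show ρ t (u + v) = u + v
    rw [map_add, hu, hv]
  smul_mem' := fun k u hu => by
    show ρ t (k • u) = k • u
    rw [map_smul, hu]

theorem mem_UU {H V : Type*} [Group H] [AddCommGroup V] [Module (ZMod 2) V]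
    {ρ : H →* (V ≃ₗ[ZMod 2] V)} {t : H} {v : V} : v ∈ UU ρ t ↔ ρ t v = v := Iff.rfl

namespace Tri

variable {H V : Type*} [Group H] [AddCommGroup V] [Module (ZMod 2) V]
  {ρ : H →* (V ≃ₗ[ZMod 2] V)} {b : LinearMap.BilinForm (ZMod 2) V} {q : V → ZMod 2}
  {a : V} {D : Submodule (ZMod 2) V} {X : Subgroup H} {w : ℕ} {L : Subgroup H} {d t : H}

theorem ddd (S : Tri ρ X L d t) : d * d * d = 1 := by
  have := pow_orderOf_eq_one d
  rw [S.d_ord, pow_succ, pow_two] at this
  exact this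

theorem d_inv (S : Tri ρ X L d t) : d⁻¹ = d * d := by
  rw [inv_eq_iff_mul_eq_one, ← mul_assoc]; exact S.ddd

theorem td (S : Tri ρ X L d t) : t * d = d * d * t := by
  have h := S.conj
  rw [S.d_inv, mul_inv_eq_iff_eq_mul] at h
  exact h

theorem tt (S : Tri ρ X L d t) : t * t = 1 := by
  have := pow_orderOf_eq_one t
  rw [S.t_ord, pow_two] at this
  exact this

theorem t_ne (S : Tri ρ X L d t) : t ≠ 1 := by
  intro h
  have := S.t_ord
  rw [h, orderOf_one] at this
  omega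

theorem d_ne (S : Tri ρ X L d t) : d ≠ 1 := by
  intro h
  have := S.d_ord
  rw [h, orderOf_one] at this
  omega

theorem dd_ne (S : Tri ρ X L d t) : d ≠ d * d := by
  intro h
  exact S.d_ne (left_eq_mul.1 h)

variable (C : Cfg ρ b q a D X w) (S : Tri ρ X L d t)
include C S

/-- `1 + ω + ω² = 0` -/
theorem om (v : V) : ρ d (ρ d v) = v + ρ d v := by
  have h : ρ d (v + ρ d v + ρ d (ρ d v)) = v + ρ d v + ρ d (ρ d v) := by
    rw [map_add, map_add, ← C.ρ_mul d d v, ← C.ρ_mul d (d * d) v, ← mul_assoc, S.ddd, C.ρ_one]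
    abel
  have h1 := S.d_fix _ h
  exact (C.add_eq_zero.1 h1).symm

theorem t_om (v : V) : ρ t (ρ d v) = ρ t v + ρ d (ρ t v) := by
  rw [← C.ρ_mul, S.td, C.ρ_mul, C.ρ_mul, S.om C]

theorem tt_app (v : V) : ρ t (ρ t v) = v := by rw [← C.ρ_mul, S.tt, C.ρ_one]

theorem add_t_mem (v : V) : v + ρ t v ∈ UU ρ t := by
  rw [mem_UU, map_add, S.tt_app C, add_comm]

/-- the decomposition `V = U + ρ(d) U` -/
theorem dec (v : V) : ∃ u ∈ UU ρ t, ∃ u' ∈ UU ρ t, v = u + ρ d u' := by
  refine ⟨v + ρ d (v + ρ t v), ?_, v + ρ t v, S.add_t_mem C v, ?_⟩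
  · have h := S.add_t_mem C v
    rw [mem_UU] at h ⊢
    rw [map_add, S.t_om C, h]
    have : ρ t v + (v + ρ t v + ρ d (v + ρ t v)) = v + ρ d (v + ρ t v) + (ρ t v + ρ t v) := by abel
    rw [this, C.add_self, add_zero]
  · rw [C.add_add_self]

theorem dec_zero {u u' : V} (hu : u ∈ UU ρ t) (hu' : u' ∈ UU ρ t) (h : u + ρ d u' = 0) :
    u = 0 ∧ u' = 0 := by
  have h1 : u = ρ d u' := C.add_eq_zero.1 h
  have h2 : ρ t u = u := hu
  rw [h1, S.t_om C, mem_UU.1 hu'] at h2
  have h3 : u' = 0 := by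
    have := C.add_add_self u' (ρ d u')
    rw [h2, C.add_self] at this
    exact this.symm
  exact ⟨by rw [h1, h3, map_zero], h3⟩

theorem dec_uniq {u u' v v' : V} (hu : u ∈ UU ρ t) (hu' : u' ∈ UU ρ t) (hv : v ∈ UU ρ t)
    (hv' : v' ∈ UU ρ t) (h : u + ρ d u' = v + ρ d v') : u = v ∧ u' = v' := by
  have h1 : (u + v) + ρ d (u' + v') = 0 := by
    rw [map_add]
    have : u + v + (ρ d u' + ρ d v') = (u + ρ d u') + (v + ρ d v') := by abel
    rw [this, h, C.add_self]
  obtain ⟨h2, h3⟩ := S.dec_zero C (add_mem hu hv) (add_mem hu' hv') h1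
  exact ⟨C.add_eq_zero.1 h2, C.add_eq_zero.1 h3⟩

theorem card_U : Nat.card (UU ρ t) = 2 ^ w := by
  have := C.finite_V
  have h1 : Nat.card (UU ρ t × UU ρ t) = Nat.card V := by
    refine Nat.card_congr (Equiv.ofBijective
      (fun p : UU ρ t × UU ρ t => (p.1 : V) + ρ d (p.2 : V)) ⟨?_, ?_⟩)
    · rintro ⟨u, u'⟩ ⟨v, v'⟩ h
      obtain ⟨h1, h2⟩ := S.dec_uniq C u.2 u'.2 v.2 v'.2 h
      exact Prod.ext (Subtype.ext h1) (Subtype.ext h2)
    · intro v
      obtain ⟨u, hu, u', hu', h⟩ := S.dec C v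
      exact ⟨(⟨u, hu⟩, ⟨u', hu'⟩), h.symm⟩
  rw [Nat.card_prod, C.card_V, two_mul, pow_add] at h1
  exact Nat.mul_self_inj.1 h1

theorem a_mem : a ∈ UU ρ t := C.X_a S.t_mem

/-- `U` is isotropic -/
theorem b_U {u v : V} (hu : u ∈ UU ρ t) (hv : v ∈ UU ρ t) : b u v = 0 := by
  have h1 : b u (ρ t (ρ d v)) = b u (ρ d v) := by
    nth_rewrite 1 [← mem_UU.1 hu]
    exact C.b_inv t u (ρ d v)
  rw [S.t_om C, mem_UU.1 hv, map_add] at h1
  exact add_eq_right.1 h1

theorem gam_symm {u v : V} (hu : u ∈ UU ρ t) (hv : v ∈ UU ρ t) :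
    b u (ρ d v) = b v (ρ d u) := by
  have h1 : b u (ρ d v) = b (ρ d u) (v + ρ d v) := by
    rw [← S.om C v, C.b_inv]
  rw [map_add, C.b_inv, S.b_U C hu hv, add_zero] at h1
  rw [h1, C.b_comm]

theorem q_U {u : V} : q u = b u (ρ d u) := by
  have h1 := C.q_add u (ρ d u)
  rw [← S.om C u, C.q_inv, C.q_inv, CharTwo.add_self_eq_zero, zero_add] at h1
  exact h1

/-- `b (u + ω u') (v + ω v')` -/
theorem b_dec {u u' v v' : V} (hu : u ∈ UU ρ t) (hu' : u' ∈ UU ρ t) (hv : v ∈ UU ρ t)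
    (hv' : v' ∈ UU ρ t) : b (u + ρ d u') (v + ρ d v') = b u (ρ d v') + b v (ρ d u') := by
  rw [map_add, map_add, LinearMap.add_apply, LinearMap.add_apply, C.b_inv, S.b_U C hu hv,
    S.b_U C hu' hv', C.b_comm (ρ d u') v]
  ring

theorem eq_of_gam {u' : V} (hu' : u' ∈ UU ρ t)
    (h : ∀ u ∈ UU ρ t, b a (ρ d u) = 0 → b u (ρ d u') = 0) : u' = 0 ∨ u' = a := by
  apply C.eq_of_perp
  intro v hv
  obtain ⟨u1, h1, u2, h2, rfl⟩ := S.dec C v
  rw [map_add, S.b_U C (S.a_mem C) h1, zero_add] at hv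
  rw [map_add, S.b_U C hu' h1, zero_add, S.gam_symm C hu' h2]
  exact h u2 h2 hv

end Tri

/-- `H₀ = C_H({d, t})` -/
def HH {H : Type*} [Group H] (d t : H) : Subgroup H := centralizer {d, t}

theorem mem_HH {H : Type*} [Group H] {d t h : H} : h ∈ HH d t ↔ d * h = h * d ∧ t * h = h * t := by
  constructor
  · intro hh
    exact ⟨mem_centralizer_iff.1 hh d (by simp), mem_centralizer_iff.1 hh t (by simp)⟩
  · rintro ⟨h1, h2⟩
    rw [HH, mem_centralizer_iff]
    rintro g (rfl | hg)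
    · exact h1
    · rw [Set.mem_singleton_iff] at hg
      rw [hg]; exact h2

namespace Tri

variable {H V : Type*} [Group H] [AddCommGroup V] [Module (ZMod 2) V]
  {ρ : H →* (V ≃ₗ[ZMod 2] V)} {b : LinearMap.BilinForm (ZMod 2) V} {q : V → ZMod 2}
  {a : V} {D : Submodule (ZMod 2) V} {X : Subgroup H} {w : ℕ} {L : Subgroup H} {d t : H}

theorem L_le (S : Tri ρ X L d t) : L ≤ HH d t := fun l hl =>
  mem_HH.2 ⟨S.d_cent l hl, S.t_cent l hl⟩

theorem t_not_mem (S : Tri ρ X L d t) : t ∉ HH d t := by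
  intro h
  have h1 := (mem_HH.1 h).1
  rw [S.td] at h1
  exact S.dd_ne (mul_right_cancel h1)

theorem inv_U {h : H} (hh : h ∈ HH d t) {u : V} (hu : u ∈ UU ρ t) : ρ h u ∈ UU ρ t := by
  rw [mem_UU] at hu ⊢
  have h1 : ρ (t * h) u = ρ (h * t) u := by rw [(mem_HH.1 hh).2]
  rw [map_mul, map_mul] at h1
  have h2 : ρ t (ρ h u) = ρ h (ρ t u) := h1
  rw [h2, hu]

theorem comm_om {h : H} (hh : h ∈ HH d t) (v : V) : ρ h (ρ d v) = ρ d (ρ h v) := by
  have h1 : ρ (d * h) v = ρ (h * d) v := by rw [(mem_HH.1 hh).1]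
  rw [map_mul, map_mul] at h1
  exact h1.symm

theorem mem_zp (S : Tri ρ X L d t) [Finite H] {g : H} (hg : g ∈ zpowers d) :
    g = 1 ∨ g = d ∨ g = d * d := by
  classical
  rw [mem_zpowers_iff_mem_range_orderOf, S.d_ord, Finset.mem_image] at hg
  obtain ⟨k, hk, rfl⟩ := hg
  rw [Finset.mem_range] at hk
  interval_cases k
  · left; rw [pow_zero]
  · right; left; rw [pow_one]
  · right; right; rw [pow_two]

variable (C : Cfg ρ b q a D X w) (S : Tri ρ X L d t)
include C S

/-- `X = ⟨t⟩ × X₀` -/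
theorem X_split {x : H} (hx : x ∈ X) : x ∈ HH d t ∨ t * x ∈ HH d t := by
  have := C.finite_H
  have h1 : x * d * x⁻¹ ∈ zpowers d := S.d_norm.conj_mem d (mem_zpowers d) x
  have htx : t * x = x * t := C.X_comm S.t_mem hx
  rcases S.mem_zp h1 with h2 | h2 | h2
  · exfalso
    apply S.d_ne
    have : d = x⁻¹ * (x * d * x⁻¹) * x := by group
    rw [this, h2]; group
  · left
    exact mem_HH.2 ⟨(mul_inv_eq_iff_eq_mul.1 h2).symm, htx⟩
  · right
    have h3 : x * d = d * d * x := mul_inv_eq_iff_eq_mul.1 h2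
    refine mem_HH.2 ⟨?_, ?_⟩
    · calc d * (t * x) = d * (t * x) := rfl
        _ = (d * d * d) * d * t * x := by rw [S.ddd]; group
        _ = (d * d) * (d * d * t) * x := by group
        _ = d * d * (t * d) * x := by rw [S.td]
        _ = (d * d * t) * d * x := by group
        _ = t * d * d * x := by rw [← S.td]
        _ = t * (d * d * x) := by group
        _ = t * (x * d) := by rw [h3]
        _ = t * x * d := by group
    · calc t * (t * x) = t * (x * t) := by rw [htx]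
        _ = t * x * t := by group

/-- replace `x ∈ X` by an element of `X₀` with the same action on `U` -/
theorem X_zero {x : H} (hx : x ∈ X) : ∃ y ∈ X, y ∈ HH d t ∧ (y = x ∨ y = t * x) ∧
    ∀ u ∈ UU ρ t, ρ y u = ρ x u := by
  rcases S.X_split C hx with h | h
  · exact ⟨x, hx, h, Or.inl rfl, fun _ _ => rfl⟩
  · refine ⟨t * x, X.mul_mem S.t_mem hx, h, Or.inr rfl, fun u hu => ?_⟩
    rw [C.X_comm S.t_mem hx, C.ρ_mul, mem_UU.1 hu]

/-- `U₁ = {u ∈ U | gam a u = 0} ≤ D` -/
theorem U_le_D {u : V} (hu : u ∈ UU ρ t) (h : b a (ρ d u) = 0) : u ∈ D := by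
  have h1 := C.X_perp t S.t_mem (ρ d u) h
  rw [S.t_om C, mem_UU.1 hu, add_assoc, C.add_self, add_zero] at h1
  exact h1

theorem D_U {u : V} (hu : u ∈ UU ρ t) (h : u ∈ D) : b a (ρ d u) = 0 := by
  by_contra hne
  have h1 := zmod_two_ne hne
  have h2 : ∀ v ∈ UU ρ t, v ∈ D := by
    intro v hv
    rcases zmod_two (b a (ρ d v)) with h3 | h3
    · exact S.U_le_D C hv h3
    · have h4 : u + v ∈ D := S.U_le_D C (add_mem hu hv) (by
        rw [map_add, map_add, h1, h3]; decide)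
      have h5 := D.add_mem h h4
      rwa [← add_assoc, C.add_self, zero_add] at h5
  obtain ⟨c, hc⟩ := C.exists_off
  have h3 := C.X_semi t S.t_mem c hc (by
    rw [add_comm]
    exact h2 _ (S.add_t_mem C c))
  exact S.t_ne h3

/-- elements of `X₀` on `U` -/
theorem exists_x {s : V} (h : b a (ρ d s) = 0) :
    ∃ x ∈ X, x ∈ HH d t ∧ ∀ u ∈ UU ρ t, b a (ρ d u) = 0 → ρ x u = u + b u (ρ d s) • a := by
  obtain ⟨x, hx, h1⟩ := C.X_all ((LinearMap.flip b) (ρ d s)) (by
    rw [LinearMap.flip_apply]; exact h)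
  obtain ⟨y, hy, hyH, -, h2⟩ := S.X_zero C hx
  refine ⟨y, hy, hyH, fun u hu hau => ?_⟩
  rw [h2 u hu, h1 u (S.U_le_D C hu hau), LinearMap.flip_apply]

/-- `X ∩ C(L) = ⟨t⟩` -/
theorem cent_X (hN : L.Normal) (hq : IsQuasisimple L) {x : H} (hx : x ∈ X)
    (h : ∀ l ∈ L, l * x = x * l) : x = 1 ∨ x = t := by
  have := C.finite_H
  have h1 := C.card_cent_le hN (Cfsg.Agent.Lib.ComponentSolvable.quasisimple_not_solvable hq)
  have h2 : zpowers t ≤ X ⊓ centralizer (L : Set H) := by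
    rw [zpowers_le]
    exact ⟨S.t_mem, mem_centralizer_iff.2 fun l hl => (S.t_cent l hl).symm⟩
  have h3 : zpowers t = X ⊓ centralizer (L : Set H) := by
    apply eq_of_le_of_card_ge h2
    rw [Nat.card_zpowers, S.t_ord]
    exact h1
  have h4 : x ∈ zpowers t := by
    rw [h3]
    exact ⟨hx, mem_centralizer_iff.2 h⟩
  classical
  rw [mem_zpowers_iff_mem_range_orderOf, S.t_ord, Finset.mem_image] at h4
  obtain ⟨k, hk, rfl⟩ := h4
  rw [Finset.mem_range] at hk
  interval_cases k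
  · left; rw [pow_zero]
  · right; rw [pow_one]

omit S in
theorem comm_abelian (hN : L.Normal) (hq : IsQuasisimple L) {R : Subgroup H}
    (hR : ∀ x ∈ R, x * x = 1) (hn : ∀ l ∈ L, ∀ x ∈ R, l * x * l⁻¹ ∈ R) :
    ∀ x ∈ R, ∀ l ∈ L, l * x = x * l := by
  have hfin := C.finite_H
  have hc : IsComponent L := ⟨hN.isSubnormal, hq⟩
  have hinv : ∀ x ∈ R, x⁻¹ = x := fun x hx => inv_eq_of_mul_eq_one_left (hR x hx)
  have hcomm : ∀ x ∈ R, ∀ y ∈ R, x * y = y * x := by
    intro x hx y hy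
    have h2 := hinv _ (R.mul_mem hx hy)
    rw [mul_inv_rev, hinv x hx, hinv y hy] at h2
    exact h2.symm
  have hsol : Group.IsSolvable R := by
    exact Group.isSolvable_of_comm fun x y => Subtype.ext (hcomm x x.2 y y.2)
  have hnor : L ≤ normalizer (R : Set H) := fun l hl =>
    mem_normalizer_fintype (S := (R : Set H)) (hn l hl)
  have h1 := Cfsg.Agent.Lib.ComponentSolvable.commutator_component_solvable_eq_bot hc hsol hnor
  intro x hx l hl
  have h2 : ⁅l, x⁆ ∈ ⁅L, R⁆ := commutator_mem_commutator hl hx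
  rw [h1, mem_bot, commutatorElement_eq_one_iff_mul_comm] at h2
  exact h2

/-- `L` moves `a` -/
theorem exists_move (hN : L.Normal) (hq : IsQuasisimple L) : ∃ l ∈ L, ρ l a ≠ a := by
  by_contra hcon
  push Not at hcon
  have h1 := comm_abelian C hN hq (R := X) C.X_sq (fun l hl x hx => C.X_norm l (hcon l hl) x hx)
  have h2 : (X : Set H) ⊆ {1, t} := by
    intro x hx
    rcases S.cent_X C hN hq hx (h1 x hx) with h | h
    · left; exact h
    · right; exact h
  have h3 := Set.ncard_le_ncard h2 (Set.toFinite _)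
  have h4 : ({1, t} : Set H).ncard ≤ 2 := (Set.ncard_insert_le _ _).trans (by
    rw [Set.ncard_singleton])
  have h5 : (X : Set H).ncard = Nat.card X := rfl
  have h6 := C.two_le_card_X
  omega

/-- **the orbit `a^L` has no radical in `U`** -/
theorem rad (hN : L.Normal) (hq : IsQuasisimple L) {u : V} (hu : u ∈ UU ρ t)
    (h : ∀ l ∈ L, b (ρ l a) (ρ d u) = 0) : u = 0 := by
  by_contra hu0
  have hfin := C.finite_H
  have haU := S.a_mem C
  let R : Submodule (ZMod 2) V :=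
    { carrier := {v | v ∈ UU ρ t ∧ ∀ l ∈ L, b (ρ l a) (ρ d v) = 0}
      zero_mem' := ⟨zero_mem _, fun l _ => by rw [map_zero, map_zero]⟩
      add_mem' := fun {v v'} hv hv' => ⟨add_mem hv.1 hv'.1, fun l hl => by
        rw [map_add, map_add, hv.2 l hl, hv'.2 l hl, add_zero]⟩
      smul_mem' := fun k v hv => ⟨Submodule.smul_mem _ k hv.1, fun l hl => by
        rw [map_smul, map_smul, hv.2 l hl, smul_zero]⟩ }
  have hRU : ∀ v ∈ R, v ∈ UU ρ t := fun v hv => hv.1
  -- `R` is `X`-invariant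
  have hRy : ∀ y ∈ HH d t, ρ y a = a → ∀ v ∈ R, ρ y v ∈ R := by
    intro y hyH hya v hv
    refine ⟨inv_U hyH hv.1, fun l hl => ?_⟩
    have h1 : y⁻¹ * l * y ∈ L := by
      have := hN.conj_mem l hl y⁻¹
      rwa [inv_inv] at this
    have h2 := hv.2 _ h1
    rw [← C.b_inv y, ← C.ρ_mul, show y * (y⁻¹ * l * y) = l * y by group, C.ρ_mul, hya,
      comm_om hyH] at h2
    exact h2
  have hRX : ∀ x ∈ X, ∀ v ∈ R, ρ x v ∈ R := by
    intro x hx v hv
    obtain ⟨y, hy, hyH, -, h1⟩ := S.X_zero C hx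
    rw [← h1 v hv.1]
    exact hRy y hyH (C.X_a hy) v hv
  have haR : a ∈ R := by
    apply C.a_mem_of_inv hRX
    intro h0
    have : u ∈ R := ⟨hu, h⟩
    rw [h0, Submodule.mem_bot] at this
    exact hu0 this
  have hlR : ∀ l ∈ L, ρ l a ∈ R := by
    intro l hl
    refine ⟨inv_U (S.L_le hl) haU, fun l' hl' => ?_⟩
    have h1 := haR.2 (l⁻¹ * l') (L.mul_mem (L.inv_mem hl) hl')
    rw [← C.b_inv l, ← C.ρ_mul, mul_inv_cancel_left, comm_om (S.L_le hl)] at h1
    exact h1
  have hRL : ∀ l ∈ L, ∀ v ∈ R, ρ l v ∈ R := by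
    intro l hl v hv
    refine ⟨inv_U (S.L_le hl) hv.1, fun l' hl' => ?_⟩
    have h1 := hv.2 (l⁻¹ * l') (L.mul_mem (L.inv_mem hl) hl')
    rw [← C.b_inv l, ← C.ρ_mul, mul_inv_cancel_left, comm_om (S.L_le hl)] at h1
    exact h1
  -- the group `K`
  let K : Subgroup H :=
    { carrier := {g | g ∈ HH d t ∧ (∀ r ∈ R, ρ g r = r) ∧ ∀ v ∈ UU ρ t, ρ g v + v ∈ R}
      one_mem' := ⟨one_mem _, fun r _ => C.ρ_one r, fun v _ => by
        rw [C.ρ_one, C.add_self]; exact R.zero_mem⟩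
      mul_mem' := by
        rintro g g' ⟨h1, h2, h3⟩ ⟨h1', h2', h3'⟩
        refine ⟨mul_mem h1 h1', fun r hr => by rw [C.ρ_mul, h2' r hr, h2 r hr], fun v hv => ?_⟩
        have e : ρ (g * g') v + v = ρ g (ρ g' v + v) + (ρ g v + v) := by
          rw [C.ρ_mul, map_add]
          have : ρ g (ρ g' v) + ρ g v + (ρ g v + v) = ρ g (ρ g' v) + v + (ρ g v + ρ g v) := by
            abel
          rw [this, C.add_self, add_zero]
        rw [e, h2 _ (h3' v hv)]
        exact R.add_mem (h3' v hv) (h3 v hv)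
      inv_mem' := by
        rintro g ⟨h1, h2, h3⟩
        refine ⟨inv_mem h1, fun r hr => C.fix_inv (h2 r hr), fun v hv => ?_⟩
        have h4 := h3 _ (inv_U (inv_mem h1) hv)
        rw [C.ρ_apply_inv, add_comm] at h4
        exact h4 }
  have hKsq : ∀ x ∈ K, x * x = 1 := by
    rintro g ⟨h1, h2, h3⟩
    have key : ∀ v ∈ UU ρ t, ρ (g * g) v = v := by
      intro v hv
      have h4 := h2 _ (h3 v hv)
      rw [map_add] at h4
      rw [C.ρ_mul]
      have e : ρ g (ρ g v) = ρ g (ρ g v) + ρ g v + ρ g v := by rw [C.add_add_self]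
      rw [e, h4]
      have : ρ g v + v + ρ g v = v + (ρ g v + ρ g v) := by abel
      rw [this, C.add_self, add_zero]
    apply C.ext
    intro v
    obtain ⟨u1, hu1, u2, hu2, rfl⟩ := S.dec C v
    rw [map_add, key u1 hu1, comm_om (mul_mem h1 h1), key u2 hu2, C.ρ_one]
  have hKn : ∀ l ∈ L, ∀ x ∈ K, l * x * l⁻¹ ∈ K := by
    rintro l hl g ⟨h1, h2, h3⟩
    refine ⟨mul_mem (mul_mem (S.L_le hl) h1) (inv_mem (S.L_le hl)), fun r hr => ?_, fun v hv => ?_⟩
    · rw [C.ρ_mul, C.ρ_mul, h2 _ (hRL _ (L.inv_mem hl) r hr), C.ρ_apply_inv]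
    · have h4 := hRL l hl _ (h3 _ (inv_U (inv_mem (S.L_le hl)) hv))
      rw [map_add, C.ρ_apply_inv, ← C.ρ_mul, ← C.ρ_mul] at h4
      exact h4
  have hKL := comm_abelian C hN hq hKsq hKn
  -- `L` fixes `a`
  obtain ⟨l, hl, hla⟩ := S.exists_move C hN hq
  apply hla
  have hsR := hlR l hl
  have hsU := hRU _ hsR
  have has : b a (ρ d (ρ l a)) = 0 := by
    have := hsR.2 1 L.one_mem
    rwa [C.ρ_one] at this
  obtain ⟨x, hx, hxH, hxu⟩ := S.exists_x C has
  have hxa := C.X_a hx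
  have hxK : x ∈ K := by
    refine ⟨hxH, fun r hr => ?_, fun v hv => ?_⟩
    · have h1 : b a (ρ d r) = 0 := by
        have := hr.2 1 L.one_mem
        rwa [C.ρ_one] at this
      rw [hxu r hr.1 h1, S.gam_symm C hr.1 hsU, hr.2 l hl, zero_smul, add_zero]
    · rcases zmod_two (b a (ρ d v)) with h1 | h1
      · rw [hxu v hv h1]
        have : v + b v (ρ d (ρ l a)) • a + v = b v (ρ d (ρ l a)) • a + (v + v) := by abel
        rw [this, C.add_self, add_zero]
        exact R.smul_mem _ haR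
      · -- `s = [v, x]`
        have hxv : ρ x v + v ∈ UU ρ t := add_mem (inv_U hxH hv) hv
        have h2 : ρ x v + v + ρ l a = 0 ∨ ρ x v + v + ρ l a = a := by
          apply S.eq_of_gam C (add_mem hxv hsU)
          intro u' hu' hau'
          have h3 : b (ρ x u') (ρ d (ρ x v)) = b u' (ρ d v) := by
            rw [← comm_om hxH, C.b_inv]
          have h4 : b a (ρ d (ρ x v)) = 1 := by
            nth_rewrite 1 [← hxa]
            rw [← comm_om hxH, C.b_inv, h1]
          rw [hxu u' hu' hau', map_add, LinearMap.add_apply, map_smul, LinearMap.smul_apply, h4,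
            smul_eq_mul, mul_one] at h3
          rw [map_add, map_add, map_add, map_add, ← h3]
          generalize b u' (ρ d (ρ x v)) = p
          generalize b u' (ρ d (ρ l a)) = r
          revert p r; decide
        have h5 : ρ x v + v = (ρ x v + v + ρ l a) + ρ l a := by rw [C.add_add_self]
        rw [h5]
        refine R.add_mem ?_ hsR
        rcases h2 with h2 | h2
        · rw [h2]; exact R.zero_mem
        · rw [h2]; exact haR
  have hx1 : x = 1 := by
    rcases S.cent_X C hN hq hx (hKL x hxK) with h1 | h1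
    · exact h1
    · exact absurd (h1 ▸ hxH) S.t_not_mem
  have h6 : ρ l a = 0 ∨ ρ l a = a := by
    apply S.eq_of_gam C hsU
    intro u' hu' hau'
    have h7 := hxu u' hu' hau'
    rw [hx1, C.ρ_one] at h7
    rcases zmod_two (b u' (ρ d (ρ l a))) with h8 | h8
    · exact h8
    · rw [h8, one_smul] at h7
      exact absurd (left_eq_add.1 h7) C.a_ne
  rcases h6 with h6 | h6
  · exact absurd (C.ρ_inj l (by rw [h6, map_zero])) C.a_ne
  · exact h6

end Tri

end Cfsg.Agent.Omega.EH3.RowS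

end

section


/-!
# EH3, the `S₃ × Ω_w(2)`-row: output of the front (helper888)

`C : Cfg ρ b q a D X w`, `S : Tri ρ X L d t`, `L ⊴ H` quasisimple.  `U = UU ρ t = C_V(t)`, `H₀ = HH d t = C_H({d, t})`.

* `Tri.gam` : the form `gam u v = b u (ρ d v)` on `U`; `Tri.ρ₀` : the action of `H₀` on `U`; `Tri.X₀ = X ∩ H₀`;
* `Tri.q_U_zero` : `q = 0` on `U`; `Tri.q_dec` : `q (u + ρ d v) = gam u v`;
* `Tri.mem_D` : `D = {u + k ρ(d) a | gam a u = 0}`;
* `Tri.scfg` : `SCfg ρ₀ gam a X₀ w`; `Tri.exists_form` : the quadratic form on `U`.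
-/

set_option autoImplicit false

namespace Cfsg.Agent.Omega.EH3.RowS

open Subgroup

namespace Tri

variable {H V : Type*} [Group H] [AddCommGroup V] [Module (ZMod 2) V]
  {ρ : H →* (V ≃ₗ[ZMod 2] V)} {b : LinearMap.BilinForm (ZMod 2) V} {q : V → ZMod 2}
  {a : V} {D : Submodule (ZMod 2) V} {X : Subgroup H} {w : ℕ} {L : Subgroup H} {d t : H}

/-- `gam u v = b u (ρ d v)` -/
def gam (ρ : H →* (V ≃ₗ[ZMod 2] V)) (b : LinearMap.BilinForm (ZMod 2) V) (d t : H) :
    LinearMap.BilinForm (ZMod 2) (UU ρ t) :=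
  LinearMap.mk₂ (ZMod 2) (fun u v => b (u : V) (ρ d (v : V)))
    (fun u u' v => by simp only [Submodule.coe_add, map_add, LinearMap.add_apply])
    (fun k u v => by simp only [Submodule.coe_smul, map_smul, LinearMap.smul_apply])
    (fun u v v' => by simp only [Submodule.coe_add, map_add])
    (fun k u v => by simp only [Submodule.coe_smul, map_smul])

@[simp] theorem gam_apply (u v : UU ρ t) : gam ρ b d t u v = b (u : V) (ρ d (v : V)) := rfl

/-- the action of `H₀` on `U` -/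
def ρ₀ (ρ : H →* (V ≃ₗ[ZMod 2] V)) (d t : H) : HH d t →* (UU ρ t ≃ₗ[ZMod 2] UU ρ t) where
  toFun h :=
    { toFun := fun u => ⟨ρ (h : H) (u : V), inv_U h.2 u.2⟩
      map_add' := fun u v => Subtype.ext (by simp only [Submodule.coe_add, map_add])
      map_smul' := fun k u => Subtype.ext (by simp only [Submodule.coe_smul, map_smul, RingHom.id_apply])
      invFun := fun u => ⟨ρ (h : H)⁻¹ (u : V), inv_U (inv_mem h.2) u.2⟩
      left_inv := fun u => Subtype.ext (by
        show ρ (h : H)⁻¹ (ρ (h : H) (u : V)) = u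
        rw [← LinearEquiv.mul_apply, ← map_mul, inv_mul_cancel, map_one]; rfl)
      right_inv := fun u => Subtype.ext (by
        show ρ (h : H) (ρ (h : H)⁻¹ (u : V)) = u
        rw [← LinearEquiv.mul_apply, ← map_mul, mul_inv_cancel, map_one]; rfl) }
  map_one' := LinearEquiv.ext fun u => Subtype.ext (by
    show ρ ((1 : HH d t) : H) (u : V) = u
    rw [OneMemClass.coe_one, map_one]; rfl)
  map_mul' g h := LinearEquiv.ext fun u => Subtype.ext (by
    show ρ ((g * h : HH d t) : H) (u : V) = ρ (g : H) (ρ (h : H) (u : V))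
    rw [Subgroup.coe_mul, map_mul]; rfl)

@[simp] theorem ρ₀_apply (h : HH d t) (u : UU ρ t) : ((ρ₀ ρ d t h u : UU ρ t) : V) = ρ (h : H) (u : V) := rfl

variable (C : Cfg ρ b q a D X w) (S : Tri ρ X L d t)
include C S

/-- `U ≤ W` if `W` contains the orbit `a^L` -/
theorem U_le (hN : L.Normal) (hq : IsQuasisimple L) {W : Submodule (ZMod 2) V}
    (h : ∀ l ∈ L, ρ l a ∈ W) {v : V} (hv : v ∈ UU ρ t) : v ∈ W := by
  apply C.mem_of_perp W
  intro u' hu'
  obtain ⟨u1, h1, u2, h2, rfl⟩ := S.dec C u'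
  have h3 : u2 = 0 := S.rad C hN hq h2 fun l hl => by
    have := hu' _ (h l hl)
    rwa [map_add, S.b_U C (inv_U (S.L_le hl) (S.a_mem C)) h1, zero_add] at this
  rw [h3, map_zero, add_zero]
  exact S.b_U C h1 hv

theorem q_U_zero (hN : L.Normal) (hq : IsQuasisimple L) {u : V} (hu : u ∈ UU ρ t) : q u = 0 := by
  let W : Submodule (ZMod 2) V :=
    { carrier := {v | v ∈ UU ρ t ∧ q v = 0}
      zero_mem' := ⟨zero_mem _, C.q_zero⟩
      add_mem' := fun {v v'} hv hv' => ⟨add_mem hv.1 hv'.1, by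
        rw [C.q_add, hv.2, hv'.2, S.b_U C hv.1 hv'.1, add_zero, add_zero]⟩
      smul_mem' := fun k v hv => ⟨Submodule.smul_mem _ k hv.1, by
        rcases zmod_two k with h | h
        · rw [h, zero_smul]; exact C.q_zero
        · rw [h, one_smul]; exact hv.2⟩ }
  have h1 : ∀ l ∈ L, ρ l a ∈ W := fun l hl => ⟨inv_U (S.L_le hl) (S.a_mem C), by
    rw [C.q_inv, C.q_a]⟩
  have h : u ∈ W := S.U_le C hN hq h1 hu
  exact h.2

theorem q_dec (hN : L.Normal) (hq : IsQuasisimple L) {u v : V} (hu : u ∈ UU ρ t)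
    (hv : v ∈ UU ρ t) : q (u + ρ d v) = b u (ρ d v) := by
  rw [C.q_add, C.q_inv, S.q_U_zero C hN hq hu, S.q_U_zero C hN hq hv, add_zero, zero_add]

/-- the `U'`-component of `d' ∈ D` is `0` or `a` -/
theorem D_dec {d' u u' : V} (hd : d' ∈ D) (hu : u ∈ UU ρ t) (hu' : u' ∈ UU ρ t)
    (h : d' = u + ρ d u') : u' = 0 ∨ u' = a := by
  have h1 : ρ t d' = d' + u' := by
    rw [h, map_add, S.t_om C, mem_UU.1 hu, mem_UU.1 hu']
    abel
  rcases C.X_D t S.t_mem d' hd with h2 | h2
  · left; exact add_eq_left.1 (h1.symm.trans h2)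
  · right; exact add_left_cancel (h1.symm.trans h2)

theorem om_a_mem (hN : L.Normal) (hq : IsQuasisimple L) : ρ d a ∈ D := by
  apply C.perp_D
  intro d' hd'
  obtain ⟨u, hu, u', hu', h⟩ := S.dec C d'
  have ha := S.a_mem C
  have h1 : b d' (ρ d a) = b u (ρ d a) := by
    rw [h, map_add, LinearMap.add_apply, C.b_inv, S.b_U C hu' ha, add_zero]
  rw [h1]
  rcases S.D_dec C hd' hu hu' h with h2 | h2
  · rw [h2, map_zero, add_zero] at h
    rw [S.gam_symm C hu ha]
    exact S.D_U C hu (h ▸ hd')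
  · have h3 := C.q_D d' hd'
    rw [h, h2, S.q_dec C hN hq hu ha] at h3
    exact h3

/-- **`D = U₁ ⊕ ⟨ρ(d) a⟩`** -/
theorem mem_D (hN : L.Normal) (hq : IsQuasisimple L) {v : V} :
    v ∈ D ↔ ∃ u ∈ UU ρ t, b a (ρ d u) = 0 ∧ (v = u ∨ v = u + ρ d a) := by
  constructor
  · intro hv
    obtain ⟨u, hu, u', hu', h⟩ := S.dec C v
    have ha := S.a_mem C
    rcases S.D_dec C hv hu hu' h with h2 | h2
    · rw [h2, map_zero, add_zero] at h
      exact ⟨u, hu, S.D_U C hu (h ▸ hv), Or.inl h⟩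
    · rw [h2] at h
      have h3 : u ∈ D := by
        have := D.add_mem hv (S.om_a_mem C hN hq)
        rwa [h, C.add_add_self] at this
      exact ⟨u, hu, S.D_U C hu h3, Or.inr h⟩
  · rintro ⟨u, hu, h1, rfl | rfl⟩
    · exact S.U_le_D C hu h1
    · exact D.add_mem (S.U_le_D C hu h1) (S.om_a_mem C hN hq)

/-- **the symplectic configuration of `H₀` on `U`** -/
theorem scfg (hN : L.Normal) (hq : IsQuasisimple L) :
    SCfg (ρ₀ ρ d t) (gam ρ b d t) (⟨a, S.a_mem C⟩ : UU ρ t) (X.subgroupOf (HH d t)) w where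
  five := C.five
  card_U := S.card_U C
  B_self := fun v => by
    rw [gam_apply, ← S.q_U C]
    exact S.q_U_zero C hN hq v.2
  nondeg := fun v h => by
    apply Subtype.ext
    apply C.nondeg
    intro x
    obtain ⟨u1, h1, u2, h2, rfl⟩ := S.dec C x
    rw [map_add, S.b_U C v.2 h1, zero_add]
    exact h ⟨u2, h2⟩
  B_inv := fun h u v => by
    rw [gam_apply, gam_apply, ρ₀_apply, ρ₀_apply, ← comm_om h.2, C.b_inv]
  irr := by
    intro W hW
    by_cases h0 : W = ⊥
    · left; exact h0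
    right
    rw [eq_top_iff]
    rintro ⟨v, hv⟩ -
    have h1 : ∀ x ∈ X, ∀ v ∈ W.map (UU ρ t).subtype, ρ x v ∈ W.map (UU ρ t).subtype := by
      rintro x hx _ ⟨⟨v, hv⟩, hvW, rfl⟩
      obtain ⟨y, hy, hyH, -, h2⟩ := S.X_zero C hx
      refine ⟨_, hW ⟨y, hyH⟩ _ hvW, ?_⟩
      exact h2 v hv
    have h2 : W.map (UU ρ t).subtype ≠ ⊥ := by
      intro h
      apply h0
      rw [eq_bot_iff]
      intro x hx
      have h3 : (x : V) ∈ W.map (UU ρ t).subtype := ⟨x, hx, rfl⟩
      rw [h, Submodule.mem_bot] at h3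
      exact (Submodule.mem_bot _).2 (Subtype.ext h3)
    obtain ⟨⟨a', ha'⟩, ha'W, ha'e⟩ := C.a_mem_of_inv h1 h2
    have ha'e' : a' = a := ha'e
    subst ha'e'
    have h4 : ∀ l ∈ L, ρ l a' ∈ W.map (UU ρ t).subtype := fun l hl =>
      ⟨_, hW ⟨l, S.L_le hl⟩ _ ha'W, rfl⟩
    have h3 : v ∈ W.map (UU ρ t).subtype := S.U_le C hN hq h4 hv
    obtain ⟨⟨v', hv'⟩, hvW, he⟩ := h3
    have he' : v' = v := he
    subst he'
    exact hvW
  a_ne := fun h => C.a_ne (congrArg Subtype.val h)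
  X_norm := by
    intro h hh x hx
    rw [mem_subgroupOf] at hx ⊢
    exact C.X_norm h (congrArg Subtype.val hh) x hx
  X_a := by
    intro x hx
    exact Subtype.ext (C.X_a hx)
  X_perp := by
    intro x hx u hu
    rcases C.X_D x hx u (S.U_le_D C u.2 hu) with h | h
    · left; exact Subtype.ext h
    · right; exact Subtype.ext h
  X_all := by
    intro s hs
    obtain ⟨x, hx, hxH, h⟩ := S.exists_x C (s := (s : V)) hs
    exact ⟨⟨x, hxH⟩, hx, fun u hu => Subtype.ext (h u u.2 hu)⟩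
  X_semi := by
    intro x hx h
    apply Subtype.ext
    have ha := S.a_mem C
    -- `c₀`
    obtain ⟨c, hc⟩ := C.exists_off
    obtain ⟨c1, hc1, c0, hc0, rfl⟩ := S.dec C c
    rw [map_add, S.b_U C ha hc1, zero_add] at hc
    apply C.X_semi (x : H) hx (ρ d c0) hc
    have hxU : ρ (x : H) c0 ∈ UU ρ t := inv_U x.2 hc0
    rw [comm_om x.2, ← map_add]
    have h2 : ρ (x : H) c0 + c0 = 0 ∨ ρ (x : H) c0 + c0 = a := by
      apply S.eq_of_gam C (add_mem hxU hc0)
      intro u hu hau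
      have h3 : ρ (x : H) u = u := congrArg Subtype.val (h ⟨u, hu⟩ hau)
      have h4 : b (ρ (x : H) u) (ρ (x : H) (ρ d c0)) = b u (ρ d c0) := C.b_inv _ _ _
      rw [h3, comm_om x.2] at h4
      rw [map_add, map_add, h4, CharTwo.add_self_eq_zero]
    rcases h2 with h2 | h2
    · rw [h2, map_zero]; exact D.zero_mem
    · rw [h2]; exact S.om_a_mem C hN hq

/-- **the quadratic form on `U`** -/
theorem exists_form (hN : L.Normal) (hq : IsQuasisimple L) : ∃ f : UU ρ t → ZMod 2,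
    Form (ρ₀ ρ d t) (gam ρ b d t) (⟨a, S.a_mem C⟩ : UU ρ t) f :=
  (S.scfg C hN hq).exists_form

end Tri

end Cfsg.Agent.Omega.EH3.RowS

end

end

-- merged: Cfsg.Agent.Omega.EH3.RowS.Fam
section

/-!
# EH3, row S (bb OMEGA #14257, #14554): the family theorem (helper754)

`FF U γ O f 𝒢`: a symplectic space `(U, γ)` over `ZMod 2` of dimension `≥ 5`, a spanning orbit `O` of the group `𝒢` of
isometries, for every `u ∈ O` a quadratic form `f u` on `u^⊥ / u` with polar form `γ`, such that the maps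
`r u w (f u w) : v ↦ v + γ(u,v) w + γ(w,v) u + f(u,w) γ(u,v) u` (`u ∈ O`, `w ⊥ u`) lie in `𝒢`, and `f` is `𝒢`-equivariant.

`FF.exists_Q`: there is a quadratic form `Q` with polar form `γ` which is preserved by `𝒢`, `O` = the nonzero singular
vectors, `f u w = Q w`.
-/

set_option autoImplicit false

namespace Cfsg.Agent.Omega.EH3.RowS

theorem z2 (c : ZMod 2) : c = 0 ∨ c = 1 := by revert c; decide

theorem z2_ne {c : ZMod 2} (h : c ≠ 0) : c = 1 := by revert c; decide

theorem z2_add (c : ZMod 2) : c + c = 0 := by revert c; decide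

variable {U : Type*} [AddCommGroup U] [Module (ZMod 2) U]

theorem add_self (v : U) : v + v = 0 := by
  have : v + v = (2 : ZMod 2) • v := by rw [two_smul]
  rw [this, show (2 : ZMod 2) = 0 from rfl, zero_smul]

theorem add_add_cancel (x y : U) : x + y + y = x := by
  rw [add_assoc, add_self, add_zero]

theorem add_eq_zero {x y : U} : x + y = 0 ↔ x = y := by
  constructor
  · intro h
    have := add_add_cancel x y
    rw [h, zero_add] at this
    exact this.symm
  · rintro rfl; exact add_self x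

/-- a symplectic space over `ZMod 2` -/
structure Sy (γ : LinearMap.BilinForm (ZMod 2) U) : Prop where
  alt : ∀ v, γ v v = 0
  nondeg : ∀ v, (∀ u, γ v u = 0) → v = 0

namespace Sy

variable {γ : LinearMap.BilinForm (ZMod 2) U}

theorem comm (S : Sy γ) (u v : U) : γ u v = γ v u := by
  have h := S.alt (u + v)
  rw [map_add, map_add, LinearMap.add_apply, LinearMap.add_apply, S.alt, S.alt, zero_add,
    add_zero] at h
  exact (CharTwo.add_eq_zero.1 h).symm

/-- every linear functional is `γ y` -/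
theorem exists_rep [Finite U] (S : Sy γ) (φ : U →ₗ[ZMod 2] ZMod 2) : ∃ y, ∀ v, γ y v = φ v := by
  have hinj : Function.Injective (γ : U →ₗ[ZMod 2] (U →ₗ[ZMod 2] ZMod 2)) := by
    rw [injective_iff_map_eq_zero]
    intro v hv
    exact S.nondeg v fun u => by rw [hv]; rfl
  have hfd : FiniteDimensional (ZMod 2) U := Module.Finite.of_finite
  have hsurj : Function.Surjective (γ : U →ₗ[ZMod 2] (U →ₗ[ZMod 2] ZMod 2)) :=
    (LinearMap.injective_iff_surjective_of_finrank_eq_finrank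
      (by rw [Subspace.dual_finrank_eq] : Module.finrank (ZMod 2) U
        = Module.finrank (ZMod 2) (Module.Dual (ZMod 2) U))).1 hinj
  obtain ⟨y, hy⟩ := hsurj φ
  exact ⟨y, fun v => by rw [hy]⟩

/-- separation -/
theorem exists_sep [Finite U] (S : Sy γ) {W : Submodule (ZMod 2) U} {v : U} (hv : v ∉ W) :
    ∃ y, γ y v = 1 ∧ ∀ u ∈ W, γ y u = 0 := by
  obtain ⟨φ, hφ, hW⟩ := Submodule.exists_le_ker_of_notMem hv
  obtain ⟨y, hy⟩ := S.exists_rep φ
  refine ⟨y, ?_, fun u hu => ?_⟩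
  · rw [hy]; exact z2_ne hφ
  · rw [hy]; exact hW hu

theorem exists_one [Finite U] (S : Sy γ) {v : U} (hv : v ≠ 0) : ∃ y, γ y v = 1 := by
  obtain ⟨y, hy, -⟩ := S.exists_sep (W := ⊥) (v := v) (by simpa using hv)
  exact ⟨y, hy⟩

theorem mem_pair {u v x : U} (h : x ∈ Submodule.span (ZMod 2) {u, v}) :
    x = 0 ∨ x = u ∨ x = v ∨ x = u + v := by
  obtain ⟨α, β, rfl⟩ := Submodule.mem_span_pair.1 h
  rcases z2 α with rfl | rfl <;> rcases z2 β with rfl | rfl <;> simp

theorem mem_single {u x : U} (h : x ∈ Submodule.span (ZMod 2) {u}) : x = 0 ∨ x = u := by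
  obtain ⟨α, rfl⟩ := Submodule.mem_span_singleton.1 h
  rcases z2 α with rfl | rfl <;> simp

/-- `y ⊥ u`, `γ(y,v) = 1` for `v ∉ ⟨u⟩` -/
theorem exists_sep1 [Finite U] (S : Sy γ) {u v : U} (h0 : v ≠ 0) (h1 : v ≠ u) :
    ∃ y, γ y v = 1 ∧ γ y u = 0 := by
  obtain ⟨y, hy, hW⟩ := S.exists_sep (W := Submodule.span (ZMod 2) {u}) (v := v)
    (fun h => (mem_single h).elim h0 h1)
  exact ⟨y, hy, hW u (Submodule.mem_span_singleton_self u)⟩

/-- `y ⊥ u₁, u₂`, `γ(y,v) = 1` for `v ∉ ⟨u₁, u₂⟩` -/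
theorem exists_sep2 [Finite U] (S : Sy γ) {u₁ u₂ v : U} (h0 : v ≠ 0) (h1 : v ≠ u₁) (h2 : v ≠ u₂)
    (h3 : v ≠ u₁ + u₂) : ∃ y, γ y v = 1 ∧ γ y u₁ = 0 ∧ γ y u₂ = 0 := by
  obtain ⟨y, hy, hW⟩ := S.exists_sep (W := Submodule.span (ZMod 2) {u₁, u₂}) (v := v)
    (fun h => by
      rcases mem_pair h with h | h | h | h
      · exact h0 h
      · exact h1 h
      · exact h2 h
      · exact h3 h)
  exact ⟨y, hy, hW _ (Submodule.subset_span (by simp)), hW _ (Submodule.subset_span (by simp))⟩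

/-- two functionals prescribed on independent vectors -/
theorem exists_two [Finite U] (S : Sy γ) {u v : U} (hu : u ≠ 0) (hv : v ≠ 0) (huv : v ≠ u) (α β : ZMod 2) :
    ∃ y, γ y u = α ∧ γ y v = β := by
  obtain ⟨y1, h1, h2⟩ := S.exists_sep1 hv huv
  obtain ⟨y2, h3, h4⟩ := S.exists_sep1 hu (Ne.symm huv)
  refine ⟨α • y2 + β • y1, ?_, ?_⟩ <;>
    simp only [map_add, map_smul, LinearMap.add_apply, LinearMap.smul_apply, h1, h2, h3, h4, smul_eq_mul] <;>
    ring

/-- in dimension `≥ 5` the space `⟨u,v⟩^⊥` contains `w, w'` with `γ(w,w') = 1` -/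
theorem exists_hyp [Finite U] (S : Sy γ) (hd : 2 ^ 5 ≤ Nat.card U) (u v : U) :
    ∃ w w', γ u w = 0 ∧ γ v w = 0 ∧ γ u w' = 0 ∧ γ v w' = 0 ∧ γ w w' = 1 := by
  classical
  -- the map `U → ZMod 2 × ZMod 2`
  have hfd : FiniteDimensional (ZMod 2) U := Module.Finite.of_finite
  let P : Submodule (ZMod 2) U := (LinearMap.ker (γ u)) ⊓ (LinearMap.ker (γ v))
  have hP : ∀ x, x ∈ P ↔ γ u x = 0 ∧ γ v x = 0 := fun x => by
    simp [P, Submodule.mem_inf, LinearMap.mem_ker]
  -- `|P| ≥ 8`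
  have hcardP : 8 ≤ Nat.card P := by
    let g : U →ₗ[ZMod 2] (ZMod 2 × ZMod 2) := (γ u).prod (γ v)
    have hker : LinearMap.ker g = P := by
      ext x
      rw [hP, LinearMap.mem_ker, LinearMap.prod_apply, Prod.ext_iff]
      exact Iff.rfl
    have h1 := Submodule.card_eq_card_quotient_mul_card (LinearMap.ker g)
    have h2 : Nat.card (U ⧸ LinearMap.ker g) ≤ 4 := by
      have h3 : Nat.card (U ⧸ LinearMap.ker g) = Nat.card (LinearMap.range g) :=
        Nat.card_congr g.quotKerEquivRange.toEquiv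
      rw [h3]
      have h4 : Nat.card (LinearMap.range g) ≤ Nat.card (ZMod 2 × ZMod 2) :=
        Nat.card_le_card_of_injective _ Subtype.val_injective
      have h5 : Nat.card (ZMod 2 × ZMod 2) = 4 := by
        rw [Nat.card_prod, Nat.card_zmod]
      omega
    rw [hker] at h1 h2
    by_contra hcon
    push Not at hcon
    have : Nat.card U < 2 ^ 5 := by
      rw [h1]
      calc Nat.card P * Nat.card (U ⧸ P) ≤ Nat.card P * 4 := Nat.mul_le_mul_left _ h2
        _ < 2 ^ 5 := by omega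
    omega
  -- an element of `P` outside `⟨u, v⟩`
  obtain ⟨w, hw, hn⟩ : ∃ w ∈ P, w ∉ Submodule.span (ZMod 2) {u, v} := by
    by_contra hcon
    push Not at hcon
    have hle : P ≤ Submodule.span (ZMod 2) {u, v} := hcon
    have h1 : Nat.card P ≤ 4 := by
      let S4 : Finset U := {0, u, v, u + v}
      have h2 : ∀ x : P, (x : U) ∈ S4 := by
        intro x
        have := mem_pair (hle x.2)
        simpa [S4] using this
      have h3 : Nat.card P ≤ Nat.card S4 :=
        Nat.card_le_card_of_injective (fun x : P => (⟨(x : U), h2 x⟩ : S4)) (fun x y h => by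
          have := congrArg (Subtype.val) h
          exact Subtype.ext this)
      have h4 : Nat.card S4 = S4.card := by simp
      have h5 : S4.card ≤ 4 := Finset.card_le_four
      omega
    omega
  obtain ⟨w', h1, h2, h3⟩ := S.exists_sep2 (u₁ := u) (u₂ := v) (v := w)
    (fun h => hn (h ▸ Submodule.zero_mem _)) (fun h => hn (h ▸ Submodule.subset_span (by simp)))
    (fun h => hn (h ▸ Submodule.subset_span (by simp)))
    (fun h => hn (h ▸ Submodule.add_mem _ (Submodule.subset_span (by simp)) (Submodule.subset_span (by simp))))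
  exact ⟨w, w', ((hP w).1 hw).1, ((hP w).1 hw).2, by rw [S.comm]; exact h2, by rw [S.comm]; exact h3,
    by rw [S.comm]; exact h1⟩

end Sy

/-- the map `v ↦ v + γ(u,v) w + γ(w,v) u + l γ(u,v) u` -/
def rr (γ : LinearMap.BilinForm (ZMod 2) U) (u w : U) (l : ZMod 2) (v : U) : U :=
  v + γ u v • w + γ w v • u + (l * γ u v) • u

/-- the family -/
structure FF (γ : LinearMap.BilinForm (ZMod 2) U) (O : Set U) (f : U → U → ZMod 2)
    (𝒢 : Subgroup (U ≃ₗ[ZMod 2] U)) : Prop where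
  sy : Sy γ
  card : 2 ^ 5 ≤ Nat.card U
  zero : (0 : U) ∉ O
  span : Submodule.span (ZMod 2) O = ⊤
  iso : ∀ g ∈ 𝒢, ∀ u v, γ (g u) (g v) = γ u v
  mem : ∀ g ∈ 𝒢, ∀ u ∈ O, g u ∈ O
  trans : ∀ u ∈ O, ∀ v ∈ O, ∃ g ∈ 𝒢, g u = v
  f_add : ∀ u ∈ O, ∀ w w', γ u w = 0 → γ u w' = 0 → f u (w + w') = f u w + f u w' + γ w w'
  f_self : ∀ u ∈ O, f u u = 0
  f_eqv : ∀ g ∈ 𝒢, ∀ u ∈ O, ∀ w, γ u w = 0 → f (g u) (g w) = f u w
  r_mem : ∀ u ∈ O, ∀ w, γ u w = 0 → ∃ g ∈ 𝒢, ∀ v, g v = rr γ u w (f u w) v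

namespace FF

variable {γ : LinearMap.BilinForm (ZMod 2) U} {O : Set U} {f : U → U → ZMod 2} {𝒢 : Subgroup (U ≃ₗ[ZMod 2] U)}

theorem finite (F : FF γ O f 𝒢) : Finite U :=
  Nat.finite_of_card_ne_zero (by have := F.card; omega)

theorem f_zero (F : FF γ O f 𝒢) {u : U} (hu : u ∈ O) : f u 0 = 0 := by
  have h := F.f_add u hu 0 0 (by simp) (by simp)
  rw [add_zero, map_zero] at h
  simp only [add_zero] at h
  have h2 := z2_add (f u 0)
  rw [h2] at h
  exact h

theorem r_O (F : FF γ O f 𝒢) {u w v : U} (hu : u ∈ O) (hw : γ u w = 0) (hv : v ∈ O) :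
    rr γ u w (f u w) v ∈ O := by
  obtain ⟨g, hg, he⟩ := F.r_mem u hu w hw
  rw [← he]
  exact F.mem g hg v hv

theorem exists_off (F : FF γ O f 𝒢) {u : U} (hu : u ∈ O) : ∃ c ∈ O, γ u c = 1 := by
  by_contra hcon
  push Not at hcon
  have h1 : ∀ c ∈ O, γ u c = 0 := fun c hc => (z2 _).resolve_right (hcon c hc)
  have h2 : (⊤ : Submodule (ZMod 2) U) ≤ LinearMap.ker (γ u) := by
    rw [← F.span, Submodule.span_le]
    intro c hc
    exact h1 c hc
  exact F.zero (F.sy.nondeg u (fun v => h2 (Submodule.mem_top)) ▸ hu)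

/-- all vectors off `u^⊥` in `O` for one `u ∈ O`: `O` is the set of all nonzero vectors -/
theorem full_of (F : FF γ O f 𝒢) {u : U} (hu : u ∈ O) (h : ∀ v, γ u v = 1 → v ∈ O) :
    ∀ v, v ≠ 0 → v ∈ O := by
  have := F.finite
  -- transport
  have h' : ∀ u' ∈ O, ∀ v, γ u' v = 1 → v ∈ O := by
    intro u' hu' v hv
    obtain ⟨g, hg, rfl⟩ := F.trans u hu u' hu'
    have h1 : v = g (g⁻¹ v) := by
      rw [← LinearEquiv.mul_apply, mul_inv_cancel]; rfl
    rw [h1]
    refine F.mem g hg _ (h _ ?_)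
    rw [h1, F.iso g hg] at hv
    exact hv
  intro v hv
  have hu0 : u ≠ 0 := fun h0 => F.zero (h0 ▸ hu)
  by_cases hvu : v = u
  · rw [hvu]; exact hu
  obtain ⟨y, h1, h2⟩ := F.sy.exists_two hu0 hv hvu 1 1
  exact h' y (h y (by rw [F.sy.comm]; exact h1)) v h2

/-- `O` is not the set of all nonzero vectors -/
theorem not_full (F : FF γ O f 𝒢) (hO : ∀ v, v ≠ 0 → v ∈ O) : False := by
  have := F.finite
  have S := F.sy
  have hne : ∀ v ∈ O, v ≠ 0 := fun v hv h0 => F.zero (h0 ▸ hv)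
  -- transvections
  have htv : ∀ t : U, t ≠ 0 → (∃ g ∈ 𝒢, ∀ v, g v = v + γ t v • t) → False := by
    intro t ht ⟨g, hg, he⟩
    -- all transvections are in `𝒢`
    have hall : ∀ s, s ≠ 0 → ∃ g ∈ 𝒢, ∀ v, g v = v + γ s v • s := by
      intro s hs
      obtain ⟨k, hk, rfl⟩ := F.trans t (hO t ht) s (hO s hs)
      refine ⟨k * g * k⁻¹, mul_mem (mul_mem hk hg) (inv_mem hk), fun v => ?_⟩
      have h1 : k (k⁻¹ v) = v := by
        rw [← LinearEquiv.mul_apply, mul_inv_cancel]; rfl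
      rw [LinearEquiv.mul_apply, LinearEquiv.mul_apply, he, map_add, h1, map_smul]
      congr 2
      rw [← F.iso k hk, h1]
    -- choose `u`, `w, w'` in `u^⊥`
    obtain ⟨c, d, -, -, -, -, hcd⟩ := S.exists_hyp F.card t t
    have hu := hO t ht
    -- every `v ∈ u^⊥`, not in `⟨u⟩`, has `f u v = 1`
    have key : ∀ v, γ t v = 0 → v ≠ 0 → v ≠ t → f t v = 1 := by
      intro v hv h0 h1
      obtain ⟨y, h2, h3⟩ := S.exists_sep1 h0 h1
      obtain ⟨g', hg', he'⟩ := hall v h0
      have hty : γ t y = 0 := by rw [S.comm]; exact h3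
      have h4 := F.f_eqv g' hg' t hu y hty
      rw [he', he', S.comm v t, hv, zero_smul, add_zero, S.comm v y, h2, one_smul,
        F.f_add t hu y v hty hv, h2] at h4
      rcases z2 (f t v) with h5 | h5
      · rw [h5, add_zero] at h4
        exfalso
        have : (1 : ZMod 2) = 0 := by
          calc (1 : ZMod 2) = f t y + (f t y + 1) := by rw [← add_assoc, z2_add, zero_add]
            _ = f t y + f t y := by rw [h4]
            _ = 0 := z2_add _
        exact absurd this (by decide)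
      · exact h5
    -- `v, v' ∈ u^⊥` perpendicular
    obtain ⟨v, v1, h1, -, h2, -, h3⟩ := S.exists_hyp F.card t t
    have hv0 : v ≠ 0 := by rintro rfl; simp at h3
    have hvt : v ≠ t := by
      rintro rfl
      rw [h2] at h3
      exact absurd h3 (by decide)
    -- `v' ⊥ t, v`, not in `⟨t, v⟩`
    obtain ⟨x, x', h4, h5, -, -, h6⟩ := S.exists_hyp F.card t v
    -- `x ⊥ t, v`; `x ∉ ⟨t, v⟩`
    obtain ⟨x2, x3, h7, h8, h9, h10, h11⟩ := S.exists_hyp F.card t v
    have e1 : γ t x2 = 0 := h7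
    have hx0 : x2 ≠ 0 := by rintro rfl; simp at h11
    have hxt : x2 ≠ t := by
      rintro rfl
      rw [h9] at h11
      exact absurd h11 (by decide)
    have hxv : x2 ≠ v := by
      rintro rfl
      rw [h10] at h11
      exact absurd h11 (by decide)
    have hxs : v + x2 ≠ t := by
      intro h
      have h12 : γ (v + x2) x3 = 1 := by
        rw [map_add, LinearMap.add_apply, h10, h11, zero_add]
      rw [h, h9] at h12
      exact absurd h12 (by decide)
    have h12 := F.f_add t hu v x2 h1 h7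
    rw [key v h1 hv0 hvt, key x2 h7 hx0 hxt, h8,
      key (v + x2) (by rw [map_add, h1, h7, add_zero]) (fun h => hxv (add_eq_zero.1 h).symm) hxs] at h12
    exact absurd h12 (by decide)
  -- symmetry of `f`
  have hsym0 : ∀ u w, u ≠ 0 → w ≠ 0 → γ u w = 0 → f u w = 0 → f w u = 0 := by
    intro u w hu hw huw h0
    rcases z2 (f w u) with h1 | h1
    · exact h1
    · exfalso
      obtain ⟨g, hg, he⟩ := F.r_mem u (hO u hu) w huw
      obtain ⟨k, hk, hek⟩ := F.r_mem w (hO w hw) u (by rw [S.comm]; exact huw)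
      apply htv w hw
      refine ⟨g * k, mul_mem hg hk, fun v => ?_⟩
      rw [LinearEquiv.mul_apply, hek, he, h0, h1]
      simp only [rr, zero_mul, zero_smul, add_zero, one_mul, map_add, map_smul, huw, S.alt,
        smul_eq_mul, mul_zero, S.comm w u]
      have e1 : γ u v • w + γ u v • w = 0 := add_self _
      have e2 : γ w v • u + γ w v • u = 0 := add_self _
      calc v + γ w v • u + γ u v • w + γ w v • w + γ u v • w + γ w v • u
          = v + γ w v • w + (γ u v • w + γ u v • w) + (γ w v • u + γ w v • u) := by abel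
        _ = _ := by rw [e1, e2, add_zero, add_zero]
  have hsym : ∀ u w, u ≠ 0 → w ≠ 0 → γ u w = 0 → f w u = f u w := by
    intro u w hu hw huw
    rcases z2 (f u w) with h1 | h1
    · rw [h1]; exact hsym0 u w hu hw huw h1
    · rcases z2 (f w u) with h2 | h2
      · have := hsym0 w u hw hu (by rw [S.comm]; exact huw) h2
        rw [h1] at this
        exact absurd this (by decide)
      · rw [h1, h2]
  -- the final contradiction
  obtain ⟨c, d, -, -, -, -, hcd⟩ := S.exists_hyp F.card 0 0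
  have hc0 : c ≠ 0 := by rintro rfl; simp at hcd
  -- `v ⊥ c`, independent
  obtain ⟨v, v1, h1, -, h2, -, h3⟩ := S.exists_hyp F.card c c
  have hv0 : v ≠ 0 := by rintro rfl; simp at h3
  have hvc : v ≠ c := by
    rintro rfl
    rw [h2] at h3
    exact absurd h3 (by decide)
  have hcv : c + v ≠ 0 := fun h => hvc (add_eq_zero.1 h).symm
  obtain ⟨w, w', h4, h5, h6, h7, h8⟩ := S.exists_hyp F.card c v
  have hw0 : w ≠ 0 := by rintro rfl; simp at h8
  have hw'0 : w' ≠ 0 := by rintro rfl; simp at h8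
  have hww : w + w' ≠ 0 := by
    intro h
    rw [add_eq_zero.1 h, S.alt] at h8
    exact absurd h8 (by decide)
  have lin : ∀ y, y ≠ 0 → γ c y = 0 → γ v y = 0 → f (c + v) y = f c y + f v y := by
    intro y hy h9 h10
    rw [← hsym (c + v) y hcv hy (by rw [map_add, LinearMap.add_apply, h9, h10, add_zero]),
      F.f_add y (hO y hy) c v (by rw [S.comm]; exact h9) (by rw [S.comm]; exact h10), h1,
      hsym c y hc0 hy h9, hsym v y hv0 hy h10, add_zero]
  have e1 := lin w hw0 h4 h5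
  have e2 := lin w' hw'0 h6 h7
  have e3 := lin (w + w') hww (by rw [map_add, h4, h6, add_zero]) (by rw [map_add, h5, h7, add_zero])
  rw [F.f_add (c + v) (hO _ hcv) w w' (by rw [map_add, LinearMap.add_apply, h4, h5, add_zero])
    (by rw [map_add, LinearMap.add_apply, h6, h7, add_zero]), F.f_add c (hO _ hc0) w w' h4 h6,
    F.f_add v (hO _ hv0) w w' h5 h7, e1, e2, h8] at e3
  have : (1 : ZMod 2) = 0 := by
    have h9 : f c w + f v w + (f c w' + f v w') + 1 = f c w + f v w + (f c w' + f v w') := by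
      rw [e3]
      have : (1 : ZMod 2) + 1 = 0 := by decide
      calc f c w + f c w' + 1 + (f v w + f v w' + 1)
          = f c w + f v w + (f c w' + f v w') + (1 + 1) := by ring
        _ = _ := by rw [this, add_zero]
    exact left_eq_add.1 h9.symm |>.symm ▸ rfl
  exact absurd this (by decide)

/-- `c + u ∉ O` for `u, c ∈ O`, `γ(u,c) = 1` -/
theorem add_notMem (F : FF γ O f 𝒢) {u c : U} (hu : u ∈ O) (hc : c ∈ O) (huc : γ u c = 1) : c + u ∉ O := by
  intro h
  have S := F.sy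
  apply F.not_full
  apply F.full_of hu
  intro v hv
  -- `v = c + y + λ u`
  set y := v + c + γ v c • u with hy
  have hcu : γ c u = 1 := by rw [S.comm]; exact huc
  have h1 : γ u y = 0 := by
    rw [hy, map_add, map_add, map_smul, hv, huc, S.alt, smul_zero, add_zero]; decide
  have h2 : γ c y = 0 := by
    rw [hy, map_add, map_add, map_smul, S.alt, hcu, S.comm v c, smul_eq_mul, mul_one, add_zero, z2_add]
  have h3 := F.r_O hu h1 hc
  have h4 := F.r_O hu h1 h
  have e3 : rr γ u y (f u y) c = v + (γ v c + f u y) • u := by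
    rw [rr, huc, one_smul, S.comm y c, h2, zero_smul, add_zero, mul_one, hy, add_smul]
    calc c + (v + c + γ v c • u) + f u (v + c + γ v c • u) • u
        = v + (c + c) + (γ v c • u + f u (v + c + γ v c • u) • u) := by abel
      _ = _ := by rw [add_self, add_zero]
  have e4 : rr γ u y (f u y) (c + u) = v + (γ v c + f u y + 1) • u := by
    rw [rr, map_add, huc, S.alt, add_zero, one_smul, map_add, S.comm y c, h2, S.comm y u, h1, add_zero,
      zero_smul, add_zero, mul_one, hy, add_smul, add_smul, one_smul]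
    calc c + u + (v + c + γ v c • u) + f u (v + c + γ v c • u) • u
        = v + (c + c) + (γ v c • u + f u (v + c + γ v c • u) • u + u) := by abel
      _ = _ := by rw [add_self, add_zero]
  rcases z2 (γ v c + f u y) with h5 | h5
  · rw [e3, h5, zero_smul, add_zero] at h3
    exact h3
  · rw [e4, h5, show (1 : ZMod 2) + 1 = 0 by decide, zero_smul, add_zero] at h4
    exact h4

/-- `f u = f c` on `⟨u, c⟩^⊥` -/
theorem f_eq (F : FF γ O f 𝒢) {u c w : U} (hu : u ∈ O) (hc : c ∈ O) (huc : γ u c = 1) (huw : γ u w = 0)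
    (hcw : γ c w = 0) : f u w = f c w := by
  have S := F.sy
  have hcu : γ c u = 1 := by rw [S.comm]; exact huc
  have key : ∀ u c, u ∈ O → c ∈ O → γ u c = 1 → γ u w = 0 → γ c w = 0 → f c w = 1 → f u w = 1 := by
    intro u c hu hc huc huw hcw h1
    rcases z2 (f u w) with h2 | h2
    · exfalso
      have hcu : γ c u = 1 := by rw [S.comm]; exact huc
      have h3 := F.r_O hc hcw hu
      have h4 := F.r_O hu huw h3
      apply F.add_notMem hu hc huc
      have e : rr γ u w (f u w) (rr γ c w (f c w) u) = c + u := by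
        rw [h1, h2]
        simp only [rr, hcu, one_smul, S.comm w u, huw, zero_smul, add_zero, mul_one,
          map_add, S.alt, huc, zero_add, hcw, S.comm w c]
        calc u + w + c + w = c + u + (w + w) := by abel
          _ = _ := by rw [add_self, add_zero]
      rw [e] at h4
      exact h4
    · exact h2
  rcases z2 (f u w) with h1 | h1 <;> rcases z2 (f c w) with h2 | h2
  · rw [h1, h2]
  · rw [key u c hu hc huc huw hcw h2, h2]
  · rw [h1, key c u hc hu hcu hcw huw h1]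
  · rw [h1, h2]

/-- the quadratic form of a hyperbolic pair -/
def QQ (γ : LinearMap.BilinForm (ZMod 2) U) (f : U → U → ZMod 2) (u c : U) (v : U) : ZMod 2 :=
  γ v c * γ u v + f u (v + γ v c • u + γ u v • c)

theorem QQ_proj (F : FF γ O f 𝒢) {u c : U} (huc : γ u c = 1) (v : U) :
    γ u (v + γ v c • u + γ u v • c) = 0 ∧ γ c (v + γ v c • u + γ u v • c) = 0 := by
  have S := F.sy
  have hcu : γ c u = 1 := by rw [S.comm]; exact huc
  refine ⟨?_, ?_⟩
  · rw [map_add, map_add, map_smul, map_smul, S.alt, huc, smul_zero, add_zero, smul_eq_mul, mul_one, z2_add]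
  · rw [map_add, map_add, map_smul, map_smul, S.alt, hcu, smul_zero, add_zero, smul_eq_mul, mul_one, S.comm v c,
      z2_add]

theorem QQ_add (F : FF γ O f 𝒢) {u c : U} (hu : u ∈ O) (huc : γ u c = 1) (v v' : U) :
    QQ γ f u c (v + v') = QQ γ f u c v + QQ γ f u c v' + γ v v' := by
  have S := F.sy
  have hcu : γ c u = 1 := by rw [S.comm]; exact huc
  have e : v + v' + γ (v + v') c • u + γ u (v + v') • c
      = (v + γ v c • u + γ u v • c) + (v' + γ v' c • u + γ u v' • c) := by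
    rw [map_add, map_add, LinearMap.add_apply, add_smul, add_smul]
    abel
  have e2 : γ (v + γ v c • u + γ u v • c) (v' + γ v' c • u + γ u v' • c)
      = γ v v' + γ v c * γ u v' + γ u v * γ v' c := by
    simp only [map_add, map_smul, LinearMap.add_apply, LinearMap.smul_apply, smul_eq_mul, S.alt, huc, hcu,
      mul_one, mul_zero, add_zero, S.comm v u, S.comm c v']
    have h2 := z2_add (γ v c * γ u v')
    have h3 := z2_add (γ u v * γ v' c)
    linear_combination h2 + h3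
  simp only [QQ]
  rw [e, F.f_add u hu _ _ (F.QQ_proj huc v).1 (F.QQ_proj huc v').1, e2]
  simp only [map_add, LinearMap.add_apply]
  have h2 := z2_add (γ v c * γ u v')
  have h3 := z2_add (γ u v * γ v' c)
  linear_combination h2 + h3

theorem QQ_u (F : FF γ O f 𝒢) {u c : U} (hu : u ∈ O) (huc : γ u c = 1) : QQ γ f u c u = 0 := by
  have S := F.sy
  rw [QQ, S.alt, mul_zero, huc, one_smul, zero_smul, add_zero, add_self, F.f_zero hu, add_zero]

theorem QQ_perp (F : FF γ O f 𝒢) {u c : U} (hu : u ∈ O) {w : U} (hw : γ u w = 0) :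
    QQ γ f u c w = f u w := by
  have S := F.sy
  have h : QQ γ f u c w = f u w + f u (γ w c • u) + γ w (γ w c • u) := by
    rw [QQ, hw, mul_zero, zero_smul, add_zero, zero_add,
      F.f_add u hu w (γ w c • u) hw (by rw [map_smul, S.alt, smul_zero])]
  rw [h, map_smul, S.comm w u, hw, smul_zero, add_zero]
  rcases z2 (γ w c) with h1 | h1
  · rw [h1, zero_smul, F.f_zero hu, add_zero]
  · rw [h1, one_smul, F.f_self u hu, add_zero]

theorem QQ_c (F : FF γ O f 𝒢) {u c : U} (hu : u ∈ O) (huc : γ u c = 1) : QQ γ f u c c = 0 := by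
  have S := F.sy
  rw [QQ, S.alt, zero_mul, huc, one_smul, zero_smul, add_zero, add_self, F.f_zero hu, add_zero]

theorem QQ_perp' (F : FF γ O f 𝒢) {u c : U} (hu : u ∈ O) (hc : c ∈ O) (huc : γ u c = 1) {w : U}
    (hw : γ c w = 0) : QQ γ f u c w = f c w := by
  have S := F.sy
  have h1 := F.QQ_proj huc w
  rw [S.comm w c, hw, zero_smul, add_zero] at h1
  rw [QQ, S.comm w c, hw, zero_mul, zero_add, zero_smul, add_zero,
    F.f_eq hu hc huc h1.1 h1.2, F.f_add c hc w _ hw (by rw [map_smul, S.alt, smul_zero]), map_smul,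
    S.comm w c, hw, smul_zero, add_zero]
  rcases z2 (γ u w) with h2 | h2
  · rw [h2, zero_smul, F.f_zero hc, add_zero]
  · rw [h2, one_smul, F.f_self c hc, add_zero]

end FF

/-- a quadratic form with polar form `γ` -/
structure IsQ (γ : LinearMap.BilinForm (ZMod 2) U) (Q : U → ZMod 2) : Prop where
  add : ∀ v v', Q (v + v') = Q v + Q v' + γ v v'

theorem IsQ.zero {γ : LinearMap.BilinForm (ZMod 2) U} {Q : U → ZMod 2} (h : IsQ γ Q) : Q 0 = 0 := by
  have h1 := h.add 0 0
  rw [add_zero, map_zero, z2_add] at h1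
  simpa using h1

theorem IsQ.smul {γ : LinearMap.BilinForm (ZMod 2) U} {Q : U → ZMod 2} (h : IsQ γ Q) (α : ZMod 2) (v : U) :
    Q (α • v) = α * Q v := by
  rcases z2 α with rfl | rfl
  · rw [zero_smul, h.zero, zero_mul]
  · rw [one_smul, one_mul]

/-- the Siegel map preserves `Q` -/
theorem IsQ.rr {γ : LinearMap.BilinForm (ZMod 2) U} {Q : U → ZMod 2} (h : IsQ γ Q) (S : Sy γ) {u w : U}
    (hu : Q u = 0) (hw : γ u w = 0) (v : U) : Q (rr γ u w (Q w) v) = Q v := by
  rw [RowS.rr, h.add, h.add, h.add, h.smul, h.smul, h.smul, hu]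
  simp only [map_add, map_smul, LinearMap.add_apply, LinearMap.smul_apply, smul_eq_mul, S.alt, hw,
    mul_zero, add_zero, S.comm v u, S.comm v w, S.comm w u]
  have h1 : γ u v * γ u v = γ u v := by rcases z2 (γ u v) with h | h <;> rw [h] <;> decide
  have h2 := z2_add (γ u v * Q w)
  have h3 := z2_add (γ u v * γ w v)
  linear_combination h2 + h3 + Q w * h1

namespace FF

variable {γ : LinearMap.BilinForm (ZMod 2) U} {O : Set U} {f : U → U → ZMod 2} {𝒢 : Subgroup (U ≃ₗ[ZMod 2] U)}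

theorem mem_iff_off (F : FF γ O f 𝒢) {u c : U} (hu : u ∈ O) (hc : c ∈ O) (huc : γ u c = 1) {v : U}
    (hv : γ u v = 1) : v ∈ O ↔ QQ γ f u c v = 0 := by
  have S := F.sy
  have hcu : γ c u = 1 := by rw [S.comm]; exact huc
  set y := v + c + γ v c • u with hy
  have h1 : γ u y = 0 := by
    rw [hy, map_add, map_add, map_smul, hv, huc, S.alt, smul_zero, add_zero]; decide
  have h2 : γ c y = 0 := by
    rw [hy, map_add, map_add, map_smul, S.alt, hcu, S.comm v c, smul_eq_mul, mul_one, add_zero, z2_add]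
  have hQ : QQ γ f u c v = γ v c + f u y := by
    rw [QQ, hv, mul_one, one_smul, hy]
    congr 2
    abel
  have e3 : rr γ u y (f u y) c = v + QQ γ f u c v • u := by
    rw [hQ, rr, huc, one_smul, S.comm y c, h2, zero_smul, add_zero, mul_one, add_smul]
    calc c + y + f u y • u = v + (c + c) + (γ v c • u + f u y • u) := by
          nth_rewrite 1 [hy]; abel
      _ = _ := by rw [add_self, add_zero]
  have e4 : rr γ u y (f u y) v = c + QQ γ f u c v • u := by
    have hyv : γ y v = 0 := by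
      rw [S.comm, hy, map_add, map_add, map_smul, S.alt, zero_add, S.comm v u, hv, smul_eq_mul, mul_one]
      exact z2_add _
    rw [hQ, rr, hv, one_smul, mul_one, hyv, add_smul, zero_smul, add_zero]
    calc v + y + f u y • u = c + (v + v) + (γ v c • u + f u y • u) := by
          nth_rewrite 1 [hy]; abel
      _ = _ := by rw [add_self, add_zero]
  rcases z2 (QQ γ f u c v) with h5 | h5
  · rw [h5, zero_smul, add_zero] at e3
    refine ⟨fun _ => h5, fun _ => ?_⟩
    rw [← e3]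
    exact F.r_O hu h1 hc
  · refine ⟨fun h => ?_, fun h => by rw [h5] at h; exact absurd h (by decide)⟩
    exfalso
    rw [h5, one_smul] at e4
    apply F.add_notMem hu hc huc
    rw [← e4]
    exact F.r_O hu h1 h

theorem isQ_QQ (F : FF γ O f 𝒢) {u c : U} (hu : u ∈ O) (huc : γ u c = 1) : IsQ γ (QQ γ f u c) :=
  ⟨F.QQ_add hu huc⟩

theorem QQ_swap (F : FF γ O f 𝒢) {u c : U} (hu : u ∈ O) (hc : c ∈ O) (huc : γ u c = 1) (v : U) :
    QQ γ f c u v = QQ γ f u c v := by
  have S := F.sy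
  have h1 := F.QQ_proj huc v
  rw [QQ, QQ, F.f_eq hu hc huc h1.1 h1.2, S.comm v u, S.comm v c, mul_comm]
  congr 2
  abel

theorem mem_iff (F : FF γ O f 𝒢) {u c : U} (hu : u ∈ O) (hc : c ∈ O) (huc : γ u c = 1) {v : U}
    (hv : v ≠ 0) : v ∈ O ↔ QQ γ f u c v = 0 := by
  have := F.finite
  have S := F.sy
  have hcu : γ c u = 1 := by rw [S.comm]; exact huc
  rcases z2 (γ u v) with h1 | h1
  · rcases z2 (γ c v) with h2 | h2
    · have hu0 : u ≠ 0 := fun h0 => F.zero (h0 ▸ hu)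
      have hvu : v ≠ u := by
        rintro rfl
        rw [hcu] at h2
        exact absurd h2 (by decide)
      obtain ⟨y, h3, h4⟩ := S.exists_two hu0 hv hvu 0 1
      have huy : γ u y = 0 := by rw [S.comm]; exact h3
      obtain ⟨g, hg, he⟩ := F.r_mem u hu y huy
      have h5 : g v = v + u := by
        rw [he, rr, h1, h4, zero_smul, add_zero, one_smul, mul_zero, zero_smul, add_zero]
      have h6 : v ∈ O ↔ v + u ∈ O := by
        rw [← h5]
        refine ⟨fun h => F.mem g hg v h, fun h => ?_⟩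
        have h7 := F.mem g⁻¹ (inv_mem hg) _ h
        rwa [← LinearEquiv.mul_apply, inv_mul_cancel] at h7
      have h7 : γ c (v + u) = 1 := by rw [map_add, h2, hcu, zero_add]
      rw [h6, F.mem_iff_off hc hu hcu h7, F.QQ_swap hu hc huc, F.QQ_add hu huc, F.QQ_u hu huc, S.comm v u, h1,
        add_zero, add_zero]
    · rw [F.mem_iff_off hc hu hcu h2, F.QQ_swap hu hc huc]
  · exact F.mem_iff_off hu hc huc h1

/-- **the family theorem** -/
theorem exists_Q (F : FF γ O f 𝒢) : ∃ Q : U → ZMod 2, IsQ γ Q ∧ (∀ v, v ∈ O ↔ v ≠ 0 ∧ Q v = 0) ∧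
    (∀ g ∈ 𝒢, ∀ v, Q (g v) = Q v) ∧ ∀ u ∈ O, ∀ w, γ u w = 0 → f u w = Q w := by
  have S := F.sy
  -- `O` is not empty
  have hne : ∃ u, u ∈ O := by
    by_contra hcon
    push Not at hcon
    have h1 : O = ∅ := Set.eq_empty_iff_forall_notMem.2 hcon
    have h2 := F.span
    rw [h1, Submodule.span_empty] at h2
    have h3 : Nat.card U ≤ 1 := by
      have : Subsingleton U := by
        constructor
        intro x y
        have hx : x ∈ (⊥ : Submodule (ZMod 2) U) := h2 ▸ Submodule.mem_top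
        have hy : y ∈ (⊥ : Submodule (ZMod 2) U) := h2 ▸ Submodule.mem_top
        rw [Submodule.mem_bot] at hx hy
        rw [hx, hy]
      exact Finite.card_le_one_iff_subsingleton.2 this
    have := F.card
    omega
  obtain ⟨u, hu⟩ := hne
  obtain ⟨c, hc, huc⟩ := F.exists_off hu
  have hO : ∀ v, v ∈ O ↔ v ≠ 0 ∧ QQ γ f u c v = 0 := by
    intro v
    by_cases hv : v = 0
    · subst hv
      exact ⟨fun h => absurd h F.zero, fun h => absurd rfl h.1⟩
    · rw [F.mem_iff hu hc huc hv]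
      exact ⟨fun h => ⟨hv, h⟩, fun h => h.2⟩
  have hinv : ∀ g ∈ 𝒢, ∀ v, QQ γ f u c (g v) = QQ γ f u c v := by
    intro g hg v
    by_cases hv : v = 0
    · rw [hv, map_zero]
    have hgv : g v ≠ 0 := fun h => hv ((LinearEquiv.map_eq_zero_iff g).1 h)
    have h1 : g v ∈ O ↔ v ∈ O := by
      refine ⟨fun h => ?_, fun h => F.mem g hg v h⟩
      have h7 := F.mem g⁻¹ (inv_mem hg) _ h
      rwa [← LinearEquiv.mul_apply, inv_mul_cancel] at h7
    rw [F.mem_iff hu hc huc hgv, F.mem_iff hu hc huc hv] at h1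
    rcases z2 (QQ γ f u c (g v)) with h2 | h2 <;> rcases z2 (QQ γ f u c v) with h3 | h3
    · rw [h2, h3]
    · rw [h2] at h1
      rw [h1.1 rfl] at h3
      exact absurd h3 (by decide)
    · rw [h3] at h1
      rw [h1.2 rfl] at h2
      exact absurd h2 (by decide)
    · rw [h2, h3]
  refine ⟨QQ γ f u c, F.isQ_QQ hu huc, hO, hinv, ?_⟩
  intro u' hu' w hw
  obtain ⟨g, hg, rfl⟩ := F.trans u hu u' hu'
  have h1 : w = g (g⁻¹ w) := by
    rw [← LinearEquiv.mul_apply, mul_inv_cancel]; rfl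
  have h2 : γ u (g⁻¹ w) = 0 := by
    rw [← F.iso g hg, ← h1]; exact hw
  rw [h1, F.f_eqv g hg u hu _ h2, hinv g hg, F.QQ_perp hu h2]

end FF

end Cfsg.Agent.Omega.EH3.RowS

end

-- merged: Cfsg.Agent.Omega.EH3.RowS.Abs
section

/-!
# EH3, row S (bb OMEGA #14257, #14554): the group `H₀` on `U` (helper754)

`AB σ γ a X L`: `M` acts faithfully through `σ` on the space `(U, γ)` (symmetric, nondegenerate) over `ZMod 2`;
`X` is normal in the stabiliser of the isotropic vector `a`, acts on `a^⊥` by all transvections with centre `a` and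
regularly so; `L` is a quasisimple normal subgroup with centre of odd order, `C_X(L) = 1`, `L` moves `a`.

Results: `AB.exists_off`, `AB.span_L`, `AB.alt`; `AB.exists_Q`: a quadratic form `Q` with polar form `γ`,
preserved by `M`, the nonzero singular vectors are `a^L`, all Siegel maps of `Q` are in `σ L`; `AB.X_le`, `AB.L_gen`.
-/

set_option autoImplicit false

namespace Cfsg.Agent.Omega.EH3.RowS

variable {U : Type*} [AddCommGroup U] [Module (ZMod 2) U]

/-- separation for a nondegenerate form -/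
theorem sep_of_nondeg [Finite U] {γ : LinearMap.BilinForm (ZMod 2) U} (nd : ∀ v, (∀ u, γ v u = 0) → v = 0)
    {W : Submodule (ZMod 2) U} {v : U} (hv : v ∉ W) : ∃ y, γ y v = 1 ∧ ∀ u ∈ W, γ y u = 0 := by
  have hinj : Function.Injective (γ : U →ₗ[ZMod 2] (U →ₗ[ZMod 2] ZMod 2)) := by
    rw [injective_iff_map_eq_zero]
    intro v hv
    exact nd v fun u => by rw [hv]; rfl
  have hfd : FiniteDimensional (ZMod 2) U := Module.Finite.of_finite
  have hsurj : Function.Surjective (γ : U →ₗ[ZMod 2] (U →ₗ[ZMod 2] ZMod 2)) :=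
    (LinearMap.injective_iff_surjective_of_finrank_eq_finrank
      (by rw [Subspace.dual_finrank_eq] : Module.finrank (ZMod 2) U
        = Module.finrank (ZMod 2) (Module.Dual (ZMod 2) U))).1 hinj
  obtain ⟨φ, hφ, hW⟩ := Submodule.exists_le_ker_of_notMem hv
  obtain ⟨y, hy⟩ := hsurj φ
  refine ⟨y, ?_, fun u hu => ?_⟩
  · rw [hy]; exact z2_ne hφ
  · rw [hy]; exact hW hu

theorem rr_add_u (γ : LinearMap.BilinForm (ZMod 2) U) (u w : U) (l : ZMod 2) (v : U) :
    rr γ u (w + u) l v = rr γ u w l v := by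
  simp only [rr, map_add, LinearMap.add_apply, add_smul, smul_add]
  calc v + (γ u v • w + γ u v • u) + (γ w v • u + γ u v • u) + (l * γ u v) • u
      = v + γ u v • w + γ w v • u + (l * γ u v) • u + (γ u v • u + γ u v • u) := by abel
    _ = _ := by rw [add_self, add_zero]

/-- composition of Siegel maps with the same centre -/
theorem rr_rr {γ : LinearMap.BilinForm (ZMod 2) U} {u w w' : U} {l l' : ZMod 2} (hu : γ u u = 0)
    (hw' : γ u w' = 0) (hw : γ w u = 0) (v : U) :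
    rr γ u w l (rr γ u w' l' v) = rr γ u (w + w') (l + l' + γ w w') v := by
  simp only [rr, map_add, map_smul, LinearMap.add_apply, smul_eq_mul, hu, hw', hw, mul_zero, add_zero,
    add_smul, smul_add, add_mul]
  rw [mul_comm (γ u v) (γ w w')]
  abel

/-- conjugation of Siegel maps -/
theorem rr_conj {γ : LinearMap.BilinForm (ZMod 2) U} {g : U ≃ₗ[ZMod 2] U}
    (hg : ∀ u v, γ (g u) (g v) = γ u v) {x : U ≃ₗ[ZMod 2] U} {u w : U} {l : ZMod 2}
    (hx : ∀ v, x v = rr γ u w l v) (v : U) : (g * x * g⁻¹) v = rr γ (g u) (g w) l v := by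
  have h1 : g (g⁻¹ v) = v := by
    rw [← LinearEquiv.mul_apply, mul_inv_cancel]; rfl
  rw [LinearEquiv.mul_apply, LinearEquiv.mul_apply, hx]
  simp only [rr, map_add, map_smul, h1]
  have h2 : γ u (g⁻¹ v) = γ (g u) v := by rw [← hg, h1]
  have h3 : γ w (g⁻¹ v) = γ (g w) v := by rw [← hg, h1]
  rw [h2, h3]

/-- the situation of `H₀` on `U` -/
structure AB {M : Type*} [Group M] (σ : M →* (U ≃ₗ[ZMod 2] U)) (γ : LinearMap.BilinForm (ZMod 2) U) (a : U)
    (X L : Subgroup M) : Prop where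
  inj : Function.Injective σ
  symm : ∀ u v, γ u v = γ v u
  nondeg : ∀ v, (∀ u, γ v u = 0) → v = 0
  iso : ∀ m u v, γ (σ m u) (σ m v) = γ u v
  card : 2 ^ 5 ≤ Nat.card U
  a_iso : γ a a = 0
  a_ne : a ≠ 0
  X_norm : ∀ m, σ m a = a → ∀ x ∈ X, m * x * m⁻¹ ∈ X
  X_perp : ∀ x ∈ X, ∀ u, γ a u = 0 → σ x u = u ∨ σ x u = u + a
  X_all : ∀ ψ : U →ₗ[ZMod 2] ZMod 2, ψ a = 0 → ∃ x ∈ X, ∀ u, γ a u = 0 → σ x u = u + ψ u • a
  X_inj : ∀ x ∈ X, (∀ u, γ a u = 0 → σ x u = u) → x = 1
  L_norm : L.Normal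
  L_perf : ⁅L, L⁆ = L
  L_simple : ∀ N : Subgroup M, N ≤ L → (∀ l ∈ L, ∀ n ∈ N, l * n * l⁻¹ ∈ N) →
    N = L ∨ ∀ n ∈ N, ∀ l ∈ L, l * n = n * l
  L_odd : ∀ n ∈ L, (∀ l ∈ L, l * n = n * l) → n * n = 1 → n = 1
  cen : ∀ x ∈ X, (∀ l ∈ L, l * x = x * l) → x = 1
  moves : ∃ l ∈ L, σ l a ≠ a

namespace AB

variable {M : Type*} [Group M] {σ : M →* (U ≃ₗ[ZMod 2] U)} {γ : LinearMap.BilinForm (ZMod 2) U} {a : U}
  {X L : Subgroup M}

theorem finite (A : AB σ γ a X L) : Finite U :=
  Nat.finite_of_card_ne_zero (by have := A.card; omega)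

theorem σ_mul (_A : AB σ γ a X L) (m n : M) (v : U) : σ (m * n) v = σ m (σ n v) := by
  rw [map_mul]; rfl

theorem σ_one (_A : AB σ γ a X L) (v : U) : σ 1 v = v := by rw [map_one]; rfl

theorem σ_inv (A : AB σ γ a X L) (m : M) (v : U) : σ m⁻¹ (σ m v) = v := by
  rw [← A.σ_mul, inv_mul_cancel, A.σ_one]

theorem σ_inv' (A : AB σ γ a X L) (m : M) (v : U) : σ m (σ m⁻¹ v) = v := by
  rw [← A.σ_mul, mul_inv_cancel, A.σ_one]

theorem ext (A : AB σ γ a X L) {m n : M} (h : ∀ v, σ m v = σ n v) : m = n :=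
  A.inj (LinearEquiv.ext h)

theorem sep (A : AB σ γ a X L) {w : U} (h0 : w ≠ 0) (h1 : w ≠ a) : ∃ y, γ a y = 0 ∧ γ y w = 1 := by
  have := A.finite
  obtain ⟨y, hy, hW⟩ := sep_of_nondeg A.nondeg (W := Submodule.span (ZMod 2) {a}) (v := w)
    (fun h => (Sy.mem_single h).elim h0 h1)
  exact ⟨y, by rw [A.symm]; exact hW a (Submodule.mem_span_singleton_self a), hy⟩

theorem exists_c (A : AB σ γ a X L) : ∃ c, γ a c = 1 := by
  by_contra hcon
  push Not at hcon
  exact A.a_ne (A.nondeg a fun u => (z2 _).resolve_right (hcon u))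

/-- vectors orthogonal to `a^⊥` -/
theorem eq_of_perp (A : AB σ γ a X L) {w : U} (h : ∀ u, γ a u = 0 → γ w u = 0) : w = 0 ∨ w = a := by
  by_contra hcon
  push Not at hcon
  obtain ⟨y, h1, h2⟩ := A.sep hcon.1 hcon.2
  have := h y h1
  rw [A.symm, h2] at this
  exact absurd this (by decide)

theorem X_a (A : AB σ γ a X L) {x : M} (hx : x ∈ X) : σ x a = a := by
  rcases A.X_perp x hx a A.a_iso with h | h
  · exact h
  · exfalso
    rw [add_self] at h
    exact A.a_ne ((LinearEquiv.map_eq_zero_iff _).1 h)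

/-- the elements of `X` are Siegel maps -/
theorem X_form (A : AB σ γ a X L) {x : M} (hx : x ∈ X) :
    ∃ w l, γ a w = 0 ∧ ∀ v, σ x v = rr γ a w l v := by
  obtain ⟨c, hc⟩ := A.exists_c
  set y := σ x c + c with hy
  have h1 : γ a y = 0 := by
    have h2 : γ a (σ x c) = 1 := by
      nth_rewrite 1 [← A.X_a hx]
      rw [A.iso, hc]
    rw [hy, map_add, h2, hc]; decide
  have hxc : σ x c = c + y := by rw [hy, add_comm (σ x c) c, ← add_assoc, add_self, zero_add]
  have h2 : ∀ u, γ a u = 0 → σ x u = u + γ y u • a := by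
    intro u hu
    have key : ∀ φ : ZMod 2, σ x u = u + φ • a → γ y u = φ := by
      intro φ h
      have h3 := A.iso x c u
      rw [hxc, h] at h3
      simp only [map_add, map_smul, LinearMap.add_apply, smul_eq_mul] at h3
      rw [A.symm c a, hc, A.symm y a, h1, add_zero, mul_one] at h3
      rcases z2 (γ y u) with h4 | h4 <;> rcases z2 φ with h5 | h5
      · rw [h4, h5]
      · rw [h4, h5, add_zero] at h3
        have : (1 : ZMod 2) = 0 := by
          calc (1 : ZMod 2) = γ c u + (γ c u + 1) := by rw [← add_assoc, z2_add, zero_add]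
            _ = γ c u + γ c u := by rw [h3]
            _ = 0 := z2_add _
        exact absurd this (by decide)
      · rw [h4, h5, add_zero] at h3
        have : (1 : ZMod 2) = 0 := by
          calc (1 : ZMod 2) = γ c u + (γ c u + 1) := by rw [← add_assoc, z2_add, zero_add]
            _ = γ c u + γ c u := by rw [h3]
            _ = 0 := z2_add _
        exact absurd this (by decide)
      · rw [h4, h5]
    rcases A.X_perp x hx u hu with h | h
    · rw [key 0 (by rw [h, zero_smul, add_zero]), zero_smul, add_zero, h]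
    · rw [key 1 (by rw [h, one_smul]), one_smul, h]
  refine ⟨y, γ y c, h1, fun v => ?_⟩
  have h3 : γ a (v + γ a v • c) = 0 := by
    rw [map_add, map_smul, hc, smul_eq_mul, mul_one, z2_add]
  have h4 : v = γ a v • c + (v + γ a v • c) := by
    rw [add_comm v, ← add_assoc, add_self, zero_add]
  have h5 : σ x v = γ a v • (c + y) + ((v + γ a v • c) + γ y (v + γ a v • c) • a) := by
    nth_rewrite 1 [h4]
    rw [map_add, map_smul, hxc, h2 _ h3]
  rw [h5, rr, map_add, map_smul, smul_eq_mul, mul_comm (γ y c), smul_add, add_smul]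
  calc γ a v • c + γ a v • y + (v + γ a v • c + (γ y v • a + (γ a v * γ y c) • a))
      = v + γ a v • y + γ y v • a + (γ a v * γ y c) • a + (γ a v • c + γ a v • c) := by abel
    _ = _ := by rw [add_self, add_zero]

theorem X_ex (A : AB σ γ a X L) {w : U} (hw : γ a w = 0) : ∃ x ∈ X, ∃ l, ∀ v, σ x v = rr γ a w l v := by
  obtain ⟨x, hx, h1⟩ := A.X_all (γ w) (by rw [A.symm]; exact hw)
  obtain ⟨y, l, h2, h3⟩ := A.X_form hx
  refine ⟨x, hx, l, ?_⟩
  have h4 : y + w = 0 ∨ y + w = a := by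
    apply A.eq_of_perp
    intro u hu
    have h5 := h1 u hu
    rw [h3, rr, hu, zero_smul, add_zero, mul_zero, zero_smul, add_zero] at h5
    have h6 : γ y u • a = γ w u • a := add_left_cancel h5
    rw [map_add, LinearMap.add_apply]
    rcases z2 (γ y u) with h7 | h7 <;> rcases z2 (γ w u) with h8 | h8
    · rw [h7, h8, add_zero]
    · rw [h7, h8, zero_smul, one_smul] at h6; exact absurd h6.symm A.a_ne
    · rw [h7, h8, zero_smul, one_smul] at h6; exact absurd h6 A.a_ne
    · rw [h7, h8]; decide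
  rcases h4 with h4 | h4
  · rw [add_eq_zero.1 h4] at h3; exact h3
  · have : y = w + a := by rw [← h4, add_comm y w, ← add_assoc, add_self, zero_add]
    intro v
    rw [h3, this, rr_add_u]

theorem X_uniq (A : AB σ γ a X L) {w : U} (hw : γ a w = 0) {x x' : M} (hx : x ∈ X) (hx' : x' ∈ X) {l l' : ZMod 2}
    (h : ∀ v, σ x v = rr γ a w l v) (h' : ∀ v, σ x' v = rr γ a w l' v) : x = x' ∧ l = l' := by
  have hw' : γ w a = 0 := by rw [A.symm]; exact hw
  have sq : ∀ y ∈ X, ∀ z ∈ X, ∀ k k' : ZMod 2, (∀ v, σ y v = rr γ a w k v) → (∀ v, σ z v = rr γ a w k' v) →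
      y * z = 1 := by
    intro y hy z hz k k' h1 h2
    apply A.X_inj _ (mul_mem hy hz)
    intro u hu
    rw [A.σ_mul, h1, h2, rr_rr A.a_iso hw hw', rr, hu, add_self w]
    simp
  have h1 := sq x hx x' hx' l l' h h'
  have h2 := sq x' hx' x' hx' l' l' h' h'
  have h3 : x = x' := by
    rw [mul_eq_one_iff_eq_inv] at h1 h2
    rw [h1, ← h2]
  refine ⟨h3, ?_⟩
  obtain ⟨c, hc⟩ := A.exists_c
  have h4 := h c
  rw [h3, h' c, rr, rr, hc, mul_one, mul_one] at h4
  have h5 : l' • a = l • a := add_left_cancel h4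
  rcases z2 l with h7 | h7 <;> rcases z2 l' with h8 | h8
  · rw [h7, h8]
  · rw [h7, h8, zero_smul, one_smul] at h5; exact absurd h5 A.a_ne
  · rw [h7, h8, zero_smul, one_smul] at h5; exact absurd h5.symm A.a_ne
  · rw [h7, h8]

theorem X_sq (A : AB σ γ a X L) {x : M} (hx : x ∈ X) : x * x = 1 := by
  obtain ⟨w, l, h1, h2⟩ := A.X_form hx
  apply A.X_inj _ (mul_mem hx hx)
  intro u hu
  rw [A.σ_mul, h2, h2, rr_rr A.a_iso h1 (by rw [A.symm]; exact h1), rr, hu, add_self w]
  simp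

theorem X_inv (A : AB σ γ a X L) {x : M} (hx : x ∈ X) : x⁻¹ = x :=
  inv_eq_of_mul_eq_one_left (A.X_sq hx)

theorem X_comm (A : AB σ γ a X L) {x y : M} (hx : x ∈ X) (hy : y ∈ X) : x * y = y * x := by
  have h1 := A.X_inv (X.mul_mem hx hy)
  rw [mul_inv_rev, A.X_inv hx, A.X_inv hy] at h1
  exact h1.symm

/-- the span of `a^L` -/
def U0 (_A : AB σ γ a X L) : Submodule (ZMod 2) U := Submodule.span (ZMod 2) {u | ∃ l ∈ L, u = σ l a}

theorem a_mem_U0 (A : AB σ γ a X L) : a ∈ A.U0 :=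
  Submodule.subset_span ⟨1, one_mem _, (A.σ_one a).symm⟩

/-- `U0` is invariant under every `m` with `σ m a ∈ U0` -/
theorem U0_inv (A : AB σ γ a X L) {m : M} (hm : σ m a ∈ {u | ∃ l ∈ L, u = σ l a}) {u : U} (hu : u ∈ A.U0) :
    σ m u ∈ A.U0 := by
  have hn := A.L_norm
  obtain ⟨k, hk, hk'⟩ := hm
  have h : A.U0 ≤ A.U0.comap (σ m : U →ₗ[ZMod 2] U) := by
    conv_lhs => rw [U0]
    rw [Submodule.span_le]
    rintro _ ⟨l, hl, rfl⟩
    show σ m (σ l a) ∈ A.U0
    apply Submodule.subset_span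
    refine ⟨m * l * m⁻¹ * k, mul_mem (hn.conj_mem l hl m) hk, ?_⟩
    rw [A.σ_mul, ← hk', A.σ_mul, A.σ_inv, A.σ_mul]
  exact h hu

theorem U0_L (A : AB σ γ a X L) {l : M} (hl : l ∈ L) {u : U} (hu : u ∈ A.U0) : σ l u ∈ A.U0 :=
  A.U0_inv ⟨l, hl, rfl⟩ hu

theorem U0_X (A : AB σ γ a X L) {x : M} (hx : x ∈ X) {u : U} (hu : u ∈ A.U0) : σ x u ∈ A.U0 :=
  A.U0_inv ⟨1, one_mem _, by rw [A.X_a hx, A.σ_one]⟩ hu

/-- **(2)**: `a^L` is not totally isotropic -/
theorem exists_off (A : AB σ γ a X L) : ∃ l ∈ L, γ a (σ l a) = 1 := by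
  by_contra hcon
  push Not at hcon
  have h0 : ∀ l ∈ L, γ a (σ l a) = 0 := fun l hl => (z2 _).resolve_right (hcon l hl)
  have hn := A.L_norm
  -- `U0` is totally isotropic
  have hti1 : ∀ l ∈ L, ∀ u ∈ A.U0, γ (σ l a) u = 0 := by
    intro l hl u hu
    have h : A.U0 ≤ LinearMap.ker (γ (σ l a)) := by
      rw [U0, Submodule.span_le]
      rintro _ ⟨k, hk, rfl⟩
      show γ (σ l a) (σ k a) = 0
      have e : σ k a = σ l (σ (l⁻¹ * k) a) := by rw [A.σ_mul, A.σ_inv']
      rw [e, A.iso]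
      exact h0 _ (mul_mem (inv_mem hl) hk)
    exact h hu
  have hti : ∀ u ∈ A.U0, ∀ u' ∈ A.U0, γ u u' = 0 := by
    intro u hu u' hu'
    have h : A.U0 ≤ LinearMap.ker (γ u') := by
      conv_lhs => rw [U0]
      rw [Submodule.span_le]
      rintro _ ⟨k, hk, rfl⟩
      show γ u' (σ k a) = 0
      rw [A.symm]
      exact hti1 k hk u' hu'
    rw [A.symm]
    exact h hu
  obtain ⟨l₀, hl₀, hm⟩ := A.moves
  set w := σ l₀ a with hw
  have hw0 : w ≠ 0 := fun h => A.a_ne ((LinearEquiv.map_eq_zero_iff _).1 h)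
  have hwU : w ∈ A.U0 := Submodule.subset_span ⟨l₀, hl₀, rfl⟩
  obtain ⟨x, hx, lam, hxw⟩ := A.X_ex (h0 l₀ hl₀)
  -- the group `E`
  let E : Subgroup M :=
    { carrier := {m | (∀ v, σ m v + v ∈ A.U0) ∧ ∀ v, (∀ u ∈ A.U0, γ u v = 0) → σ m v = v}
      one_mem' := ⟨fun v => by rw [A.σ_one, add_self]; exact A.U0.zero_mem, fun v _ => A.σ_one v⟩
      mul_mem' := by
        rintro m n ⟨h1, h2⟩ ⟨h3, h4⟩
        refine ⟨fun v => ?_, fun v hv => by rw [A.σ_mul, h4 v hv, h2 v hv]⟩
        have e : σ (m * n) v + v = (σ m (σ n v) + σ n v) + (σ n v + v) := by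
          rw [A.σ_mul]
          calc σ m (σ n v) + v = σ m (σ n v) + (σ n v + σ n v) + v := by rw [add_self, add_zero]
            _ = _ := by abel
        rw [e]
        exact A.U0.add_mem (h1 _) (h3 _)
      inv_mem' := by
        rintro m ⟨h1, h2⟩
        refine ⟨fun v => ?_, fun v hv => ?_⟩
        · have h3 := h1 (σ m⁻¹ v)
          rw [A.σ_inv', add_comm] at h3
          exact h3
        · nth_rewrite 1 [← h2 v hv]
          exact A.σ_inv m v }
  have hE : ∀ {m}, m ∈ E ↔ (∀ v, σ m v + v ∈ A.U0) ∧ ∀ v, (∀ u ∈ A.U0, γ u v = 0) → σ m v = v :=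
    fun {m} => Iff.rfl
  have hEL : ∀ l ∈ L, ∀ m ∈ E, l * m * l⁻¹ ∈ E := by
    intro l hl m hm'
    obtain ⟨h1, h2⟩ := hE.1 hm'
    refine hE.2 ⟨fun v => ?_, fun v hv => ?_⟩
    · have e : σ (l * m * l⁻¹) v + v = σ l (σ m (σ l⁻¹ v) + σ l⁻¹ v) := by
        rw [map_add, A.σ_inv', A.σ_mul, A.σ_mul]
      rw [e]
      exact A.U0_L hl (h1 _)
    · rw [A.σ_mul, A.σ_mul, h2, A.σ_inv']
      intro u hu
      rw [← A.iso l, A.σ_inv']
      exact hv _ (A.U0_L hl hu)
  have hE2 : ∀ m ∈ E, m * m = 1 := by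
    intro m hm'
    obtain ⟨h1, h2⟩ := hE.1 hm'
    apply A.ext
    intro v
    have e : σ m v = v + (σ m v + v) := by
      rw [add_comm (σ m v) v, ← add_assoc, add_self, zero_add]
    rw [A.σ_mul, A.σ_one]
    calc σ m (σ m v) = σ m (v + (σ m v + v)) := by rw [← e]
      _ = σ m v + (σ m v + v) := by rw [map_add, h2 (σ m v + v) (fun u hu => hti u hu _ (h1 v))]
      _ = v := by rw [← add_assoc, add_self, zero_add]
  have hxE : x ∈ E := by
    refine hE.2 ⟨fun v => ?_, fun v hv => ?_⟩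
    · rw [hxw, rr]
      have e : v + γ a v • w + γ w v • a + (lam * γ a v) • a + v
          = γ a v • w + γ w v • a + (lam * γ a v) • a + (v + v) := by abel
      rw [e, add_self, add_zero]
      exact A.U0.add_mem (A.U0.add_mem (A.U0.smul_mem _ hwU) (A.U0.smul_mem _ A.a_mem_U0))
        (A.U0.smul_mem _ A.a_mem_U0)
    · rw [hxw, rr, hv a A.a_mem_U0, hv w hwU]
      simp
  -- `E ∩ L` is trivial
  have hEL1 : ∀ n ∈ E ⊓ L, n = 1 := by
    rcases A.L_simple (E ⊓ L) inf_le_right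
      (fun l hl n hn' => ⟨hEL l hl n hn'.1, hn.conj_mem n hn'.2 l⟩) with h1 | h1
    · exfalso
      have h2 : ∀ l ∈ L, l * l = 1 := by
        intro l hl
        rw [← h1] at hl
        exact hE2 l hl.1
      have h3 : ⁅L, L⁆ ≤ ⊥ := by
        rw [Subgroup.commutator_le]
        intro g hg k hk
        have i1 := eq_inv_of_mul_eq_one_left (h2 g hg)
        have i2 := eq_inv_of_mul_eq_one_left (h2 k hk)
        have i3 := h2 (g * k) (mul_mem hg hk)
        rw [Subgroup.mem_bot, commutatorElement_def, ← i1, ← i2, ← i3]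
        group
      rw [A.L_perf] at h3
      have h4 : l₀ = 1 := Subgroup.mem_bot.1 (h3 hl₀)
      apply hm
      rw [hw, h4, A.σ_one]
    · intro n hn'
      exact A.L_odd n hn'.2 (fun l hl => h1 n hn' l hl) (hE2 n hn'.1)
  have hx1 : x = 1 := by
    apply A.cen x hx
    intro l hl
    have h1 : l * x * l⁻¹ * x⁻¹ ∈ E ⊓ L := by
      refine Subgroup.mem_inf.2 ⟨E.mul_mem (hEL l hl x hxE) (E.inv_mem hxE), ?_⟩
      have h2 := L.mul_mem hl (hn.conj_mem l⁻¹ (L.inv_mem hl) x)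
      have e : l * x * l⁻¹ * x⁻¹ = l * (x * l⁻¹ * x⁻¹) := by group
      rw [e]; exact h2
    have h2 := hEL1 _ h1
    have h3 : l * x = (l * x * l⁻¹ * x⁻¹) * (x * l) := by group
    rw [h3, h2, one_mul]
  obtain ⟨y, h1, h2⟩ := A.sep hw0 hm
  have h3 := hxw y
  rw [hx1, A.σ_one, rr, h1, zero_smul, add_zero, mul_zero, zero_smul, add_zero, A.symm w y, h2, one_smul] at h3
  exact A.a_ne (left_eq_add.1 h3)

/-- the vectors orthogonal to `a^L` are `0` -/
theorem perp_L (A : AB σ γ a X L) {v : U} (hv : ∀ u ∈ A.U0, γ u v = 0) : v = 0 := by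
  by_contra h0
  obtain ⟨l, hl, hl1⟩ := A.exists_off
  have hlU : σ l a ∈ A.U0 := Submodule.subset_span ⟨l, hl, rfl⟩
  have hva : v ≠ a := by
    rintro rfl
    have := hv _ hlU
    rw [A.symm, hl1] at this
    exact absurd this (by decide)
  have := A.finite
  obtain ⟨y, h1, h2⟩ := A.sep h0 hva
  obtain ⟨x, hx, h3⟩ := A.X_all (γ y) (by rw [A.symm]; exact h1)
  have h4 := h3 v (hv a A.a_mem_U0)
  rw [h2, one_smul] at h4
  -- `σ x v ⊥ U0`
  have h5 : γ (σ l a) (σ x v) = 0 := by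
    rw [← A.σ_inv' x (σ l a), A.iso]
    exact hv _ (A.U0_X (inv_mem hx) hlU)
  rw [h4, map_add, hv _ hlU, zero_add, A.symm, hl1] at h5
  exact absurd h5 (by decide)

theorem U0_top (A : AB σ γ a X L) : A.U0 = ⊤ := by
  have := A.finite
  by_contra h
  obtain ⟨v, -, hv⟩ := SetLike.exists_of_lt (lt_top_iff_ne_top.2 h)
  obtain ⟨y, h1, h2⟩ := sep_of_nondeg A.nondeg hv
  have h3 : y = 0 := A.perp_L (fun u hu => by rw [A.symm]; exact h2 u hu)
  rw [h3] at h1
  simp at h1

theorem alt (A : AB σ γ a X L) (v : U) : γ v v = 0 := by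
  let K : Submodule (ZMod 2) U :=
    { carrier := {v | γ v v = 0}
      zero_mem' := by simp
      add_mem' := by
        intro u v hu hv
        have hu' : γ u u = 0 := hu
        have hv' : γ v v = 0 := hv
        show γ (u + v) (u + v) = 0
        rw [map_add, map_add, LinearMap.add_apply, LinearMap.add_apply, hu', hv', zero_add, add_zero, A.symm v u,
          z2_add]
      smul_mem' := by
        intro c u hu
        have hu' : γ u u = 0 := hu
        show γ (c • u) (c • u) = 0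
        rw [map_smul, map_smul, LinearMap.smul_apply, hu', smul_zero, smul_zero] }
  have h : A.U0 ≤ K := by
    rw [U0, Submodule.span_le]
    rintro _ ⟨l, hl, rfl⟩
    show γ (σ l a) (σ l a) = 0
    rw [A.iso, A.a_iso]
  have h2 : v ∈ A.U0 := by rw [A.U0_top]; exact Submodule.mem_top
  exact h h2

theorem sy (A : AB σ γ a X L) : Sy γ := ⟨A.alt, A.nondeg⟩

/-! ### the function `f` -/

/-- `rr u w l` is induced by an element of `X_u` -/
def PP (σ : M →* (U ≃ₗ[ZMod 2] U)) (γ : LinearMap.BilinForm (ZMod 2) U) (a : U) (X : Subgroup M) (u w : U)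
    (l : ZMod 2) : Prop :=
  ∃ m x, x ∈ X ∧ σ m a = u ∧ ∀ v, σ (m * x * m⁻¹) v = rr γ u w l v

theorem conj_form (A : AB σ γ a X L) {x : M} {u w : U} {l : ZMod 2} (m : M) (h : ∀ v, σ x v = rr γ u w l v)
    (v : U) : σ (m * x * m⁻¹) v = rr γ (σ m u) (σ m w) l v := by
  rw [map_mul, map_mul, map_inv]
  exact rr_conj (A.iso m) h v

theorem PP_a (A : AB σ γ a X L) {w : U} (_hw : γ a w = 0) {l : ZMod 2} :
    PP σ γ a X a w l ↔ ∃ x ∈ X, ∀ v, σ x v = rr γ a w l v := by
  constructor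
  · rintro ⟨m, x, hx, hm, h⟩
    exact ⟨m * x * m⁻¹, A.X_norm m hm x hx, h⟩
  · rintro ⟨x, hx, h⟩
    exact ⟨1, x, hx, A.σ_one a, fun v => by rw [one_mul, inv_one, mul_one]; exact h v⟩

theorem PP_eqv (A : AB σ γ a X L) (m : M) {u w : U} {l : ZMod 2} (h : PP σ γ a X u w l) :
    PP σ γ a X (σ m u) (σ m w) l := by
  obtain ⟨k, x, hx, rfl, h⟩ := h
  refine ⟨m * k, x, hx, A.σ_mul m k a, fun v => ?_⟩
  have e : m * k * x * (m * k)⁻¹ = m * (k * x * k⁻¹) * m⁻¹ := by group
  rw [e]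
  exact A.conj_form m h v

theorem PP_eqv_iff (A : AB σ γ a X L) (m : M) {u w : U} {l : ZMod 2} :
    PP σ γ a X (σ m u) (σ m w) l ↔ PP σ γ a X u w l := by
  refine ⟨fun h => ?_, A.PP_eqv m⟩
  have := A.PP_eqv m⁻¹ h
  rwa [A.σ_inv, A.σ_inv] at this

theorem PP_uniq (A : AB σ γ a X L) {u w : U} (hu : ∃ m, u = σ m a) (hw : γ u w = 0) {l l' : ZMod 2}
    (h : PP σ γ a X u w l) (h' : PP σ γ a X u w l') : l = l' := by
  obtain ⟨m, rfl⟩ := hu
  have e : w = σ m (σ m⁻¹ w) := (A.σ_inv' m w).symm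
  rw [e] at h h' hw
  rw [A.iso] at hw
  rw [A.PP_eqv_iff, A.PP_a hw] at h h'
  obtain ⟨x, hx, h1⟩ := h
  obtain ⟨y, hy, h2⟩ := h'
  exact (A.X_uniq hw hx hy h1 h2).2

theorem PP_ex (A : AB σ γ a X L) {u w : U} (hu : ∃ m, u = σ m a) (hw : γ u w = 0) :
    ∃ l, PP σ γ a X u w l := by
  obtain ⟨m, rfl⟩ := hu
  have e : w = σ m (σ m⁻¹ w) := (A.σ_inv' m w).symm
  rw [e] at hw ⊢
  rw [A.iso] at hw
  obtain ⟨x, hx, l, h⟩ := A.X_ex hw
  exact ⟨l, (A.PP_eqv_iff m).2 ((A.PP_a hw).2 ⟨x, hx, h⟩)⟩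

open Classical in
/-- the value `f u w` -/
noncomputable def ff (σ : M →* (U ≃ₗ[ZMod 2] U)) (γ : LinearMap.BilinForm (ZMod 2) U) (a : U) (X : Subgroup M)
    (u w : U) : ZMod 2 := if PP σ γ a X u w 1 then 1 else 0

theorem ff_spec (A : AB σ γ a X L) {u w : U} (hu : ∃ m, u = σ m a) (hw : γ u w = 0) :
    PP σ γ a X u w (ff σ γ a X u w) := by
  obtain ⟨l, hl⟩ := A.PP_ex hu hw
  by_cases h : PP σ γ a X u w 1
  · rw [ff, if_pos h]; exact h
  · rw [ff, if_neg h]
    rcases z2 l with rfl | rfl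
    · exact hl
    · exact absurd hl h

theorem ff_eq (A : AB σ γ a X L) {u w : U} (hu : ∃ m, u = σ m a) (hw : γ u w = 0) {l : ZMod 2}
    (h : PP σ γ a X u w l) : ff σ γ a X u w = l := A.PP_uniq hu hw (A.ff_spec hu hw) h

theorem ff_eqv (A : AB σ γ a X L) (m : M) (u w : U) : ff σ γ a X (σ m u) (σ m w) = ff σ γ a X u w := by
  by_cases h : PP σ γ a X u w 1
  · rw [ff, ff, if_pos h, if_pos ((A.PP_eqv_iff m).2 h)]
  · rw [ff, ff, if_neg h, if_neg (fun h' => h ((A.PP_eqv_iff m).1 h'))]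

theorem ff_a_self (A : AB σ γ a X L) : ff σ γ a X a a = 0 := by
  apply A.ff_eq ⟨1, (A.σ_one a).symm⟩ A.a_iso
  refine (A.PP_a A.a_iso).2 ⟨1, one_mem _, fun v => ?_⟩
  rw [A.σ_one, rr, zero_mul, zero_smul, add_zero]
  calc v = v + (γ a v • a + γ a v • a) := by rw [add_self, add_zero]
    _ = _ := by rw [add_assoc]

theorem ff_a_add (A : AB σ γ a X L) {w w' : U} (hw : γ a w = 0) (hw' : γ a w' = 0) :
    ff σ γ a X a (w + w') = ff σ γ a X a w + ff σ γ a X a w' + γ w w' := by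
  have ha : ∃ m, a = σ m a := ⟨1, (A.σ_one a).symm⟩
  obtain ⟨x, hx, h⟩ := (A.PP_a hw).1 (A.ff_spec ha hw)
  obtain ⟨y, hy, h'⟩ := (A.PP_a hw').1 (A.ff_spec ha hw')
  have hs : γ a (w + w') = 0 := by rw [map_add, hw, hw', add_zero]
  apply A.ff_eq ha hs
  refine (A.PP_a hs).2 ⟨x * y, mul_mem hx hy, fun v => ?_⟩
  rw [A.σ_mul, h, h', rr_rr A.a_iso hw' (by rw [A.symm]; exact hw)]

/-- the family of a subgroup `N ≥ L, X` -/
theorem ffFam (A : AB σ γ a X L) {N : Subgroup M} (hL : L ≤ N) (hX : X ≤ N) :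
    FF γ {u | ∃ n ∈ N, u = σ n a} (ff σ γ a X) (N.map σ) where
  sy := A.sy
  card := A.card
  zero := by
    rintro ⟨n, -, h⟩
    exact A.a_ne ((LinearEquiv.map_eq_zero_iff _).1 h.symm)
  span := by
    rw [eq_top_iff, ← A.U0_top, U0]
    apply Submodule.span_mono
    rintro _ ⟨l, hl, rfl⟩
    exact ⟨l, hL hl, rfl⟩
  iso := by
    rintro _ ⟨n, -, rfl⟩ u v
    exact A.iso n u v
  mem := by
    rintro _ ⟨n, hn, rfl⟩ _ ⟨k, hk, rfl⟩
    exact ⟨n * k, mul_mem hn hk, (A.σ_mul n k a).symm⟩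
  trans := by
    rintro _ ⟨n, hn, rfl⟩ _ ⟨k, hk, rfl⟩
    refine ⟨σ (k * n⁻¹), ⟨_, mul_mem hk (inv_mem hn), rfl⟩, ?_⟩
    rw [A.σ_mul, A.σ_inv]
  f_add := by
    rintro _ ⟨n, -, rfl⟩ w w' hw hw'
    have e : w = σ n (σ n⁻¹ w) := (A.σ_inv' n w).symm
    have e' : w' = σ n (σ n⁻¹ w') := (A.σ_inv' n w').symm
    rw [e, e', ← map_add, A.ff_eqv, A.ff_eqv, A.ff_eqv, A.iso]
    rw [e, A.iso] at hw
    rw [e', A.iso] at hw'
    exact A.ff_a_add hw hw'
  f_self := by
    rintro _ ⟨n, -, rfl⟩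
    rw [A.ff_eqv, A.ff_a_self]
  f_eqv := by
    rintro _ ⟨n, -, rfl⟩ u _ w _
    exact A.ff_eqv n u w
  r_mem := by
    rintro _ ⟨n, hn, rfl⟩ w hw
    have e : w = σ n (σ n⁻¹ w) := (A.σ_inv' n w).symm
    rw [e, A.iso] at hw
    obtain ⟨x, hx, h⟩ := (A.PP_a hw).1 (A.ff_spec ⟨1, (A.σ_one a).symm⟩ hw)
    refine ⟨σ (n * x * n⁻¹), ⟨_, mul_mem (mul_mem hn (hX hx)) (inv_mem hn), rfl⟩, fun v => ?_⟩
    have h2 := A.conj_form n h v
    rw [h2]
    nth_rewrite 4 [e]
    nth_rewrite 3 [e]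
    rw [A.ff_eqv]

/-- **the quadratic form** -/
theorem exists_Q (A : AB σ γ a X L) : ∃ Q : U → ZMod 2, IsQ γ Q ∧
    (∀ v, (∃ l ∈ L, v = σ l a) ↔ v ≠ 0 ∧ Q v = 0) ∧ (∀ m v, Q (σ m v) = Q v) ∧
    (∀ x ∈ X, ∃ w, γ a w = 0 ∧ ∀ v, σ x v = rr γ a w (Q w) v) ∧
    ∀ w, γ a w = 0 → ∃ x ∈ X, ∀ v, σ x v = rr γ a w (Q w) v := by
  have hn := A.L_norm
  obtain ⟨Q, h1, h2, h3, h4⟩ := (A.ffFam (N := ⊤) le_top le_top).exists_Q
  obtain ⟨Q', h1', h2', h3', h4'⟩ := (A.ffFam (N := L ⊔ X) le_sup_left le_sup_right).exists_Q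
  obtain ⟨l₀, hl₀, hc⟩ := A.exists_off
  -- `a^(L X) = a^L`
  have hLX : ∀ v, v ∈ {u | ∃ n ∈ L ⊔ X, u = σ n a} ↔ ∃ l ∈ L, v = σ l a := by
    intro v
    constructor
    · rintro ⟨n, hn', rfl⟩
      obtain ⟨l, hl, x, hx, rfl⟩ := Subgroup.mem_sup_of_normal_left.1 hn'
      exact ⟨l, hl, by rw [A.σ_mul, A.X_a hx]⟩
    · rintro ⟨l, hl, rfl⟩
      exact ⟨l, Subgroup.mem_sup_left hl, rfl⟩
  have ha : a ∈ {u | ∃ n ∈ (⊤ : Subgroup M), u = σ n a} := ⟨1, Subgroup.mem_top _, (A.σ_one a).symm⟩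
  have ha' : a ∈ {u | ∃ n ∈ L ⊔ X, u = σ n a} := ⟨1, one_mem _, (A.σ_one a).symm⟩
  have hc1 : Q (σ l₀ a) = 0 := ((h2 _).1 ⟨l₀, Subgroup.mem_top _, rfl⟩).2
  have hc2 : Q' (σ l₀ a) = 0 := ((h2' _).1 ⟨l₀, Subgroup.mem_sup_left hl₀, rfl⟩).2
  have hQQ : ∀ v, Q v = Q' v := by
    have hp : ∀ v, γ a v = 0 → Q v = Q' v := fun v hv => by
      rw [← h4 a ha v hv, ← h4' a ha' v hv]
    intro v
    rcases z2 (γ a v) with h | h
    · exact hp v h
    · have e : v = σ l₀ a + (v + σ l₀ a) := by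
        rw [add_comm v, ← add_assoc, add_self, zero_add]
      rw [e, h1.add, h1'.add, hc1, hc2, hp (v + σ l₀ a) (by rw [map_add, h, hc]; decide)]
  refine ⟨Q, h1, fun v => ?_, fun m v => h3 (σ m) ⟨m, Subgroup.mem_top _, rfl⟩ v, fun x hx => ?_, fun w hw => ?_⟩
  · rw [← hLX, h2', hQQ]
  · obtain ⟨w, l, hw, h⟩ := A.X_form hx
    refine ⟨w, hw, ?_⟩
    have h5 : ff σ γ a X a w = l := A.ff_eq ⟨1, (A.σ_one a).symm⟩ hw ((A.PP_a hw).2 ⟨x, hx, h⟩)
    rw [← h4 a ha w hw, h5]
    exact h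
  · obtain ⟨x, hx, h⟩ := (A.PP_a hw).1 (A.ff_spec ⟨1, (A.σ_one a).symm⟩ hw)
    refine ⟨x, hx, ?_⟩
    rw [← h4 a ha w hw]
    exact h

end AB

end Cfsg.Agent.Omega.EH3.RowS

end

-- merged: Cfsg.Agent.Mrg.Omega.EH3.RowS.AbsOf
section

/-!
# EH3, the `S₃ × Ω_w(2)`-row: the instance of helper754's `AB` (helper888)

`Tri.ab` : `AB ρ₀ gam a X₀ (L.subgroupOf H₀)` from `Cfg`, `Tri`, `L` normal quasisimple with centre of odd order.
-/

set_option autoImplicit false

namespace Cfsg.Agent.Omega.EH3.RowS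

open Subgroup

namespace Tri

variable {H V : Type*} [Group H] [AddCommGroup V] [Module (ZMod 2) V]
  {ρ : H →* (V ≃ₗ[ZMod 2] V)} {b : LinearMap.BilinForm (ZMod 2) V} {q : V → ZMod 2}
  {a : V} {D : Submodule (ZMod 2) V} {X : Subgroup H} {w : ℕ} {L : Subgroup H} {d t : H}

variable (C : Cfg ρ b q a D X w) (S : Tri ρ X L d t)
include C S

theorem ρ₀_inj : Function.Injective (ρ₀ ρ d t) := by
  intro g h hgh
  have key : ∀ u ∈ UU ρ t, ρ (g : H) u = ρ (h : H) u := by
    intro u hu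
    have h1 : ρ₀ ρ d t g ⟨u, hu⟩ = ρ₀ ρ d t h ⟨u, hu⟩ := by rw [hgh]
    exact congrArg Subtype.val h1
  apply Subtype.ext
  apply C.ext
  intro v
  obtain ⟨u1, h1, u2, h2, rfl⟩ := S.dec C v
  rw [map_add, map_add, key u1 h1, comm_om g.2, comm_om h.2, key u2 h2]

/-- the projection of `V` onto `U` -/
def pr : V →ₗ[ZMod 2] UU ρ t where
  toFun v := ⟨v + ρ d (v + ρ t v), by
    have h := S.add_t_mem C v
    rw [mem_UU] at h ⊢
    rw [map_add, S.t_om C, h]
    have : ρ t v + (v + ρ t v + ρ d (v + ρ t v)) = v + ρ d (v + ρ t v) + (ρ t v + ρ t v) := by abel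
    rw [this, C.add_self, add_zero]⟩
  map_add' u v := Subtype.ext (by
    show u + v + ρ d (u + v + ρ t (u + v)) = (u + ρ d (u + ρ t u)) + (v + ρ d (v + ρ t v))
    simp only [map_add]; abel)
  map_smul' k v := Subtype.ext (by
    show k • v + ρ d (k • v + ρ t (k • v)) = k • (v + ρ d (v + ρ t v))
    simp only [map_add, map_smul, smul_add])

theorem pr_U {u : V} (hu : u ∈ UU ρ t) : S.pr C u = ⟨u, hu⟩ := Subtype.ext (by
  show u + ρ d (u + ρ t u) = u
  rw [mem_UU.1 hu, C.add_self, map_zero, add_zero])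

omit C in
theorem perf (hq : IsQuasisimple L) :
    ⁅L.subgroupOf (HH d t), L.subgroupOf (HH d t)⁆ = L.subgroupOf (HH d t) := by
  have h1 : ⁅L, L⁆ = L := by
    have h2 := hq.1.commutator_eq_top
    have h3 : (commutator L).map L.subtype = ⁅L, L⁆ := by
      rw [_root_.commutator_def, map_commutator, ← MonoidHom.range_eq_map, range_subtype]
    rw [← h3, h2, ← MonoidHom.range_eq_map, range_subtype]
  have hinj : Function.Injective (Subgroup.map (HH d t).subtype) :=
    Subgroup.map_injective (subtype_injective _)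
  apply hinj
  rw [map_commutator, subgroupOf_map_subtype, inf_eq_left.2 S.L_le, h1]

/-- **the instance** -/
theorem ab (hN : L.Normal) (hq : IsQuasisimple L) (hZ : Odd (Nat.card (center L))) :
    AB (ρ₀ ρ d t) (gam ρ b d t) (⟨a, S.a_mem C⟩ : UU ρ t) (X.subgroupOf (HH d t))
      (L.subgroupOf (HH d t)) where
  inj := S.ρ₀_inj C
  symm := fun u v => S.gam_symm C u.2 v.2
  nondeg := (S.scfg C hN hq).nondeg
  iso := (S.scfg C hN hq).B_inv
  card := by
    rw [S.card_U C]
    exact Nat.pow_le_pow_right (by norm_num) C.five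
  a_iso := (S.scfg C hN hq).B_self _
  a_ne := (S.scfg C hN hq).a_ne
  X_norm := (S.scfg C hN hq).X_norm
  X_perp := (S.scfg C hN hq).X_perp
  X_all := by
    intro ψ hψ
    obtain ⟨x, hx, h1⟩ := C.X_all (ψ.comp (S.pr C)) (by
      rw [LinearMap.comp_apply, S.pr_U C (S.a_mem C)]; exact hψ)
    obtain ⟨y, hy, hyH, -, h2⟩ := S.X_zero C hx
    refine ⟨⟨y, hyH⟩, hy, fun u hu => Subtype.ext ?_⟩
    show ρ y (u : V) = (u : V) + ψ u • a
    rw [h2 u u.2, h1 u (S.U_le_D C u.2 hu), LinearMap.comp_apply, S.pr_U C u.2]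
  X_inj := (S.scfg C hN hq).X_semi
  L_norm := hN.subgroupOf _
  L_perf := S.perf hq
  L_simple := by
    intro N hNL hn
    have h1 : ((N.map (HH d t).subtype).subgroupOf L).Normal := by
      constructor
      rintro ⟨n, hnL⟩ hn' ⟨l, hl⟩
      rw [mem_subgroupOf] at hn' ⊢
      obtain ⟨⟨n', hn'H⟩, hn'N, he⟩ := hn'
      have he' : n' = n := he
      subst he'
      exact ⟨_, hn ⟨l, S.L_le hl⟩ hl _ hn'N, rfl⟩
    rcases Cfsg.Agent.Lib.ComponentSolvable.quasisimple_normal_cases hq h1 with h2 | h2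
    · left
      refine le_antisymm hNL ?_
      rintro ⟨l, hlH⟩ hl
      have hl' : l ∈ L := hl
      have h3 : (⟨l, hl'⟩ : L) ∈ (N.map (HH d t).subtype).subgroupOf L := by rw [h2]; trivial
      rw [mem_subgroupOf] at h3
      obtain ⟨⟨n', hn'H⟩, hn'N, he⟩ := h3
      have he' : n' = l := he
      subst he'
      exact hn'N
    · right
      rintro ⟨n, hnH⟩ hnN ⟨l, hlH⟩ hl
      have hnL : n ∈ L := hNL hnN
      have hl' : l ∈ L := hl
      have h3 : (⟨n, hnL⟩ : L) ∈ center L := h2 ⟨_, hnN, rfl⟩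
      have h4 : l * n = n * l := congrArg Subtype.val (mem_center_iff.1 h3 ⟨l, hl'⟩)
      exact Subtype.ext h4
  L_odd := by
    rintro ⟨n, hnH⟩ hnL hc hnn
    have hnL' : n ∈ L := hnL
    have h3 : (⟨n, hnL'⟩ : L) ∈ center L := mem_center_iff.2 fun l => by
      have h1 : (l : H) * n = n * l := congrArg Subtype.val (hc ⟨l, S.L_le l.2⟩ l.2)
      exact Subtype.ext h1
    have hfin := C.finite_H
    have h4 : (⟨⟨n, hnL'⟩, h3⟩ : center L) ^ 2 = 1 := by
      have h1 : n * n = 1 := congrArg Subtype.val hnn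
      rw [pow_two]
      exact Subtype.ext (Subtype.ext h1)
    have h5 : orderOf (⟨⟨n, hnL'⟩, h3⟩ : center L) ∣ 2 := orderOf_dvd_of_pow_eq_one h4
    have h6 : orderOf (⟨⟨n, hnL'⟩, h3⟩ : center L) ∣ Nat.card (center L) := orderOf_dvd_natCard _
    have h7 : orderOf (⟨⟨n, hnL'⟩, h3⟩ : center L) = 1 := by
      have h8 := Nat.dvd_gcd h5 h6
      have h9 : Nat.gcd 2 (Nat.card (center L)) = 1 := (Nat.coprime_two_left).2 hZ
      rw [h9] at h8
      exact Nat.dvd_one.1 h8
    rw [orderOf_eq_one_iff] at h7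
    exact Subtype.ext (congrArg (fun z : center L => ((z : L) : H)) h7)
  cen := by
    rintro ⟨x, hxH⟩ hx hc
    have hxX : x ∈ X := hx
    rcases S.cent_X C hN hq hxX (fun l hl => congrArg Subtype.val (hc ⟨l, S.L_le hl⟩ hl)) with h | h
    · exact Subtype.ext h
    · exact absurd (h ▸ hxH) S.t_not_mem
  moves := by
    obtain ⟨l, hl, h⟩ := S.exists_move C hN hq
    exact ⟨⟨l, S.L_le hl⟩, hl, fun h' => h (congrArg Subtype.val h')⟩

end Tri

end Cfsg.Agent.Omega.EH3.RowS

end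

-- merged: Cfsg.Agent.Omega.EH3.RowS.Gen
section

/-!
# EH3, row S (bb OMEGA #14257, #14554): `L = ⟨X^L⟩ = Ω(U, Q)` (helper754)

`QD σ γ a X L Q`: the conclusion of `AB.exists_Q` as a structure; `AB.exists_QD`.
`QD.exists_mem_L`: all Siegel maps of `(a, Q)` are induced by `L`; `QD.X_le : X ≤ L`;
`QD.exists_siegel`: all Siegel maps of `Q` are induced by `L`; `AB.closure_eq`: `L` is generated by the conjugates of `X`;
`AB.fix_X`: `C_U(X) = {0, a}`; `AB.comm_eq_one`: a linear map commuting with `L` is the identity.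
-/

set_option autoImplicit false

namespace Cfsg.Agent.Omega.EH3.RowS

variable {U : Type*} [AddCommGroup U] [Module (ZMod 2) U]

/-- a nonsingular vector of `a^⊥` is the sum of two singular vectors of `a^⊥` -/
theorem IsQ.decomp [Finite U] {γ : LinearMap.BilinForm (ZMod 2) U} {Q : U → ZMod 2} (h : IsQ γ Q) (S : Sy γ)
    (hd : 2 ^ 5 ≤ Nat.card U) {a w : U} (ha : Q a = 0) (haw : γ a w = 0) (hw : Q w = 1) :
    ∃ w₁ w₂, γ a w₁ = 0 ∧ γ a w₂ = 0 ∧ Q w₁ = 0 ∧ Q w₂ = 0 ∧ w = w₁ + w₂ := by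
  have hw0 : w ≠ 0 := by
    rintro rfl
    rw [h.zero] at hw
    exact absurd hw (by decide)
  have hwa : w ≠ a := by
    rintro rfl
    rw [ha] at hw
    exact absurd hw (by decide)
  obtain ⟨y, h1, h2⟩ := S.exists_sep1 hw0 hwa
  have hay : γ a y = 0 := by rw [S.comm]; exact h2
  -- it is enough to have a singular `y`
  suffices hs : ∃ y, γ a y = 0 ∧ γ y w = 1 ∧ Q y = 0 by
    obtain ⟨y, h3, h4, h5⟩ := hs
    refine ⟨y, w + y, h3, by rw [map_add, haw, h3, add_zero], h5, ?_, ?_⟩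
    · rw [h.add, hw, h5, S.comm w y, h4]; decide
    · rw [add_comm w y, ← add_assoc, add_self, zero_add]
  rcases z2 (Q y) with hy | hy
  · exact ⟨y, hay, h1, hy⟩
  obtain ⟨p, p', i1, i2, i3, i4, i5⟩ := S.exists_hyp hd a w
  -- make them orthogonal to `y`
  have key : ∀ p, γ a p = 0 → γ w p = 0 → γ a (p + γ p y • w) = 0 ∧ γ w (p + γ p y • w) = 0 ∧
      γ y (p + γ p y • w) = 0 := by
    intro p h3 h4
    refine ⟨?_, ?_, ?_⟩
    · rw [map_add, map_smul, h3, haw, smul_zero, add_zero]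
    · rw [map_add, map_smul, h4, S.alt, smul_zero, add_zero]
    · rw [map_add, map_smul, h1, smul_eq_mul, mul_one, S.comm y p, z2_add]
  obtain ⟨j1, j2, j3⟩ := key p i1 i2
  obtain ⟨k1, k2, k3⟩ := key p' i3 i4
  set r := p + γ p y • w with hr
  set r' := p' + γ p' y • w with hr'
  have hrr : γ r r' = 1 := by
    rw [hr, hr']
    simp only [map_add, map_smul, LinearMap.add_apply, LinearMap.smul_apply, smul_eq_mul, S.alt, i4, i5,
      S.comm p w, i2, mul_zero, add_zero]
  obtain ⟨s, h3, h4, h5, h6⟩ : ∃ s, γ a s = 0 ∧ γ w s = 0 ∧ γ y s = 0 ∧ Q s = 1 := by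
    rcases z2 (Q r) with h3 | h3
    · rcases z2 (Q r') with h4 | h4
      · refine ⟨r + r', by rw [map_add, j1, k1, add_zero], by rw [map_add, j2, k2, add_zero],
          by rw [map_add, j3, k3, add_zero], ?_⟩
        rw [h.add, h3, h4, hrr]; decide
      · exact ⟨r', k1, k2, k3, h4⟩
    · exact ⟨r, j1, j2, j3, h3⟩
  refine ⟨y + s, by rw [map_add, hay, h3, add_zero], ?_, ?_⟩
  · rw [map_add, LinearMap.add_apply, h1, S.comm s w, h4, add_zero]
  · rw [h.add, hy, h6, h5]; decide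

/-- the conclusion of `AB.exists_Q` -/
structure QD {M : Type*} [Group M] (σ : M →* (U ≃ₗ[ZMod 2] U)) (γ : LinearMap.BilinForm (ZMod 2) U) (a : U)
    (X L : Subgroup M) (Q : U → ZMod 2) : Prop where
  isQ : IsQ γ Q
  sing : ∀ v, (∃ l ∈ L, v = σ l a) ↔ v ≠ 0 ∧ Q v = 0
  inv : ∀ m v, Q (σ m v) = Q v
  X_form : ∀ x ∈ X, ∃ w, γ a w = 0 ∧ ∀ v, σ x v = rr γ a w (Q w) v
  X_ex : ∀ w, γ a w = 0 → ∃ x ∈ X, ∀ v, σ x v = rr γ a w (Q w) v

variable {M : Type*} [Group M] {σ : M →* (U ≃ₗ[ZMod 2] U)} {γ : LinearMap.BilinForm (ZMod 2) U} {a : U}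
  {X L : Subgroup M} {Q : U → ZMod 2}

theorem AB.exists_QD (A : AB σ γ a X L) : ∃ Q, QD σ γ a X L Q := by
  obtain ⟨Q, h1, h2, h3, h4, h5⟩ := A.exists_Q
  exact ⟨Q, ⟨h1, h2, h3, h4, h5⟩⟩

namespace QD

theorem Q_a (D : QD σ γ a X L Q) (A : AB σ γ a X L) : Q a = 0 :=
  ((D.sing a).1 ⟨1, one_mem _, (A.σ_one a).symm⟩).2

/-- Siegel maps with singular axis vector are in `L` -/
theorem exists_mem_L_sing (D : QD σ γ a X L Q) (A : AB σ γ a X L) {v : U} (hv : γ a v = 0) (hQ : Q v = 0) :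
    ∃ l ∈ L, ∀ u, σ l u = rr γ a v (Q v) u := by
  have hn := A.L_norm
  have S := A.sy
  have := A.finite
  rw [hQ]
  by_cases hv0 : v = 0
  · refine ⟨1, one_mem _, fun u => ?_⟩
    rw [A.σ_one, hv0, rr]; simp
  by_cases hva : v = a
  · refine ⟨1, one_mem _, fun u => ?_⟩
    rw [A.σ_one, hva, rr, zero_mul, zero_smul, add_zero, add_assoc, add_self, add_zero]
  obtain ⟨w, y, h1, h2, h3, h4, h5⟩ := S.exists_hyp A.card a v
  obtain ⟨h, hh, hf⟩ := D.X_ex w h1
  obtain ⟨l, hl, hl'⟩ := (D.sing v).2 ⟨hv0, hQ⟩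
  have hy : γ a (σ l⁻¹ y) = 0 := by
    rw [← A.iso l, A.σ_inv', ← hl']; exact h4
  obtain ⟨x, hx, hxf⟩ := D.X_ex (σ l⁻¹ y) hy
  have hk : ∀ u, σ (l * x * l⁻¹) u = rr γ v y (Q y) u := by
    intro u
    have h6 := A.conj_form l hxf u
    rw [h6, ← hl', A.σ_inv', D.inv]
  set k := l * x * l⁻¹ with hkdef
  have hka : σ k a = a := by
    rw [hk, rr, S.comm v a, hv, S.comm y a, h3]; simp
  have hkw : σ k w = w + v := by
    rw [hk, rr, h2, S.comm y w, h5]; simp
  refine ⟨h * (k * h * k⁻¹), ?_, fun u => ?_⟩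
  · -- membership in `L`
    have hinv := A.X_inv hh
    have hcm : h⁻¹ * x * h = x := by
      rw [mul_assoc, A.X_comm hx hh, ← mul_assoc, inv_mul_cancel, one_mul]
    have e : h * (k * h * k⁻¹) = (h * l * h⁻¹) * (x * ((h * l⁻¹ * h⁻¹) * l) * x⁻¹) * l⁻¹ := by
      have e1 : h * (k * h * k⁻¹) = h * l * x * l⁻¹ * h⁻¹ * l * x⁻¹ * l⁻¹ := by
        rw [hinv, hkdef]; group
      rw [e1]
      nth_rewrite 1 [← hcm]
      group
    rw [e]
    exact L.mul_mem (L.mul_mem (hn.conj_mem l hl h) (hn.conj_mem _ (L.mul_mem (hn.conj_mem _ (L.inv_mem hl) h) hl) x))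
      (L.inv_mem hl)
  · rw [A.σ_mul, hf, A.conj_form k hf, hka, hkw]
    rw [rr_rr A.a_iso (by rw [map_add, h1, hv, add_zero]) (by rw [A.symm]; exact h1), ← add_assoc, add_self,
      zero_add, map_add, A.alt, zero_add, S.comm w v, h2, z2_add, zero_add]

/-- all Siegel maps with centre `a` are in `L` -/
theorem exists_mem_L (D : QD σ γ a X L Q) (A : AB σ γ a X L) {w : U} (hw : γ a w = 0) :
    ∃ l ∈ L, ∀ u, σ l u = rr γ a w (Q w) u := by
  have := A.finite
  rcases z2 (Q w) with h | h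
  · exact D.exists_mem_L_sing A hw h
  · obtain ⟨w₁, w₂, h1, h2, h3, h4, h5⟩ := D.isQ.decomp A.sy A.card (D.Q_a A) hw h
    obtain ⟨l₁, hl₁, e₁⟩ := D.exists_mem_L_sing A h1 h3
    obtain ⟨l₂, hl₂, e₂⟩ := D.exists_mem_L_sing A h2 h4
    refine ⟨l₁ * l₂, mul_mem hl₁ hl₂, fun u => ?_⟩
    rw [A.σ_mul, e₁, e₂, rr_rr A.a_iso h2 (by rw [A.symm]; exact h1), h5, D.isQ.add]

/-- **`X ≤ L`** -/
theorem X_le (D : QD σ γ a X L Q) (A : AB σ γ a X L) : X ≤ L := by
  intro x hx
  obtain ⟨w, hw, h⟩ := D.X_form x hx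
  obtain ⟨l, hl, h'⟩ := D.exists_mem_L A hw
  have : x = l := A.ext fun v => by rw [h, h']
  rw [this]; exact hl

/-- all Siegel maps of `Q` are in `L` -/
theorem exists_siegel (D : QD σ γ a X L Q) (A : AB σ γ a X L) {u w : U} (hu : u ≠ 0) (hQ : Q u = 0)
    (hw : γ u w = 0) : ∃ l ∈ L, ∀ v, σ l v = rr γ u w (Q w) v := by
  obtain ⟨l, hl, rfl⟩ := (D.sing u).2 ⟨hu, hQ⟩
  have e : w = σ l (σ l⁻¹ w) := (A.σ_inv' l w).symm
  rw [e, A.iso] at hw
  obtain ⟨k, hk, h⟩ := D.exists_mem_L A hw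
  refine ⟨l * k * l⁻¹, mul_mem (mul_mem hl hk) (inv_mem hl), fun v => ?_⟩
  rw [A.conj_form l h, A.σ_inv', D.inv]

end QD

namespace AB

theorem exists_perp (A : AB σ γ a X L) : ∃ w, γ a w = 0 ∧ w ≠ 0 ∧ w ≠ a := by
  have := A.finite
  obtain ⟨w, w', h1, -, h2, -, h3⟩ := A.sy.exists_hyp A.card a a
  refine ⟨w, h1, ?_, ?_⟩
  · rintro rfl
    simp at h3
  · rintro rfl
    rw [h2] at h3
    exact absurd h3 (by decide)

theorem X_ne (A : AB σ γ a X L) : ∃ x ∈ X, x ≠ 1 := by
  obtain ⟨w, h1, h2, h3⟩ := A.exists_perp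
  obtain ⟨x, hx, l, h⟩ := A.X_ex h1
  obtain ⟨y, h4, h5⟩ := A.sep h2 h3
  refine ⟨x, hx, fun h0 => A.a_ne ?_⟩
  have h6 := h y
  rw [h0, A.σ_one, rr, h4, A.symm w y, h5, zero_smul, add_zero, mul_zero, zero_smul, add_zero, one_smul] at h6
  exact (left_eq_add.1 h6)

/-- `C_U(X) = {0, a}` -/
theorem fix_X (A : AB σ γ a X L) {u : U} (h : ∀ x ∈ X, σ x u = u) : u = 0 ∨ u = a := by
  by_contra hcon
  push Not at hcon
  rcases z2 (γ a u) with h1 | h1
  · obtain ⟨y, h2, h3⟩ := A.sep hcon.1 hcon.2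
    obtain ⟨x, hx, h4⟩ := A.X_all (γ y) (by rw [A.symm]; exact h2)
    have h5 := h4 u h1
    rw [h x hx, h3, one_smul] at h5
    exact A.a_ne (left_eq_add.1 h5)
  · obtain ⟨w, h2, h3, h4⟩ := A.exists_perp
    obtain ⟨x, hx, l, h5⟩ := A.X_ex h2
    have h6 := h5 u
    rw [h x hx, rr, h1, one_smul, mul_one, add_assoc, add_assoc] at h6
    have h7 : w + (γ w u • a + l • a) = 0 := left_eq_add.1 h6
    rw [add_eq_zero, ← add_smul] at h7
    rcases z2 (γ w u + l) with h8 | h8
    · rw [h8, zero_smul] at h7; exact h3 h7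
    · rw [h8, one_smul] at h7; exact h4 h7

/-- a linear automorphism commuting with `L` and fixing `a` is the identity -/
theorem eq_of_comm (A : AB σ γ a X L) {g : U →ₗ[ZMod 2] U} (h : ∀ l ∈ L, ∀ u, g (σ l u) = σ l (g u))
    (ha : g a = a) (u : U) : g u = u := by
  have h1 : A.U0 ≤ LinearMap.eqLocus g LinearMap.id := by
    rw [U0, Submodule.span_le]
    rintro _ ⟨l, hl, rfl⟩
    show g (σ l a) = σ l a
    rw [h l hl, ha]
  have h2 : u ∈ A.U0 := by rw [A.U0_top]; exact Submodule.mem_top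
  exact h1 h2

/-- `L` is generated by the `L`-conjugates of `X` -/
theorem closure_eq (A : AB σ γ a X L) :
    Subgroup.closure {g : M | ∃ l ∈ L, ∃ x ∈ X, g = l * x * l⁻¹} = L := by
  obtain ⟨Q, D⟩ := A.exists_QD
  have hXL := D.X_le A
  set N := Subgroup.closure {g : M | ∃ l ∈ L, ∃ x ∈ X, g = l * x * l⁻¹} with hN
  have hNL : N ≤ L := by
    rw [hN, Subgroup.closure_le]
    rintro _ ⟨l, hl, x, hx, rfl⟩
    exact mul_mem (mul_mem hl (hXL hx)) (inv_mem hl)
  have hXN : X ≤ N := fun x hx => Subgroup.subset_closure ⟨1, one_mem _, x, hx, by group⟩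
  have hnorm : ∀ l ∈ L, ∀ n ∈ N, l * n * l⁻¹ ∈ N := by
    intro l hl n hn
    induction hn using Subgroup.closure_induction with
    | mem y hy =>
      obtain ⟨k, hk, x, hx, rfl⟩ := hy
      apply Subgroup.subset_closure
      exact ⟨l * k, mul_mem hl hk, x, hx, by group⟩
    | one => rw [mul_one, mul_inv_cancel]; exact one_mem _
    | mul y z _ _ h1 h2 =>
      have e : l * (y * z) * l⁻¹ = (l * y * l⁻¹) * (l * z * l⁻¹) := by group
      rw [e]; exact mul_mem h1 h2
    | inv y _ h1 =>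
      have e : l * y⁻¹ * l⁻¹ = (l * y * l⁻¹)⁻¹ := by group
      rw [e]; exact inv_mem h1
  rcases A.L_simple N hNL hnorm with h | h
  · exact h
  · exfalso
    obtain ⟨x, hx, h1⟩ := A.X_ne
    exact h1 (A.cen x hx (fun l hl => h x (hXN hx) l hl))

end AB

end Cfsg.Agent.Omega.EH3.RowS

end

-- merged: Cfsg.Agent.Omega.EH3.RowS.Split
section

/-!
# EH3, row S (bb OMEGA #14257, #14554): `C_H(L) = ⟨d, t⟩`, `H = ⟨d, t⟩ × H₀` (helper754)

`SD ρ a d t X L`: the group `H` acts faithfully on `V`; `d` has order 3, `1 + d + d² = 0` on `V`, `t` is an involution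
inverting `d`, `t a = a`, `d, t` commute with the normal subgroup `L`, `X ≤ L`, `C_V(X) = {0, a, da, a + da}`, an element
commuting with `L` and fixing `a` and `da` is trivial.

`SD.mem_of_comm`: `C_H(L) = {1, d, d⁻¹, t, dt, d⁻¹t}`; `SD.exists_split`: `H = ⟨d,t⟩ · C_H(⟨d,t⟩)`.
-/

set_option autoImplicit false

namespace Cfsg.Agent.Omega.EH3.RowS

variable {H V : Type*} [Group H] [AddCommGroup V] [Module (ZMod 2) V]

/-- the situation -/
structure SD (ρ : H →* (V ≃ₗ[ZMod 2] V)) (a : V) (d t : H) (X L : Subgroup H) : Prop where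
  a_ne : a ≠ 0
  dd : ∀ v, ρ d (ρ d v) = v + ρ d v
  d3 : d * d * d = 1
  t2 : t * t = 1
  tdt : t * d * t⁻¹ = d⁻¹
  ta : ρ t a = a
  norm : L.Normal
  cd : ∀ l ∈ L, l * d = d * l
  ct : ∀ l ∈ L, l * t = t * l
  le : X ≤ L
  fix : ∀ v, (∀ x ∈ X, ρ x v = v) → v = 0 ∨ v = a ∨ v = ρ d a ∨ v = a + ρ d a
  eq_one : ∀ g : H, (∀ l ∈ L, l * g = g * l) → ρ g a = a → ρ g (ρ d a) = ρ d a → g = 1

namespace SD

variable {ρ : H →* (V ≃ₗ[ZMod 2] V)} {a : V} {d t : H} {X L : Subgroup H}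

theorem ρ_mul (_S : SD ρ a d t X L) (g h : H) (v : V) : ρ (g * h) v = ρ g (ρ h v) := by
  rw [map_mul]; rfl

theorem ρ_one (_S : SD ρ a d t X L) (v : V) : ρ 1 v = v := by
  rw [map_one]; rfl

theorem ρ_inv (S : SD ρ a d t X L) (g : H) (v : V) : ρ g⁻¹ (ρ g v) = v := by
  rw [← S.ρ_mul, inv_mul_cancel, S.ρ_one]

theorem d_inv (S : SD ρ a d t X L) : d⁻¹ = d * d := by
  rw [inv_eq_iff_mul_eq_one, ← mul_assoc]; exact S.d3

theorem ρ_d_inv (S : SD ρ a d t X L) (v : V) : ρ d⁻¹ v = v + ρ d v := by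
  rw [S.d_inv, S.ρ_mul, S.dd]

theorem t_inv (S : SD ρ a d t X L) : t⁻¹ = t := inv_eq_of_mul_eq_one_left S.t2

theorem td (S : SD ρ a d t X L) : t * d = d⁻¹ * t := by
  have h := S.tdt
  rw [mul_inv_eq_iff_eq_mul] at h
  exact h

theorem ρ_t_d (S : SD ρ a d t X L) : ρ t (ρ d a) = a + ρ d a := by
  rw [← S.ρ_mul, S.td, S.ρ_mul, S.ta, S.ρ_d_inv]

theorem ρd_ne (S : SD ρ a d t X L) : ρ d a ≠ 0 := fun h => S.a_ne ((LinearEquiv.map_eq_zero_iff _).1 h)

theorem ρd_ne_a (S : SD ρ a d t X L) : ρ d a ≠ a := by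
  intro h
  have h1 := S.dd a
  rw [h, h, add_self] at h1
  exact S.a_ne h1

theorem inv_comm (_S : SD ρ a d t X L) {g : H} (h : ∀ l ∈ L, l * g = g * l) : ∀ l ∈ L, l * g⁻¹ = g⁻¹ * l := by
  intro l hl
  have := h l hl
  calc l * g⁻¹ = g⁻¹ * (g * l) * g⁻¹ := by group
    _ = g⁻¹ * (l * g) * g⁻¹ := by rw [this]
    _ = _ := by group

theorem mul_comm' (_S : SD ρ a d t X L) {g k : H} (h : ∀ l ∈ L, l * g = g * l) (h' : ∀ l ∈ L, l * k = k * l) :
    ∀ l ∈ L, l * (g * k) = (g * k) * l := by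
  intro l hl
  rw [← mul_assoc, h l hl, mul_assoc, h' l hl, mul_assoc]

/-- the image of `a` and `d a` under an element commuting with `L` -/
theorem image (S : SD ρ a d t X L) {g : H} (h : ∀ l ∈ L, l * g = g * l) {v : V} (hv : v ≠ 0)
    (hfix : ∀ x ∈ X, ρ x v = v) : ρ g v = a ∨ ρ g v = ρ d a ∨ ρ g v = a + ρ d a := by
  have h1 : ρ g v = 0 ∨ ρ g v = a ∨ ρ g v = ρ d a ∨ ρ g v = a + ρ d a := by
    apply S.fix
    intro x hx
    rw [← S.ρ_mul, h x (S.le hx), S.ρ_mul, hfix x hx]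
  rcases h1 with h1 | h1
  · exact absurd ((LinearEquiv.map_eq_zero_iff _).1 h1) hv
  · exact h1

theorem mem_of_fix (S : SD ρ a d t X L) (hXa : ∀ x ∈ X, ρ x a = a) {g : H} (h : ∀ l ∈ L, l * g = g * l)
    (hga : ρ g a = a) : g = 1 ∨ g = t := by
  have hXd : ∀ x ∈ X, ρ x (ρ d a) = ρ d a := by
    intro x hx
    rw [← S.ρ_mul, S.cd x (S.le hx), S.ρ_mul, hXa x hx]
  rcases S.image h S.ρd_ne hXd with h1 | h1 | h1
  · exfalso
    have h2 : ρ g (ρ d a) = ρ g a := by rw [h1, hga]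
    exact S.ρd_ne_a ((ρ g).injective h2)
  · left; exact S.eq_one g h hga h1
  · right
    have h2 := S.eq_one (t * g) (S.mul_comm' S.ct h) (by rw [S.ρ_mul, hga, S.ta])
      (by rw [S.ρ_mul, h1, map_add, S.ta, S.ρ_t_d, ← add_assoc, add_self, zero_add])
    rw [← S.t_inv, inv_mul_eq_one] at h2
    exact h2.symm

/-- **`C_H(L) = ⟨d, t⟩`** -/
theorem mem_of_comm (S : SD ρ a d t X L) (hXa : ∀ x ∈ X, ρ x a = a) {g : H} (h : ∀ l ∈ L, l * g = g * l) :
    g = 1 ∨ g = t ∨ g = d ∨ g = d * t ∨ g = d⁻¹ ∨ g = d⁻¹ * t := by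
  rcases S.image h S.a_ne hXa with h1 | h1 | h1
  · rcases S.mem_of_fix hXa h h1 with h2 | h2
    · exact Or.inl h2
    · exact Or.inr (Or.inl h2)
  · -- `g a = d a`
    have h3 := S.mem_of_fix hXa (S.mul_comm' (S.inv_comm S.cd) h) (by rw [S.ρ_mul, h1, S.ρ_inv])
    rcases h3 with h3 | h3
    · rw [inv_mul_eq_one] at h3
      exact Or.inr (Or.inr (Or.inl h3.symm))
    · rw [inv_mul_eq_iff_eq_mul] at h3
      exact Or.inr (Or.inr (Or.inr (Or.inl h3)))
  · have h3 := S.mem_of_fix hXa (S.mul_comm' S.cd h) (by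
      rw [S.ρ_mul, h1, map_add, S.dd, add_comm (ρ d a), add_assoc, add_self, add_zero])
    rcases h3 with h3 | h3
    · have : g = d⁻¹ := eq_inv_of_mul_eq_one_right h3
      exact Or.inr (Or.inr (Or.inr (Or.inr (Or.inl this))))
    · have : g = d⁻¹ * t := by rw [← h3]; group
      exact Or.inr (Or.inr (Or.inr (Or.inr (Or.inr this))))

theorem comm_of_conj (S : SD ρ a d t X L) {k : H} (hk : ∀ l ∈ L, l * k = k * l) (h : H) :
    ∀ l ∈ L, l * (h * k * h⁻¹) = (h * k * h⁻¹) * l := by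
  intro l hl
  have h1 := hk _ (S.norm.conj_mem l hl h⁻¹)
  rw [inv_inv] at h1
  calc l * (h * k * h⁻¹) = h * ((h⁻¹ * l * h) * k) * h⁻¹ := by group
    _ = h * (k * (h⁻¹ * l * h)) * h⁻¹ := by rw [h1]
    _ = _ := by group

/-- **`H = ⟨d, t⟩ C_H(⟨d, t⟩)`** -/
theorem exists_split (S : SD ρ a d t X L) (hXa : ∀ x ∈ X, ρ x a = a) (h : H) :
    ∃ s ∈ Subgroup.closure {d, t}, ∃ k : H, k * d = d * k ∧ k * t = t * k ∧ h = s * k := by
  have hd : d ∈ Subgroup.closure ({d, t} : Set H) := Subgroup.subset_closure (by simp)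
  have ht : t ∈ Subgroup.closure ({d, t} : Set H) := Subgroup.subset_closure (by simp)
  have hd1 : d ≠ 1 := by
    intro h0
    apply S.ρd_ne_a
    rw [h0, S.ρ_one]
  have ht1 : t ≠ 1 := by
    intro h0
    have h1 := S.tdt
    rw [h0, one_mul, inv_one, mul_one, S.d_inv] at h1
    exact hd1 (left_eq_mul.1 h1)
  have hdd : d⁻¹ ≠ d := by
    intro h0
    rw [S.d_inv] at h0
    exact hd1 (mul_eq_left.1 h0)
  -- the conjugates of `d`
  have key : ∀ h : H, h * d * h⁻¹ = d → ∃ s ∈ Subgroup.closure ({d, t} : Set H), ∃ k : H,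
      k * d = d * k ∧ k * t = t * k ∧ h = s * k := by
    intro h hh
    have hhd : h * d = d * h := mul_inv_eq_iff_eq_mul.1 hh
    -- `h t h⁻¹ ∈ {t, dt, d⁻¹t}`
    have h2 : (h * t * h⁻¹) * (h * t * h⁻¹) = 1 := by
      have : (h * t * h⁻¹) * (h * t * h⁻¹) = h * (t * t) * h⁻¹ := by group
      rw [this, S.t2]; group
    have hne : h * t * h⁻¹ ≠ 1 := by
      intro h0
      apply ht1
      rw [mul_inv_eq_one] at h0
      exact mul_eq_left.1 h0
    rcases S.mem_of_comm hXa (S.comm_of_conj S.ct h) with h3 | h3 | h3 | h3 | h3 | h3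
    · exact absurd h3 hne
    · exact ⟨1, one_mem _, h, hhd, mul_inv_eq_iff_eq_mul.1 h3, by rw [one_mul]⟩
    · exfalso
      rw [h3] at h2
      exact hdd (inv_eq_of_mul_eq_one_left h2)
    · -- `h t h⁻¹ = d t = d⁻¹ t d`: `k = d h`
      refine ⟨d⁻¹, inv_mem hd, d * h, ?_, ?_, by group⟩
      · rw [mul_assoc, hhd]
      · have h4 : h * t = d * t * h := mul_inv_eq_iff_eq_mul.1 h3
        have h5 : d * d * t = t * d := by rw [S.td, S.d_inv]
        calc d * h * t = d * (h * t) := by group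
          _ = d * d * t * h := by rw [h4]; group
          _ = t * d * h := by rw [h5]
          _ = _ := by group
    · exfalso
      rw [h3] at h2
      apply hdd
      have := inv_eq_of_mul_eq_one_left h2
      rw [inv_inv] at this
      exact this.symm
    · -- `h t h⁻¹ = d⁻¹ t`: `k = d⁻¹ h`
      refine ⟨d, hd, d⁻¹ * h, ?_, ?_, by group⟩
      · calc d⁻¹ * h * d = d⁻¹ * (h * d) := by group
          _ = d⁻¹ * (d * h) := by rw [hhd]
          _ = _ := by group
      · have h4 : h * t = d⁻¹ * t * h := mul_inv_eq_iff_eq_mul.1 h3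
        have h5 : d⁻¹ * d⁻¹ * t = t * d⁻¹ := by
          have h6 : t * d⁻¹ = d * t := by
            have := S.td
            calc t * d⁻¹ = d * (d⁻¹ * t) * d⁻¹ := by group
              _ = d * (t * d) * d⁻¹ := by rw [this]
              _ = _ := by group
          have h7 : d⁻¹ * d⁻¹ = d := by
            rw [← mul_inv_rev, ← S.d_inv, inv_inv]
          rw [h6, h7]
        calc d⁻¹ * h * t = d⁻¹ * (h * t) := by group
          _ = d⁻¹ * d⁻¹ * t * h := by rw [h4]; group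
          _ = t * d⁻¹ * h := by rw [h5]
          _ = _ := by group
  rcases S.mem_of_comm hXa (S.comm_of_conj S.cd h) with h3 | h3 | h3 | h3 | h3 | h3
  · exfalso
    apply hd1
    rw [mul_inv_eq_one] at h3
    exact mul_eq_left.1 h3
  · exfalso
    -- `d³ = 1`, `t² = 1`
    have h4 : t * t * t = 1 := by
      rw [← h3]
      have : (h * d * h⁻¹) * (h * d * h⁻¹) * (h * d * h⁻¹) = h * (d * d * d) * h⁻¹ := by group
      rw [this, S.d3]; group
    rw [S.t2, one_mul] at h4
    exact ht1 h4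
  · exact key h h3
  · exfalso
    have h4 : (d * t) * (d * t) * (d * t) = 1 := by
      rw [← h3]
      have : (h * d * h⁻¹) * (h * d * h⁻¹) * (h * d * h⁻¹) = h * (d * d * d) * h⁻¹ := by group
      rw [this, S.d3]; group
    have h5 : (d * t) * (d * t) = 1 := by
      calc (d * t) * (d * t) = d * (t * d) * t := by group
        _ = d * (d⁻¹ * t) * t := by rw [S.td]
        _ = t * t := by group
        _ = 1 := S.t2
    rw [h5, one_mul] at h4
    rw [mul_eq_one_iff_eq_inv, S.t_inv] at h4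
    have h6 := S.d3
    rw [h4, S.t2, one_mul] at h6
    exact ht1 h6
  · -- `h d h⁻¹ = d⁻¹`
    have h4 : (t * h) * d * (t * h)⁻¹ = d := by
      have e : (t * h) * d * (t * h)⁻¹ = t * (h * d * h⁻¹) * t⁻¹ := by group
      rw [e, h3]
      have : t * d⁻¹ * t⁻¹ = (t * d * t⁻¹)⁻¹ := by group
      rw [this, S.tdt, inv_inv]
    obtain ⟨s, hs, k, h5, h6, h7⟩ := key _ h4
    refine ⟨t⁻¹ * s, mul_mem (inv_mem ht) hs, k, h5, h6, ?_⟩
    rw [mul_assoc, ← h7]; group
  · exfalso
    have h4 : (d⁻¹ * t) * (d⁻¹ * t) * (d⁻¹ * t) = 1 := by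
      rw [← h3]
      have : (h * d * h⁻¹) * (h * d * h⁻¹) * (h * d * h⁻¹) = h * (d * d * d) * h⁻¹ := by group
      rw [this, S.d3]; group
    have h5 : (d⁻¹ * t) * (d⁻¹ * t) = 1 := by
      calc (d⁻¹ * t) * (d⁻¹ * t) = (t * d) * (d⁻¹ * t) := by rw [S.td]
        _ = t * t := by group
        _ = 1 := S.t2
    rw [h5, one_mul] at h4
    have h6 : t = d := by
      calc t = d * (d⁻¹ * t) := by group
        _ = d := by rw [h4, mul_one]
    have h8 := S.d3
    rw [← h6, S.t2, one_mul] at h8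
    exact ht1 h8

end SD

end Cfsg.Agent.Omega.EH3.RowS

end

-- merged: Cfsg.Agent.Mrg.Omega.EH3.RowS.Front
section

/-!
# EH3, row S: the front (helper754)

From `C : Cfg ρ b q a D X w`, `S : Tri ρ X L d t`, `L` normal quasisimple with centre of odd order:

* `Tri.exists_QD` : the quadratic form `Q` on `U = C_V(t)`;
* `Tri.X_le` : `X ⊓ HH d t ≤ L`;
* `Tri.sd` : `SD ρ a d t (X ⊓ HH d t) L`;
* `Tri.cent_L` : `C_H(L) = {1, t, d, dt, d⁻¹, d⁻¹t}`;
* `Tri.exists_split` : `h = s * k`, `s ∈ ⟨d, t⟩`, `k ∈ HH d t`.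
-/

set_option autoImplicit false

namespace Cfsg.Agent.Omega.EH3.RowS

open Subgroup

namespace Tri

variable {H V : Type*} [Group H] [AddCommGroup V] [Module (ZMod 2) V]
  {ρ : H →* (V ≃ₗ[ZMod 2] V)} {b : LinearMap.BilinForm (ZMod 2) V} {q : V → ZMod 2}
  {a : V} {D : Submodule (ZMod 2) V} {X : Subgroup H} {w : ℕ} {L : Subgroup H} {d t : H}

variable (C : Cfg ρ b q a D X w) (S : Tri ρ X L d t)
include C S

theorem exists_QD (hN : L.Normal) (hq : IsQuasisimple L) (hZ : Odd (Nat.card (center L))) :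
    ∃ Q, QD (ρ₀ ρ d t) (gam ρ b d t) (⟨a, S.a_mem C⟩ : UU ρ t) (X.subgroupOf (HH d t))
      (L.subgroupOf (HH d t)) Q :=
  (S.ab C hN hq hZ).exists_QD

theorem X_le (hN : L.Normal) (hq : IsQuasisimple L) (hZ : Odd (Nat.card (center L))) : X ⊓ HH d t ≤ L := by
  obtain ⟨Q, hQ⟩ := S.exists_QD C hN hq hZ
  rintro x ⟨hx, hxH⟩
  have h : (⟨x, hxH⟩ : HH d t) ∈ X.subgroupOf (HH d t) := hx
  exact hQ.X_le (S.ab C hN hq hZ) h

theorem sd (hN : L.Normal) (hq : IsQuasisimple L) (hZ : Odd (Nat.card (center L))) :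
    SD ρ a d t (X ⊓ HH d t) L where
  a_ne := C.a_ne
  dd := S.om C
  d3 := S.ddd
  t2 := S.tt
  tdt := S.conj
  ta := C.X_a S.t_mem
  norm := hN
  cd := fun l hl => ((mem_HH.1 (S.L_le hl)).1).symm
  ct := fun l hl => ((mem_HH.1 (S.L_le hl)).2).symm
  le := S.X_le C hN hq hZ
  fix := by
    intro v hv
    obtain ⟨u, hu, u', hu', rfl⟩ := S.dec C v
    have key : ∀ x ∈ X ⊓ HH d t, ρ x u = u ∧ ρ x u' = u' := by
      intro x hx
      have h1 := hv x hx
      rw [map_add, comm_om hx.2] at h1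
      exact S.dec_uniq C (inv_U hx.2 hu) (inv_U hx.2 hu') hu hu' h1
    have A := S.ab C hN hq hZ
    have hfix : ∀ u (hu : u ∈ UU ρ t), (∀ x ∈ X ⊓ HH d t, ρ x u = u) → u = 0 ∨ u = a := by
      intro u hu h
      have h1 := A.fix_X (u := ⟨u, hu⟩) (by
        rintro ⟨x, hxH⟩ hx
        apply Subtype.ext
        exact h x ⟨hx, hxH⟩)
      rcases h1 with h1 | h1
      · exact Or.inl (congrArg Subtype.val h1)
      · exact Or.inr (congrArg Subtype.val h1)
    rcases hfix u hu (fun x hx => (key x hx).1) with h1 | h1 <;>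
      rcases hfix u' hu' (fun x hx => (key x hx).2) with h2 | h2
    · left; rw [h1, h2, map_zero, add_zero]
    · right; right; left; rw [h1, h2, zero_add]
    · right; left; rw [h1, h2, map_zero, add_zero]
    · right; right; right; rw [h1, h2]
  eq_one := by
    intro g hg hga hgd
    have h1 : UU ρ t ≤ LinearMap.eqLocus (ρ g : V →ₗ[ZMod 2] V) LinearMap.id := by
      apply S.U_le C hN hq
      intro l hl
      show ρ g (ρ l a) = ρ l a
      rw [← C.ρ_mul, ← hg l hl, C.ρ_mul, hga]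
    have h2 : UU ρ t ≤ LinearMap.eqLocus ((ρ g : V →ₗ[ZMod 2] V).comp (ρ d : V →ₗ[ZMod 2] V))
        (ρ d : V →ₗ[ZMod 2] V) := by
      apply S.U_le C hN hq
      intro l hl
      show ρ g (ρ d (ρ l a)) = ρ d (ρ l a)
      rw [← comm_om (S.L_le hl), ← C.ρ_mul, ← hg l hl, C.ρ_mul, hgd]
    apply C.ext
    intro v
    obtain ⟨u, hu, u', hu', rfl⟩ := S.dec C v
    rw [C.ρ_one, map_add]
    have h3 : ρ g u = u := h1 hu
    have h4 : ρ g (ρ d u') = ρ d u' := h2 hu'
    rw [h3, h4]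

omit S in
theorem X0_a : ∀ x ∈ X ⊓ HH d t, ρ x a = a := fun _ hx => C.X_a hx.1

/-- **`C_H(L) = ⟨d, t⟩`** -/
theorem cent_L (hN : L.Normal) (hq : IsQuasisimple L) (hZ : Odd (Nat.card (center L))) {g : H}
    (h : ∀ l ∈ L, l * g = g * l) : g = 1 ∨ g = t ∨ g = d ∨ g = d * t ∨ g = d⁻¹ ∨ g = d⁻¹ * t :=
  (S.sd C hN hq hZ).mem_of_comm (X0_a C) h

/-- **`H = ⟨d, t⟩ H₀`** -/
theorem exists_split (hN : L.Normal) (hq : IsQuasisimple L) (hZ : Odd (Nat.card (center L))) (h : H) :
    ∃ s ∈ closure {d, t}, ∃ k ∈ HH d t, h = s * k := by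
  obtain ⟨s, hs, k, h1, h2, h3⟩ := (S.sd C hN hq hZ).exists_split (X0_a C) h
  exact ⟨s, hs, k, mem_HH.2 ⟨h1.symm, h2.symm⟩, h3⟩

/-- `HH d t ∩ ⟨d, t⟩ = 1` -/
theorem closure_inf (hN : L.Normal) (hq : IsQuasisimple L) (hZ : Odd (Nat.card (center L))) {g : H}
    (h1 : g ∈ closure {d, t}) (h2 : g ∈ HH d t) : g = 1 := by
  have h3 : closure {d, t} ≤ centralizer (L : Set H) := by
    rw [closure_le]
    rintro x (rfl | rfl)
    · exact mem_centralizer_iff.2 fun l hl => (S.d_cent l hl).symm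
    · exact mem_centralizer_iff.2 fun l hl => (S.t_cent l hl).symm
  have hne : ¬ d * t = t * d := by
    intro h
    rw [S.td, mul_left_inj] at h
    exact S.dd_ne h
  obtain ⟨h4, h5⟩ := mem_HH.1 h2
  rcases S.cent_L C hN hq hZ (fun l hl => mem_centralizer_iff.1 (h3 h1) l hl) with h | h | h | h | h | h
  · exact h
  · exact absurd (h ▸ h2) S.t_not_mem
  · exfalso; apply hne; rw [h] at h5; exact h5.symm
  · exfalso
    apply hne
    rw [h, mul_assoc, mul_right_inj] at h4
    exact h4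
  · exfalso
    apply hne
    rw [h] at h5
    calc d * t = d * (t * d⁻¹) * d := by group
      _ = d * (d⁻¹ * t) * d := by rw [h5]
      _ = t * d := by group
  · exfalso
    apply hne
    rw [h] at h4
    calc d * t = d * (d * (d⁻¹ * t)) := by group
      _ = d * (d⁻¹ * t * d) := by rw [h4]
      _ = t * d := by group

end Tri

end Cfsg.Agent.Omega.EH3.RowS

end
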